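import Cfsg.Agent.Lib.PGroup.ModularB.Reduce
import Cfsg.Agent.Lib.CFun.OddZgroupCore
import Mathlib.FieldTheory.IsAlgClosed.AlgebraicClosure
import Cfsg.Agent.Lib.PGroup.HallHighmanFrob

/-!
# Theorem B of Hall and Higman: the unfaithful case and the vanishing norm
-/

set_option autoImplicit false
set_option linter.style.haveILetI false

open Subgroup

namespace CfsgLib.PGroup.ModularB

open CfsgLib.PGroup

universe u v w

variable {H : Type u} [Group H] [Finite H] {k : Type v} [Field k] [IsAlgClosed k] {W : Type w}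
  [AddCommGroup W] [Module k W] [FiniteDimensional k W]

/-- **Theorem B of Hall and Higman.** -/
theorem bound (ρ : H →* Module.End k W) {r q n : ℕ} [CharP k q] (hr : r.Prime) (hq : q.Prime)
    (hrq : r ≠ q) (a : H) (ha : a ^ q ^ (n + 1) = 1) (hdeg : (ρ a - 1) ^ (q ^ (n + 1) - 1) = 0)
    (R : Subgroup H) (hR : IsPGroup r R) (haR : a ∈ normalizer (R : Set H))
    (hne : ∃ x ∈ R, ρ (a ^ q ^ n * x * (a ^ q ^ n)⁻¹) ≠ ρ x) :
    ∃ j m i : ℕ, j + m = n ∧ 1 ≤ i ∧ q ^ (m + 1) = r ^ i + 1 ∧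
      (ρ a - 1) ^ (q ^ j * (q ^ (m + 1) - 1) - 1) ≠ 0 ∧ ∃ x ∈ R, ∃ y ∈ R, x * y ≠ y * x := by
  set π := QuotientGroup.mk' ρ.ker
  let ρ' : H ⧸ ρ.ker →* Module.End k W := QuotientGroup.lift ρ.ker ρ le_rfl
  have hρ' : Function.Injective ρ' := by
    intro x y e
    obtain ⟨g, rfl⟩ := QuotientGroup.mk_surjective x
    obtain ⟨g', rfl⟩ := QuotientGroup.mk_surjective y
    have e' : ρ g = ρ g' := e
    rw [QuotientGroup.eq, MonoidHom.mem_ker, map_mul, ← e', ← map_mul, inv_mul_cancel, map_one]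
  obtain ⟨j, m, i, h1, h2, h3, h4, ⟨_, ⟨x, hx, rfl⟩, _, ⟨y, hy, rfl⟩, hxy⟩, -⟩ :=
    bound_faithful ρ' hρ' hr hq hrq (π a) (by rw [← map_pow, ha, map_one]) hdeg _ (R.map π) le_rfl
      (hR.map π) (le_normalizer_map π ⟨a, haR, rfl⟩) (by
        obtain ⟨x, hx, hxne⟩ := hne
        exact ⟨π x, mem_map_of_mem π hx, fun e => hxne (by
          rw [← map_pow, ← map_inv, ← map_mul, ← map_mul] at e
          exact congrArg ρ' e)⟩)
  exact ⟨j, m, i, h1, h2, h3, h4, x, hx, y, hy, fun e => hxy (by rw [← map_mul, ← map_mul, e])⟩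

/-- If the norm of the `l`-power operator `a` vanishes, the socle of `⟨a⟩` fixes every `r`-group of
operators normalized by `a`, the exceptional configuration apart. -/
theorem socle_fixed {H : Type u} [Group H] [Finite H] {V : Type u} [CommGroup V] [Finite V] {l : ℕ}
    [hl : Fact l.Prime] (c : H →* MulAut V) (hV : ∀ v : V, v ^ l = 1) {n : ℕ} {a : H}
    (ha : a ^ l ^ (n + 1) = 1) {r : ℕ} (hr : r.Prime) (hrl : r ≠ l) {R : Subgroup H} (hR : IsPGroup r R)
    (haR : a ∈ normalizer (R : Set H))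
    (hex : (∀ x ∈ R, ∀ y ∈ R, x * y = y * x) ∨ ∀ m i : ℕ, 1 ≤ i → l ^ (m + 1) ≠ r ^ i + 1)
    (hN : ∀ v : V, ∏ i ∈ Finset.range (l ^ (n + 1)), c (a⁻¹ ^ i) v = 1) :
    ∀ y ∈ R, c (a ^ l ^ n * y * (a ^ l ^ n)⁻¹) = c y := by
  classical
  let k := AlgebraicClosure (ZMod l)
  haveI : CharP k l := charP_of_injective_algebraMap (algebraMap (ZMod l) k).injective l
  obtain ⟨hfd, -⟩ := CfsgLib.PGroup.finrank_addHom (V := V) hV k
  let ρ := dRep k c
  have hdeg : (ρ a - 1) ^ (l ^ (n + 1) - 1) = 0 := by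
    refine (sub_one_pow_geom (k := k) (p := l) (ρ a) (n + 1)).trans ?_
    refine LinearMap.ext fun f => AddMonoidHom.ext fun v => ?_
    rw [LinearMap.sum_apply, AddMonoidHom.finsetSum_apply, LinearMap.zero_apply, AddMonoidHom.zero_apply]
    calc ∑ i ∈ Finset.range (l ^ (n + 1)), ((ρ a ^ i) f) v
        = ∑ i ∈ Finset.range (l ^ (n + 1)), f (Additive.ofMul (c (a⁻¹ ^ i) v.toMul)) :=
          Finset.sum_congr rfl fun i _ => by
            rw [← map_pow, inv_pow]; exact dRep_apply c (a ^ i) f v.toMul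
      _ = f (Additive.ofMul (∏ i ∈ Finset.range (l ^ (n + 1)), c (a⁻¹ ^ i) v.toMul)) := by
          rw [ofMul_prod, map_sum]
      _ = 0 := by rw [hN, ofMul_one, map_zero]
  by_contra hne
  push Not at hne
  obtain ⟨y, hy, hyne⟩ := hne
  have hne' : ρ (a ^ l ^ n * y * (a ^ l ^ n)⁻¹) ≠ ρ y := fun e => hyne (by
    have e' : c (a ^ l ^ n * y * (a ^ l ^ n)⁻¹)⁻¹ = c y⁻¹ :=
      MulEquiv.ext fun v => CfsgLib.CFun.ZLen.eq_of_dRep_eq hV e v
    rwa [map_inv, map_inv, inv_inj] at e')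
  obtain ⟨j, m, i, -, hi, hqi, -, x, hx, z, hz, hxz⟩ :=
    bound ρ hr hl.out hrl a ha hdeg R hR haR ⟨y, hy, hne'⟩
  rcases hex with h | h
  · exact hxz (h x hx z hz)
  · exact h m i hi hqi

end CfsgLib.PGroup.ModularB
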