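import Cfsg.Agent.Lib.PGroup.PLengthExponent
import Cfsg.Agent.Lib.PGroup.ModularB.Norm

/-!
# Theorem B and the `p`-length
-/

set_option autoImplicit false
set_option linter.style.haveILetI false

open Subgroup
open scoped commutatorElement

namespace CfsgLib.PGroup.ModularB

open CfsgLib.Coprime (conjBy)

universe u

variable {G : Type u} [Group G] [Finite G] {p : ℕ} [hp : Fact p.Prime]

/-- The exceptional configuration of theorem B is excluded for the prime `p`. -/
def NoExc (p : ℕ) (G : Type u) [Group G] : Prop :=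
  ∀ q : ℕ, q.Prime → q ≠ p → (∀ Q : Subgroup G, IsPGroup q Q → IsMulCommutative Q) ∨
    ∀ m i : ℕ, 1 ≤ i → p ^ (m + 1) ≠ q ^ i + 1

theorem NoExc.quotient (h : NoExc p G) (N : Subgroup G) [N.Normal] : NoExc p (G ⧸ N) := by
  intro q hq hqp
  refine (h q hq hqp).imp_left fun hab Q hQ => ?_
  haveI := Fact.mk hq
  obtain ⟨T, hT⟩ := hQ.exists_le_sylow
  obtain ⟨S, hS⟩ := Sylow.mapSurjective_surjective (QuotientGroup.mk'_surjective N) q T
  have hSc := hab S S.2
  refine isMulCommutative_iff.2 fun a b => Subtype.ext ?_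
  have ha := hT a.2
  have hb := hT b.2
  rw [← hS, Sylow.coe_mapSurjective] at ha hb
  obtain ⟨x, hx, hxa⟩ := ha
  obtain ⟨y, hy, hyb⟩ := hb
  show (a : G ⧸ N) * b = b * a
  rw [← hxa, ← hyb, ← map_mul, ← map_mul]
  exact congrArg _ (congrArg Subtype.val (isMulCommutative_iff.1 hSc ⟨x, hx⟩ ⟨y, hy⟩))

/-- A Fermat exception needs `q = 2`. -/
theorem eq_two_of_eq_pow {p q m i : ℕ} (hp : p.Prime) (hp2 : p ≠ 2) (hq : q.Prime)
    (h : p ^ (m + 1) = q ^ i + 1) : q = 2 := by
  by_contra hq2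
  have h1 : Odd (p ^ (m + 1)) := (hp.odd_of_ne_two hp2).pow
  rw [h] at h1
  exact (Nat.not_even_iff_odd.2 h1) (hq.odd_of_ne_two hq2).pow.add_one

/-- The exception forces a Fermat prime. -/
theorem exists_fermat {p m i : ℕ} (hp : p.Prime) (hp2 : p ≠ 2) (h : p ^ (m + 1) = 2 ^ i + 1) :
    ∃ k : ℕ, p = 2 ^ k + 1 := by
  rcases Nat.even_or_odd (m + 1) with ⟨s, hs⟩ | hodd
  · have h3 := hp.two_le
    obtain ⟨x, hx⟩ : ∃ x, p ^ s = x + 1 := Nat.exists_eq_succ_of_ne_zero (pow_ne_zero _ hp.ne_zero)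
    have hmul : x * (x + 2) = 2 ^ i := by
      rw [hs, pow_add, hx] at h
      nlinarith
    obtain ⟨a, -, ha⟩ := (Nat.dvd_prime_pow Nat.prime_two).1 ⟨_, hmul.symm⟩
    obtain ⟨b, -, hb⟩ := (Nat.dvd_prime_pow Nat.prime_two).1 ⟨x, (mul_comm x (x + 2) ▸ hmul).symm⟩
    have ha1 : a = 1 := by
      rcases a with _ | _ | a
      · exfalso
        rw [pow_zero] at ha
        have h4 : (p ^ s) = 2 := by omega
        have h5 : p ∣ 2 := h4 ▸ dvd_pow_self p (by omega)
        exact hp2 ((Nat.prime_dvd_prime_iff_eq hp Nat.prime_two).1 h5)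
      · rfl
      · exfalso
        have := Nat.one_le_two_pow (n := a + 1 + 1)
        rcases b with _ | _ | b
        · rw [pow_zero] at hb
          omega
        · rw [pow_one] at hb
          omega
        · have e1 : 4 ∣ x := ⟨2 ^ a, by rw [ha, pow_succ, pow_succ]; ring⟩
          have e2 : 4 ∣ x + 2 := ⟨2 ^ b, by rw [hb, pow_succ, pow_succ]; ring⟩
          omega
    refine ⟨1, ?_⟩
    have h4 : p ^ s = 3 := by rw [ha1] at ha; omega
    exact (Nat.prime_dvd_prime_iff_eq hp Nat.prime_three).1 (h4 ▸ dvd_pow_self p (show s ≠ 0 by omega))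
  · have h1 : p - 1 ∣ p ^ (m + 1) - 1 := Nat.sub_one_dvd_pow_sub_one p (m + 1)
    rw [show p ^ (m + 1) - 1 = 2 ^ i by rw [h, Nat.add_sub_cancel]] at h1
    obtain ⟨k, -, hk⟩ := (Nat.dvd_prime_pow Nat.prime_two).1 h1
    exact ⟨k, by have := hp.two_le; have := Nat.one_le_two_pow (n := k); omega⟩

/-- The conjugation action of `G ⧸ V` on an abelian normal subgroup `V`. -/
def quotAct (V : Subgroup G) [V.Normal] [IsMulCommutative V] : G ⧸ V →* MulAut V :=
  QuotientGroup.lift V MulAut.conjNormal fun v hv => MulEquiv.ext fun w => Subtype.ext (by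
    rw [MulAut.conjNormal_apply, MulAut.one_apply, mul_inv_eq_iff_eq_mul]
    exact congrArg Subtype.val (isMulCommutative_iff.1 ‹IsMulCommutative V› ⟨v, hv⟩ w))

/-- The reduced case: an element with vanishing norm on `V` has its socle in `V`. -/
theorem mem_of_norm (V : Subgroup G) [V.Normal] (hV : Cfsg.IsElementaryAbelian p V)
    (hCV : centralizer (V : Set G) ≤ V)
    (hK : centralizer (Cfsg.pPrimeCore p (G ⧸ V) : Set (G ⧸ V)) ≤ Cfsg.pPrimeCore p (G ⧸ V))
    (hex : NoExc p G) {n : ℕ} {x : G} (hx : x ^ p ^ (n + 1) ∈ V)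
    (hN : ∀ v : G, v ∈ V → (v * x) ^ p ^ (n + 1) = x ^ p ^ (n + 1)) : x ^ p ^ n ∈ V := by
  classical
  haveI : IsMulCommutative V := hV.1
  letI : CommGroup V :=
    { (inferInstance : Group V) with mul_comm := fun a b => isMulCommutative_iff.1 hV.1 a b }
  set c := quotAct V with hc
  set π := QuotientGroup.mk' V with hπ
  set K' := Cfsg.pPrimeCore p (G ⧸ V) with hK'
  haveI : K'.Normal := inferInstance
  have hK'p : (Nat.card K').Coprime p := CfsgLib.Coprime.pPrimeCore_coprime hp.out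
  have hcinj : ∀ y z : G ⧸ V, c y = c z → y = z := by
    intro y z
    obtain ⟨g, rfl⟩ := QuotientGroup.mk_surjective y
    obtain ⟨g', rfl⟩ := QuotientGroup.mk_surjective z
    intro e
    rw [QuotientGroup.eq]
    refine hCV (mem_centralizer_iff.2 fun w hw => ?_)
    have e1 := congrArg (fun f : MulAut V => ((f ⟨w, hw⟩ : V) : G)) e
    change g * w * g⁻¹ = g' * w * g'⁻¹ at e1
    calc w * (g⁻¹ * g') = g⁻¹ * (g * w * g⁻¹) * g' := by group
      _ = g⁻¹ * g' * w := by rw [e1]; group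
  set a := (π x)⁻¹ with ha
  have hap : a ^ p ^ (n + 1) = 1 := by
    rw [ha, inv_pow, ← map_pow, inv_eq_one]
    exact (QuotientGroup.eq_one_iff _).2 hx
  have hnorm : ∀ v : V, ∏ i ∈ Finset.range (p ^ (n + 1)), c (a⁻¹ ^ i) v = 1 := by
    intro v
    have h1 := CfsgLib.PGroup.PLengthExponent.mul_pow_eq_prod V.subtype (MulAut.conjNormal : G →* MulAut V)
      (fun h w => MulAut.conjNormal_apply h w) v x (p ^ (n + 1))
    rw [Subgroup.coe_subtype, hN v v.2] at h1
    have h2 : ∏ i ∈ Finset.range (p ^ (n + 1)), (MulAut.conjNormal (x ^ i) : MulAut V) v = 1 := by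
      refine Subtype.ext ?_
      rw [OneMemClass.coe_one]
      exact (mul_eq_right.1 h1.symm)
    rw [← h2]
    refine Finset.prod_congr rfl fun i _ => ?_
    rw [ha, inv_inv, ← map_pow]
    rfl
  have hle : K' ≤ centralizer ({a ^ p ^ n} : Set (G ⧸ V)) := by
    refine CfsgLib.CFun.le_of_invariant_sylows (A := zpowers a) ?_ ?_
      (Or.inl (CfsgLib.Coprime.isSolvable_of_isMulCommutative inferInstance)) fun q hq hqd Q hQK hQ hAQ => ?_
    · rw [normalizer_eq_top_iff.2 ‹K'.Normal›]; exact le_top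
    · rw [Nat.card_zpowers]
      exact Nat.Coprime.coprime_dvd_left (orderOf_dvd_of_pow_eq_one hap) (hK'p.symm.pow_left _)
    · have hqp : q ≠ p := by
        rintro rfl
        exact hq.ne_one (Nat.eq_one_of_dvd_coprimes hK'p hqd dvd_rfl)
      have hfix := socle_fixed c (fun v => Subtype.ext (by simpa using hV.2 v v.2)) hap hq hqp hQ
        (hAQ (mem_zpowers a)) (((NoExc.quotient hex V) q hq hqp).imp_left fun hab y hy z hz =>
          congrArg Subtype.val (isMulCommutative_iff.1 (hab Q hQ) ⟨y, hy⟩ ⟨z, hz⟩)) hnorm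
      intro y hy
      exact mem_centralizer_singleton_iff.2 (mul_inv_eq_iff_eq_mul.1 (hcinj _ _ (hfix y hy))).symm
  have hmem : a ^ p ^ n ∈ K' := hK (mem_centralizer_iff.2 fun k hk => mem_centralizer_singleton_iff.1 (hle hk))
  have h1 : a ^ p ^ n = 1 := by
    refine orderOf_eq_one_iff.1 (Nat.eq_one_of_dvd_coprimes (hK'p.pow_right (n + 1)) ?_ ?_)
    · rw [← Subgroup.orderOf_mk _ hmem]; exact orderOf_dvd_natCard _
    · refine (orderOf_pow_dvd _).trans ?_
      exact orderOf_dvd_of_pow_eq_one hap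
  rw [ha, inv_pow, inv_eq_one, ← map_pow] at h1
  exact (QuotientGroup.eq_one_iff _).1 h1

/-- The reduction to a self-centralizing elementary abelian `O_p`. -/
theorem exists_reduced (hG : Cfsg.IsPSolvable p G) (hcore : Cfsg.pPrimeCore p G = ⊥) :
    ∃ (Φ : Subgroup G) (_ : Φ.Normal) (V : Subgroup (G ⧸ Φ)) (_ : V.Normal),
      Cfsg.IsElementaryAbelian p V ∧ centralizer (V : Set (G ⧸ Φ)) ≤ V ∧
      centralizer (Cfsg.pPrimeCore p ((G ⧸ Φ) ⧸ V) : Set ((G ⧸ Φ) ⧸ V)) ≤
        Cfsg.pPrimeCore p ((G ⧸ Φ) ⧸ V) ∧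
      (Cfsg.pCore p G).map (QuotientGroup.mk' Φ) ≤ V ∧
      ∀ x : G, QuotientGroup.mk' Φ x ∈ V → x ∈ Cfsg.pCore p G := by
  classical
  have hp : p.Prime := hp.out
  set F := Cfsg.pCore p G with hF
  haveI hFn : F.Normal := CfsgLib.Coprime.pCore_normal' p
  have hFp : IsPGroup p F := CfsgLib.Coprime.pCore_isPGroup p
  have hCF : centralizer (F : Set G) ≤ F := CfsgLib.Block.centralizer_pCore_le_of_isPSolvable hG hcore
  set Φ := (frattini F).map F.subtype with hΦdef
  haveI hΦn : Φ.Normal := CfsgLib.Coprime.map_subtype_normal_of_characteristic F (frattini F)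
  have hΦF : Φ ≤ F := map_subtype_le _
  set π := QuotientGroup.mk' Φ with hπ
  have hπ0 : ∀ x, π x = 1 ↔ x ∈ Φ := fun x => QuotientGroup.eq_one_iff x
  set V := F.map π with hVdef
  haveI hVn : V.Normal := hFn.map _ (QuotientGroup.mk'_surjective Φ)
  have hVel : Cfsg.IsElementaryAbelian p V := by
    refine ⟨isMulCommutative_iff.2 ?_, ?_⟩
    · rintro ⟨_, x, hx, rfl⟩ ⟨_, y, hy, rfl⟩
      refine Subtype.ext ?_
      show π x * π y = π y * π x
      rw [← commutatorElement_eq_one_iff_mul_comm, ← map_commutatorElement, hπ0]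
      exact ⟨⁅(⟨x, hx⟩ : F), ⟨y, hy⟩⁆,
        CfsgLib.Coprime.commutator_le_frattini hFp (commutator_mem_commutator (mem_top _) (mem_top _)), rfl⟩
    · rintro _ ⟨x, hx, rfl⟩
      rw [← map_pow, hπ0]
      exact ⟨(⟨x, hx⟩ : F) ^ p, CfsgLib.Coprime.pow_mem_frattini hFp _, rfl⟩
  have hCV : centralizer (V : Set (G ⧸ Φ)) ≤ V := by
    set C2 := (centralizer (V : Set (G ⧸ Φ))).comap π with hC2
    haveI : (centralizer (V : Set (G ⧸ Φ))).Normal := normal_centralizer
    haveI : C2.Normal := (inferInstance : (centralizer (V : Set (G ⧸ Φ))).Normal).comap π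
    have hC2p : IsPGroup p C2 := by
      refine IsPGroup.iff_card.2 ⟨_, Nat.eq_prime_pow_of_unique_prime_dvd Nat.card_pos.ne' fun {q} hq hqd => ?_⟩
      by_contra hqp
      haveI := Fact.mk hq
      obtain ⟨x, hx⟩ := exists_prime_orderOf_dvd_card' (G := C2) q hqd
      rw [← Subgroup.orderOf_coe] at hx
      have hxn : zpowers (x : G) ≤ normalizer (F : Set G) := by
        rw [normalizer_eq_top_iff.2 hFn]; exact le_top
      have hle : zpowers (x : G) ≤ centralizer (F : Set G) := by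
        refine CfsgLib.Coprime.le_centralizer_of_trivial_on_frattini_quotient hxn ?_ ?_
        · obtain ⟨k, hk⟩ := IsPGroup.iff_card.1 (hFp.to_subgroup (frattini F))
          rw [Nat.card_zpowers, hx, hk]
          exact ((Nat.coprime_primes hq hp).2 hqp).pow_right k
        · intro b hb f hf
          show b * f * b⁻¹ * f⁻¹ ∈ Φ
          rw [← commutatorElement_def, ← hπ0, map_commutatorElement, commutatorElement_eq_one_iff_mul_comm]
          have hbC : b ∈ C2 := zpowers_le.2 x.2 hb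
          exact (mem_centralizer_iff.1 hbC (π f) (mem_map_of_mem _ hf)).symm
      obtain ⟨k, hk⟩ := IsPGroup.iff_card.1 hFp
      have hxF : (x : G) ∈ F := hCF (hle (mem_zpowers _))
      have hd := orderOf_dvd_natCard (⟨x, hxF⟩ : F)
      rw [Subgroup.orderOf_mk, hx, hk] at hd
      exact hqp ((Nat.prime_dvd_prime_iff_eq hq hp).1 (hq.dvd_of_dvd_pow hd))
    intro c hc
    obtain ⟨x, rfl⟩ := QuotientGroup.mk'_surjective Φ c
    exact mem_map_of_mem _ (CfsgLib.Coprime.le_pCore hC2p hc)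
  have hO : Cfsg.pCore p ((G ⧸ Φ) ⧸ V) = ⊥ := by
    set f := (QuotientGroup.mk' V).comp π with hf
    have hfs : Function.Surjective f := (QuotientGroup.mk'_surjective V).comp (QuotientGroup.mk'_surjective Φ)
    have hker : f.ker = F := by
      rw [hf, ← MonoidHom.comap_ker, QuotientGroup.ker_mk', hVdef, comap_map_eq, QuotientGroup.ker_mk',
        sup_eq_left.2 hΦF]
    set O := Cfsg.pCore p ((G ⧸ Φ) ⧸ V)
    haveI : O.Normal := CfsgLib.Coprime.pCore_normal' p
    haveI : (O.comap f).Normal := (inferInstance : O.Normal).comap f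
    have hle : O.comap f ≤ F := CfsgLib.Coprime.le_pCore
      ((CfsgLib.Coprime.pCore_isPGroup (G := (G ⧸ Φ) ⧸ V) p).comap_of_ker_isPGroup f (hker.symm ▸ hFp))
    rw [eq_bot_iff, ← map_comap_eq_self_of_surjective hfs O]
    refine (map_mono hle).trans ?_
    rw [← hker, map_le_iff_le_comap, MonoidHom.comap_bot]
  have hK := CfsgLib.FFPair.centralizer_pPrimeCore_le_of_isPSolvable
    (CfsgLib.PGroup.isPSolvable_quotient hp (CfsgLib.PGroup.isPSolvable_quotient hp hG Φ) V) hO
  refine ⟨Φ, hΦn, V, hVn, hVel, hCV, hK, le_rfl, fun x hx => ?_⟩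
  obtain ⟨f, hf, hfa⟩ := hx
  have h2 : f⁻¹ * x ∈ Φ := by rw [← hπ0, map_mul, map_inv, hfa, inv_mul_cancel]
  simpa using mul_mem hf (hΦF h2)

/-- With trivial `p'`-core the `p ^ n`-th powers of `p`-elements lie in `O_p`. -/
theorem pow_mem_pCore (hG : Cfsg.IsPSolvable p G) (hcore : Cfsg.pPrimeCore p G = ⊥) (hex : NoExc p G)
    {n : ℕ} (hexp : ∀ x : G, IsPGroup p (zpowers x) → x ^ p ^ (n + 1) = 1)
    {x : G} (hx : IsPGroup p (zpowers x)) : x ^ p ^ n ∈ Cfsg.pCore p G := by
  obtain ⟨Φ, hΦ, V, hV, hVel, hCV, hK, -, hback⟩ := exists_reduced hG hcore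
  have hexp' : ∀ y : G ⧸ Φ, IsPGroup p (zpowers y) → y ^ p ^ (n + 1) = 1 := by
    intro y hy
    obtain ⟨z, hz, rfl⟩ := CfsgLib.PGroup.PLengthExponent.exists_pPart_lift (QuotientGroup.mk' Φ)
      (QuotientGroup.mk'_surjective Φ) hy
    rw [← map_pow, hexp z hz, map_one]
  refine hback _ ?_
  rw [map_pow]
  have hxp : IsPGroup p (zpowers (QuotientGroup.mk' Φ x)) := by
    rw [← MonoidHom.map_zpowers]; exact hx.map _
  refine mem_of_norm V hVel hCV hK (hex.quotient Φ) (by rw [hexp' _ hxp]; exact one_mem V) fun v hv => ?_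
  have hVp : IsPGroup p V := fun y => ⟨1, Subtype.ext (by simpa using hVel.2 y y.2)⟩
  rw [hexp' _ hxp, hexp' _ ((hxp.to_sup_of_normal_right hVp).to_le
    (zpowers_le.2 (mul_mem (mem_sup_right hv) (mem_sup_left (mem_zpowers _)))))]

/-- The `p`-length is at most the exponent, the exception apart. -/
theorem pLengthLE_of_exponent : ∀ (n : ℕ) (G : Type u) [Group G] [Finite G], Cfsg.IsPSolvable p G →
    NoExc p G →
    (∀ x : G, IsPGroup p (zpowers x) → x ^ p ^ n = 1) → Cfsg.PLengthLE p n G := by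
  intro n
  induction n with
  | zero =>
    intro G _ _ _ _ hexp
    show (Cfsg.upperPSeries p G (2 * 0 + 1)).1 = ⊤
    rw [show 2 * 0 + 1 = 1 from rfl, CfsgLib.PGroup.pPrimeCore_eq_term_one]
    refine top_le_iff.1 (CfsgLib.Coprime.le_pPrimeCore_of_not_dvd hp.out ?_)
    rw [card_top]
    intro hd
    obtain ⟨x, hx⟩ := exists_prime_orderOf_dvd_card' p hd
    have h1 := hexp x (IsPGroup.of_card (n := 1) (by rw [Nat.card_zpowers, hx, pow_one]))
    rw [pow_zero, pow_one] at h1
    exact hp.out.ne_one (by rw [← hx, h1, orderOf_one])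
  | succ n ih =>
    intro G _ _ hsol hab hexp
    set U₁ := (Cfsg.upperPSeries p G 1).1 with hU₁
    set U₂ := (Cfsg.upperPSeries p G 2).1 with hU₂
    haveI : U₁.Normal := (Cfsg.upperPSeries p G 1).2
    haveI : U₂.Normal := (Cfsg.upperPSeries p G 2).2
    have hU₂eq : U₂ = stepP p U₁ := CfsgLib.PGroup.upperPSeries_succ_odd (n := 1) (by simp)
    have hbot : Cfsg.pPrimeCore p (G ⧸ U₁) = ⊥ :=
      CfsgLib.PGroup.pPrimeCore_stepPrime_eq_bot _ U₁ (CfsgLib.PGroup.upperPSeries_succ_even Even.zero)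
    have hpow : ∀ x : G, IsPGroup p (zpowers x) → x ^ p ^ n ∈ U₂ := by
      intro x hx
      rw [hU₂eq, mem_comap, map_pow]
      refine pow_mem_pCore (CfsgLib.PGroup.isPSolvable_quotient hp.out hsol U₁) hbot
        (hab.quotient U₁) ?_ (by rw [← MonoidHom.map_zpowers]; exact hx.map _)
      intro y hy
      obtain ⟨z, hz, rfl⟩ := CfsgLib.PGroup.PLengthExponent.exists_pPart_lift (QuotientGroup.mk' U₁) (QuotientGroup.mk'_surjective U₁) hy
      rw [← map_pow, hexp z hz, map_one]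
    have h := ih (G ⧸ U₂) (CfsgLib.PGroup.isPSolvable_quotient hp.out hsol U₂)
      (hab.quotient U₂) (fun y hy => by
        obtain ⟨z, hz, rfl⟩ := CfsgLib.PGroup.PLengthExponent.exists_pPart_lift (QuotientGroup.mk' U₂) (QuotientGroup.mk'_surjective U₂) hy
        rw [← map_pow]
        exact (QuotientGroup.eq_one_iff _).2 (hpow z hz))
    have hshift := CfsgLib.PGroup.upperPSeries_shift (p := p) U₂ even_two rfl (2 * n + 1)
    rw [h, comap_top] at hshift
    show (Cfsg.upperPSeries p G (2 * (n + 1) + 1)).1 = ⊤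
    rw [show 2 * (n + 1) + 1 = 2 * n + 1 + 2 by omega]
    exact hshift.symm

end CfsgLib.PGroup.ModularB
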