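import Cfsg.Agent.Lib.PGroup.ModularB.Socle

/-!
# The `p`-length is at most twice the exponent, for odd `p`
-/

set_option autoImplicit false
set_option linter.style.haveILetI false

open Subgroup
open scoped commutatorElement

namespace CfsgLib.PGroup.ModularB

open CfsgLib.PGroup

universe u v

/-- A normal `p`-subgroup lies in every Sylow `p`-subgroup. -/
theorem le_sylow_of_normal {G : Type u} [Group G] [Finite G] {p : ℕ} [Fact p.Prime] {N : Subgroup G}
    [N.Normal] (hN : IsPGroup p N) (S : Sylow p G) : N ≤ S :=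
  sup_eq_left.1 (S.3 (S.2.to_sup_of_normal_right hN) le_sup_left)

/-- The socles of a `p`-group of operators with vanishing norms commute. -/
theorem socle_commute {G : Type u} [Group G] [Finite G] {p : ℕ} [hp : Fact p.Prime] (hp2 : p ≠ 2)
    (hK : centralizer (Cfsg.pPrimeCore p G : Set G) ≤ Cfsg.pPrimeCore p G)
    {V : Type u} [CommGroup V] [Finite V] (hV : ∀ v : V, v ^ p = 1) (c : G →* MulAut V)
    (hc : Function.Injective c) {n : ℕ} (S : Subgroup G) (hS : IsPGroup p S)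
    (hexp : ∀ g ∈ S, g ^ p ^ (n + 1) = 1)
    (hN : ∀ g ∈ S, ∀ v : V, ∏ i ∈ Finset.range (p ^ (n + 1)), c (g ^ i) v = 1) {g h : G} (hg : g ∈ S)
    (hh : h ∈ S) : g ^ p ^ n * h ^ p ^ n = h ^ p ^ n * g ^ p ^ n := by
  classical
  let k := AlgebraicClosure (ZMod p)
  haveI : CharP k p := charP_of_injective_algebraMap (algebraMap (ZMod p) k).injective p
  obtain ⟨hfd, -⟩ := CfsgLib.PGroup.finrank_addHom (V := V) hV k
  let ρ := dRep k c
  have hρ : Function.Injective ρ := fun a b hab => by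
    have h1 : c (a * b⁻¹) = 1 := eq_one_of_dRep hV c (by
      show ρ (a * b⁻¹) = 1
      rw [map_mul, hab, ← map_mul, mul_inv_cancel, map_one])
    exact mul_inv_eq_one.1 (hc (h1.trans (map_one c).symm))
  have hdeg : ∀ a ∈ S, (ρ a - 1) ^ (p ^ (n + 1) - 1) = 0 := by
    intro a ha
    refine (sub_one_pow_geom (k := k) (p := p) (ρ a) (n + 1)).trans ?_
    refine LinearMap.ext fun f => AddMonoidHom.ext fun v => ?_
    rw [LinearMap.sum_apply, AddMonoidHom.finsetSum_apply, LinearMap.zero_apply, AddMonoidHom.zero_apply]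
    calc ∑ i ∈ Finset.range (p ^ (n + 1)), ((ρ a ^ i) f) v
        = ∑ i ∈ Finset.range (p ^ (n + 1)), f (Additive.ofMul (c (a⁻¹ ^ i) v.toMul)) :=
          Finset.sum_congr rfl fun i _ => by
            rw [← map_pow, inv_pow]; exact dRep_apply c (a ^ i) f v.toMul
      _ = f (Additive.ofMul (∏ i ∈ Finset.range (p ^ (n + 1)), c (a⁻¹ ^ i) v.toMul)) := by
          rw [ofMul_prod, map_sum]
      _ = 0 := by rw [hN _ (inv_mem ha), ofMul_one, map_zero]
  set L := closure {t | ∃ a ∈ S, t = a ^ p ^ n} with hL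
  have hgL : ∀ a ∈ S, a ^ p ^ n ∈ L := fun a ha => subset_closure ⟨a, ha, rfl⟩
  suffices hD : ⁅L, L⁆ = ⊥ by
    have := commutator_mem_commutator (hgL g hg) (hgL h hh)
    rwa [hD, mem_bot, commutatorElement_eq_one_iff_mul_comm] at this
  by_contra hD
  have hLS : L ≤ S := by
    rw [hL, Subgroup.closure_le]
    rintro _ ⟨a, ha, rfl⟩
    exact pow_mem ha _
  have hDS : ⁅L, L⁆ ≤ S := (commutator_le_self L).trans hLS
  have hLn : ∀ a ∈ S, L.map (MulAut.conj a).toMonoidHom = L := by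
    intro a ha
    refine eq_of_le_of_card_ge ?_ (card_map_of_injective (MulAut.conj a).injective).ge
    rw [map_le_iff_le_comap, hL, Subgroup.closure_le]
    rintro _ ⟨b, hb, rfl⟩
    show MulAut.conj a (b ^ p ^ n) ∈ Subgroup.closure _
    rw [map_pow]
    exact subset_closure ⟨a * b * a⁻¹, mul_mem (mul_mem ha hb) (inv_mem ha), rfl⟩
  haveI hDn : (⁅L, L⁆.subgroupOf S).Normal := by
    refine normal_subgroupOf_iff_le_normalizer hDS |>.2 fun a ha => ?_
    rw [mem_normalizer_iff_map_conj_eq, map_commutator]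
    exact congrArg₂ (fun A B : Subgroup G => ⁅A, B⁆) (hLn a ha) (hLn a ha)
  haveI : Group.IsNilpotent S := hS.isNilpotent
  have hne : ⁅L, L⁆.subgroupOf S ⊓ center S ≠ ⊥ := CfsgLib.Coprime.nilpotent_inf_center_ne_bot _
    fun e => hD (by rw [← map_subgroupOf_eq_of_le hDS, e, Subgroup.map_bot])
  obtain ⟨e, he⟩ := IsPGroup.iff_card.1 (hS.to_subgroup (⁅L, L⁆.subgroupOf S ⊓ center S))
  obtain ⟨⟨z, hz⟩, hzord⟩ := exists_prime_orderOf_dvd_card' (G := ↥(⁅L, L⁆.subgroupOf S ⊓ center S)) p (by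
    rw [he]
    exact dvd_pow_self p fun e0 => hne (card_eq_one.1 (by rw [he, e0, pow_zero])))
  rw [Subgroup.orderOf_mk] at hzord
  obtain ⟨hzD, hzC⟩ := Subgroup.mem_inf.1 hz
  have hzp : orderOf (z : G) = p := by rw [Subgroup.orderOf_coe, hzord]
  have hle : Cfsg.pPrimeCore p G ≤ centralizer ({(z : G)} : Set G) := by
    have hKp := CfsgLib.Coprime.pPrimeCore_coprime (G := G) hp.out
    refine CfsgLib.CFun.le_of_invariant_sylows (A := S) ?_ ?_
      (Or.inl (CfsgLib.Coprime.isSolvable_of_isNilpotent inferInstance)) fun q hq hqd Q hQK hQ hSQ => ?_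
    · rw [normalizer_eq_top_iff.2 (inferInstance : (Cfsg.pPrimeCore p G).Normal)]; exact le_top
    · obtain ⟨e, he⟩ := IsPGroup.iff_card.1 hS
      rw [he]
      exact (hKp.symm.pow_left e)
    · have hqp : q ≠ p := by
        rintro rfl
        exact hq.ne_one (Nat.eq_one_of_dvd_coprimes hKp hqd dvd_rfl)
      intro y hy
      refine mem_centralizer_singleton_iff.2 (mul_inv_eq_iff_eq_mul.1 ?_).symm
      exact centralizes_invariant ρ hρ hp.out hp2 S hS hexp hdeg hL z.2 hzD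
        (fun a ha => congrArg Subtype.val (mem_center_iff.1 hzC ⟨a, ha⟩))
        (by rw [← hzp, pow_orderOf_eq_one]) hq hqp _ Q le_rfl hQ hSQ y hy
  have hmem : (z : G) ∈ Cfsg.pPrimeCore p G :=
    hK (mem_centralizer_iff.2 fun y hy => mem_centralizer_singleton_iff.1 (hle hy))
  refine hp.out.ne_one (Nat.eq_one_of_dvd_coprimes (CfsgLib.Coprime.pPrimeCore_coprime (G := G) hp.out)
    ?_ dvd_rfl)
  have := orderOf_dvd_natCard (⟨(z : G), hmem⟩ : Cfsg.pPrimeCore p G)
  rwa [Subgroup.orderOf_mk, hzp] at this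

variable {G : Type u} [Group G] [Finite G] {p : ℕ} [hp : Fact p.Prime]

/-- The reduced case for commuting socles. -/
theorem mem_of_commute (hp2 : p ≠ 2) (V : Subgroup G) [V.Normal] (hV : Cfsg.IsElementaryAbelian p V)
    (hCV : centralizer (V : Set G) ≤ V)
    (hK : centralizer (Cfsg.pPrimeCore p (G ⧸ V) : Set (G ⧸ V)) ≤ Cfsg.pPrimeCore p (G ⧸ V))
    {n : ℕ} {x : G} (hx : x ^ p ^ (n + 1) ∈ V)
    (hcomm : ∀ v ∈ V, (v * x) ^ p ^ n * x ^ p ^ n = x ^ p ^ n * (v * x) ^ p ^ n) : x ^ p ^ n ∈ V := by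
  classical
  haveI : IsMulCommutative V := hV.1
  letI : CommGroup V :=
    { (inferInstance : Group V) with mul_comm := fun a b => isMulCommutative_iff.1 hV.1 a b }
  set c := quotAct V with hc
  set π := QuotientGroup.mk' V with hπ
  set K' := Cfsg.pPrimeCore p (G ⧸ V) with hK'
  haveI : K'.Normal := inferInstance
  have hK'p : (Nat.card K').Coprime p := CfsgLib.Coprime.pPrimeCore_coprime hp.out
  have hcinj : ∀ y z : G ⧸ V, c y = c z → y = z := by
    intro y z
    obtain ⟨g, rfl⟩ := QuotientGroup.mk_surjective y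
    obtain ⟨g', rfl⟩ := QuotientGroup.mk_surjective z
    intro e
    rw [QuotientGroup.eq]
    refine hCV (mem_centralizer_iff.2 fun w hw => ?_)
    have e1 := congrArg (fun f : MulAut V => ((f ⟨w, hw⟩ : V) : G)) e
    change g * w * g⁻¹ = g' * w * g'⁻¹ at e1
    calc w * (g⁻¹ * g') = g⁻¹ * (g * w * g⁻¹) * g' := by group
      _ = g⁻¹ * g' * w := by rw [e1]; group
  have hVpow : ∀ v : V, v ^ p = 1 := fun v => Subtype.ext (by simpa using hV.2 v v.2)
  set a := (π x)⁻¹ with ha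
  have hap : a ^ p ^ (n + 1) = 1 := by
    rw [ha, inv_pow, ← map_pow, inv_eq_one]
    exact (QuotientGroup.eq_one_iff _).2 hx
  let k := AlgebraicClosure (ZMod p)
  haveI : CharP k p := charP_of_injective_algebraMap (algebraMap (ZMod p) k).injective p
  obtain ⟨hfd, -⟩ := CfsgLib.PGroup.finrank_addHom (V := V) hVpow k
  let ρ := dRep k c
  have hρ : Function.Injective ρ := fun y z hyz => by
    have h1 : c (y * z⁻¹) = 1 := eq_one_of_dRep hVpow c (by
      show ρ (y * z⁻¹) = 1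
      rw [map_mul, hyz, ← map_mul, mul_inv_cancel, map_one])
    exact mul_inv_eq_one.1 (hcinj _ _ (h1.trans (map_one c).symm))
  have hnorm : ∀ v : V, c (π x ^ p ^ n) (∏ i ∈ Finset.range (p ^ n), c (π x ^ i) v) =
      ∏ i ∈ Finset.range (p ^ n), c (π x ^ i) v := by
    intro v
    have h1 := CfsgLib.PGroup.PLengthExponent.mul_pow_eq_prod V.subtype (MulAut.conjNormal : G →* MulAut V)
      (fun h w => MulAut.conjNormal_apply h w) v x (p ^ n)
    rw [Subgroup.coe_subtype] at h1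
    have hprod : ∏ i ∈ Finset.range (p ^ n), c (π x ^ i) v =
        ∏ i ∈ Finset.range (p ^ n), (MulAut.conjNormal (x ^ i) : MulAut V) v :=
      Finset.prod_congr rfl fun i _ => by rw [← map_pow]; rfl
    rw [hprod]
    obtain ⟨w, hw⟩ : ∃ w : V, w = ∏ i ∈ Finset.range (p ^ n), (MulAut.conjNormal (x ^ i) : MulAut V) v :=
      ⟨_, rfl⟩
    rw [← hw] at h1 ⊢
    have h2 := hcomm v v.2
    rw [h1] at h2
    refine Subtype.ext ?_
    show ((MulAut.conjNormal (x ^ p ^ n) : MulAut V) w : G) = (w : G)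
    rw [MulAut.conjNormal_apply]
    calc x ^ p ^ n * w * (x ^ p ^ n)⁻¹
        = (x ^ p ^ n * ((w : G) * x ^ p ^ n)) * (x ^ p ^ n)⁻¹ * (x ^ p ^ n)⁻¹ := by group
      _ = ((w : G) * x ^ p ^ n * x ^ p ^ n) * (x ^ p ^ n)⁻¹ * (x ^ p ^ n)⁻¹ := by rw [h2]
      _ = w := by group
  have hdeg : (ρ a - 1) ^ (p ^ n + (p ^ n - 1)) = 0 := by
    rw [pow_add]
    refine (congrArg₂ (· * ·) (sub_one_pow_prime_pow (k := k) (p := p) (ρ a) n)
      (sub_one_pow_geom (k := k) (p := p) (ρ a) n)).trans ?_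
    refine LinearMap.ext fun f => AddMonoidHom.ext fun v => ?_
    have hev : ∀ (i : ℕ) (f : Additive V →+ k) (w : Additive V),
        ((ρ a ^ i) f) w = f (Additive.ofMul (c (π x ^ i) w.toMul)) := fun i f w => by
      rw [← map_pow, show π x ^ i = (a ^ i)⁻¹ by rw [ha, inv_pow, inv_inv]]
      exact dRep_apply c (a ^ i) f w.toMul
    have hS : ∀ w : Additive V, ((∑ i ∈ Finset.range (p ^ n), ρ a ^ i) f) w =
        f (Additive.ofMul (∏ i ∈ Finset.range (p ^ n), c (π x ^ i) w.toMul)) := fun w => by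
      rw [LinearMap.sum_apply, AddMonoidHom.finsetSum_apply, ofMul_prod, map_sum]
      exact Finset.sum_congr rfl fun i _ => hev i f w
    rw [Module.End.mul_apply, LinearMap.sub_apply, Module.End.one_apply, AddMonoidHom.sub_apply, hev, hS,
      hS, toMul_ofMul, LinearMap.zero_apply, AddMonoidHom.zero_apply, sub_eq_zero]
    refine congrArg (fun w : V => f (Additive.ofMul w)) ?_
    rw [← hnorm v.toMul, map_prod]
    refine Finset.prod_congr rfl fun i _ => ?_
    rw [← MulAut.mul_apply, ← MulAut.mul_apply, ← map_mul, ← map_mul, ← pow_add, ← pow_add, add_comm]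
  have hle : K' ≤ centralizer ({a ^ p ^ n} : Set (G ⧸ V)) := by
    refine CfsgLib.CFun.le_of_invariant_sylows (A := zpowers a) ?_ ?_
      (Or.inl (CfsgLib.Coprime.isSolvable_of_isMulCommutative inferInstance)) fun q hq hqd Q hQK hQ hAQ => ?_
    · rw [normalizer_eq_top_iff.2 ‹K'.Normal›]; exact le_top
    · rw [Nat.card_zpowers]
      exact Nat.Coprime.coprime_dvd_left (orderOf_dvd_of_pow_eq_one hap) (hK'p.symm.pow_left _)
    · have hqp : q ≠ p := by
        rintro rfl
        exact hq.ne_one (Nat.eq_one_of_dvd_coprimes hK'p hqd dvd_rfl)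
      intro y hy
      refine mem_centralizer_singleton_iff.2 (mul_inv_eq_iff_eq_mul.1 ?_).symm
      by_contra hne
      have h3 : 3 ≤ p := by have := hp.out.two_le; omega
      have hpn := Nat.one_le_pow n p hp.out.pos
      have hp3 : p ^ n * 3 ≤ p ^ n * p := Nat.mul_le_mul_left _ h3
      obtain ⟨j, m, i, hjm, -, -, hblock, -⟩ := bound ρ hq hp.out hqp a hap
        (pow_eq_zero_of_le (by rw [pow_succ]; omega) hdeg) Q hQ (hAQ (mem_zpowers a))
        ⟨y, hy, fun e => hne (hρ e)⟩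
      refine hblock (pow_eq_zero_of_le ?_ hdeg)
      have hjn : p ^ j ≤ p ^ n := Nat.pow_le_pow_right hp.out.pos (by omega)
      have hprod : p ^ j * p ^ (m + 1) = p ^ n * p := by rw [← pow_add, ← pow_succ]; congr 1; omega
      have hm1 := Nat.one_le_pow (m + 1) p hp.out.pos
      have hsplit : p ^ j * p ^ (m + 1) = p ^ j * (p ^ (m + 1) - 1) + p ^ j := by
        conv_lhs => rw [← Nat.sub_add_cancel hm1, Nat.mul_succ]
      omega
  have hmem : a ^ p ^ n ∈ K' := hK (mem_centralizer_iff.2 fun k hk => mem_centralizer_singleton_iff.1 (hle hk))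
  have h1 : a ^ p ^ n = 1 := by
    refine orderOf_eq_one_iff.1 (Nat.eq_one_of_dvd_coprimes (hK'p.pow_right (n + 1)) ?_ ?_)
    · rw [← Subgroup.orderOf_mk _ hmem]; exact orderOf_dvd_natCard _
    · refine (orderOf_pow_dvd _).trans ?_
      exact orderOf_dvd_of_pow_eq_one hap
  rw [ha, inv_pow, inv_eq_one, ← map_pow] at h1
  exact (QuotientGroup.eq_one_iff _).1 h1

omit hp in
/-- The `O_p` of the quotient by the second term is trivial. -/
theorem pCore_stepP_eq_bot (N M : Subgroup G) [N.Normal] [M.Normal] (h : M = stepP p N) :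
    Cfsg.pCore p (G ⧸ M) = ⊥ := by
  have hle : N ≤ M := fun x hx => by
    rw [h, stepP, mem_comap]
    rw [show QuotientGroup.mk' N x = 1 from (QuotientGroup.eq_one_iff x).2 hx]
    exact one_mem _
  let q : G ⧸ N →* G ⧸ M := QuotientGroup.map N M (MonoidHom.id G) hle
  have hq : Function.Surjective q := fun y => by
    obtain ⟨x, rfl⟩ := QuotientGroup.mk_surjective y
    exact ⟨x, rfl⟩
  have hker : q.ker ≤ Cfsg.pCore p (G ⧸ N) := by
    intro y hy
    obtain ⟨x, rfl⟩ := QuotientGroup.mk_surjective y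
    have h1 : x ∈ M := (QuotientGroup.eq_one_iff x).1 hy
    rwa [h, stepP, mem_comap] at h1
  haveI : (Cfsg.pCore p (G ⧸ M)).Normal := CfsgLib.Coprime.pCore_normal' p
  haveI : ((Cfsg.pCore p (G ⧸ M)).comap q).Normal := (inferInstance : (Cfsg.pCore p (G ⧸ M)).Normal).comap q
  have hp' : IsPGroup p ((Cfsg.pCore p (G ⧸ M)).comap q) :=
    (CfsgLib.Coprime.pCore_isPGroup p).comap_of_ker_isPGroup q ((CfsgLib.Coprime.pCore_isPGroup p).to_le hker)
  rw [eq_bot_iff]
  intro y hy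
  obtain ⟨x, rfl⟩ := QuotientGroup.mk_surjective y
  have h1 : QuotientGroup.mk' N x ∈ Cfsg.pCore p (G ⧸ N) := CfsgLib.Coprime.le_pCore hp' hy
  rw [mem_bot]
  refine (QuotientGroup.eq_one_iff x).2 ?_
  rw [h, stepP, mem_comap]
  exact h1

/-- Two layers lower the exponent by one. -/
theorem pow_mem_four (hp2 : p ≠ 2) (hG : Cfsg.IsPSolvable p G) {n : ℕ}
    (hexp : ∀ x : G, IsPGroup p (zpowers x) → x ^ p ^ (n + 1) = 1) {x : G} (hx : IsPGroup p (zpowers x)) :
    x ^ p ^ n ∈ (Cfsg.upperPSeries p G 4).1 := by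
  classical
  set U₁ := (Cfsg.upperPSeries p G 1).1 with hU₁
  set U₂ := (Cfsg.upperPSeries p G 2).1 with hU₂
  haveI : U₁.Normal := (Cfsg.upperPSeries p G 1).2
  haveI : U₂.Normal := (Cfsg.upperPSeries p G 2).2
  have hU₂eq : U₂ = stepP p U₁ := CfsgLib.PGroup.upperPSeries_succ_odd (n := 1) (by simp)
  have hbot : Cfsg.pPrimeCore p (G ⧸ U₁) = ⊥ :=
    CfsgLib.PGroup.pPrimeCore_stepPrime_eq_bot _ U₁ (CfsgLib.PGroup.upperPSeries_succ_even Even.zero)
  obtain ⟨Φ, hΦ, V, hV, hVel, hCV, hK, hmap, hback⟩ :=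
    exists_reduced (CfsgLib.PGroup.isPSolvable_quotient hp.out hG U₁) hbot
  haveI : IsMulCommutative V := hVel.1
  letI : CommGroup V :=
    { (inferInstance : Group V) with mul_comm := fun a b => isMulCommutative_iff.1 hVel.1 a b }
  have hVpow : ∀ v : V, v ^ p = 1 := fun v => Subtype.ext (by simpa using hVel.2 v v.2)
  let f : G →* (G ⧸ U₁) ⧸ Φ := (QuotientGroup.mk' Φ).comp (QuotientGroup.mk' U₁)
  have hmemU : ∀ g : G, f g ∈ V ↔ g ∈ U₂ := fun g => by
    rw [hU₂eq, stepP, mem_comap]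
    exact ⟨hback _, fun h => hmap (mem_map_of_mem _ h)⟩
  let cG : G →* MulAut V := (MulAut.conjNormal : (G ⧸ U₁) ⧸ Φ →* MulAut V).comp f
  have hcker : cG.ker = U₂ := by
    ext g
    rw [MonoidHom.mem_ker, ← hmemU]
    constructor
    · intro hg
      refine hCV (mem_centralizer_iff.2 fun w hw => ?_)
      have e1 := congrArg (fun e : MulAut V => ((e ⟨w, hw⟩ : V) : (G ⧸ U₁) ⧸ Φ)) hg
      change f g * w * (f g)⁻¹ = w at e1
      exact (mul_inv_eq_iff_eq_mul.1 e1).symm
    · intro hg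
      refine MulEquiv.ext fun w => Subtype.ext ?_
      show f g * w * (f g)⁻¹ = w
      rw [mul_inv_eq_iff_eq_mul]
      exact congrArg Subtype.val (isMulCommutative_iff.1 hVel.1 ⟨f g, hg⟩ w)
  let c : G ⧸ U₂ →* MulAut V := QuotientGroup.lift U₂ cG hcker.ge
  have hc : Function.Injective c := (injective_iff_map_eq_one c).2 fun y hy => by
    obtain ⟨g, rfl⟩ := QuotientGroup.mk_surjective y
    exact (QuotientGroup.eq_one_iff g).2 (hcker ▸ hy)
  let H := G ⧸ U₂
  have hHsol : Cfsg.IsPSolvable p H := CfsgLib.PGroup.isPSolvable_quotient hp.out hG U₂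
  have hHO : Cfsg.pCore p H = ⊥ := pCore_stepP_eq_bot U₁ U₂ hU₂eq
  have hHK := CfsgLib.FFPair.centralizer_pPrimeCore_le_of_isPSolvable hHsol hHO
  have hlift : ∀ y : H, IsPGroup p (zpowers y) →
      y ^ p ^ (n + 1) = 1 ∧ ∀ v : V, ∏ i ∈ Finset.range (p ^ (n + 1)), c (y ^ i) v = 1 := by
    intro y hy
    obtain ⟨z, hz, rfl⟩ := CfsgLib.PGroup.PLengthExponent.exists_pPart_lift (QuotientGroup.mk' U₂)
      (QuotientGroup.mk'_surjective U₂) hy
    refine ⟨by rw [← map_pow, hexp z hz, map_one], fun v => ?_⟩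
    have hY : IsPGroup p (zpowers (f z)) := by rw [← MonoidHom.map_zpowers]; exact hz.map _
    have hYexp : ∀ w : (G ⧸ U₁) ⧸ Φ, IsPGroup p (zpowers w) → w ^ p ^ (n + 1) = 1 := by
      intro w hw
      obtain ⟨z', hz', rfl⟩ := CfsgLib.PGroup.PLengthExponent.exists_pPart_lift f
        ((QuotientGroup.mk'_surjective Φ).comp (QuotientGroup.mk'_surjective U₁)) hw
      rw [← map_pow, hexp z' hz', map_one]
    have hVp : IsPGroup p V := fun w => ⟨1, by simpa using hVpow w⟩
    have h1 := CfsgLib.PGroup.PLengthExponent.mul_pow_eq_prod V.subtype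
      (MulAut.conjNormal : (G ⧸ U₁) ⧸ Φ →* MulAut V) (fun h w => MulAut.conjNormal_apply h w) v (f z) (p ^ (n + 1))
    rw [Subgroup.coe_subtype, hYexp _ ((hY.to_sup_of_normal_right hVp).to_le
      (zpowers_le.2 (mul_mem (mem_sup_right v.2) (mem_sup_left (mem_zpowers _))))), hYexp _ hY, mul_one] at h1
    refine Subtype.ext ?_
    rw [OneMemClass.coe_one]
    refine Eq.trans ?_ h1.symm
    refine congrArg Subtype.val (Finset.prod_congr rfl fun i _ => ?_)
    rw [← map_pow (QuotientGroup.mk' U₂), ← map_pow f]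
    rfl
  -- the second layer
  set K₁ := (Cfsg.upperPSeries p H 1).1 with hK₁
  haveI : K₁.Normal := (Cfsg.upperPSeries p H 1).2
  have hbot2 : Cfsg.pPrimeCore p (H ⧸ K₁) = ⊥ :=
    CfsgLib.PGroup.pPrimeCore_stepPrime_eq_bot _ K₁ (CfsgLib.PGroup.upperPSeries_succ_even Even.zero)
  obtain ⟨Φ₂, hΦ₂, V₂, hV₂, hV₂el, hCV₂, hK₂, -, hback₂⟩ :=
    exists_reduced (CfsgLib.PGroup.isPSolvable_quotient hp.out hHsol K₁) hbot2
  let g₂ : H →* (H ⧸ K₁) ⧸ Φ₂ := (QuotientGroup.mk' Φ₂).comp (QuotientGroup.mk' K₁)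
  have hg₂ : Function.Surjective g₂ := (QuotientGroup.mk'_surjective Φ₂).comp (QuotientGroup.mk'_surjective K₁)
  set y : H := QuotientGroup.mk' U₂ x with hy
  have hyp : IsPGroup p (zpowers y) := by rw [hy, ← MonoidHom.map_zpowers]; exact hx.map _
  obtain ⟨S, hS⟩ := hyp.exists_le_sylow
  have hSel : ∀ s ∈ (S : Subgroup H), IsPGroup p (zpowers s) := fun s hs => S.2.to_le (zpowers_le.2 hs)
  have hmain : g₂ y ^ p ^ n ∈ V₂ := by
    refine mem_of_commute hp2 V₂ hV₂el hCV₂ hK₂ (by rw [← map_pow, (hlift y hyp).1, map_one]; exact one_mem _)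
      fun v hv => ?_
    have hV₂p : IsPGroup p V₂ := fun w => ⟨1, Subtype.ext (by simpa using hV₂el.2 w w.2)⟩
    have hvS := le_sylow_of_normal hV₂p (S.mapSurjective hg₂) hv
    rw [Sylow.coe_mapSurjective] at hvS
    obtain ⟨s, hs, rfl⟩ := hvS
    rw [← map_mul, ← map_pow, ← map_pow, ← map_mul, ← map_mul]
    exact congrArg g₂ (socle_commute hp2 hHK hVpow c hc (S : Subgroup H) S.2
      (fun g hg => (hlift g (hSel g hg)).1) (fun g hg => (hlift g (hSel g hg)).2)
      (mul_mem hs (hS (mem_zpowers y))) (hS (mem_zpowers y)))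
  rw [← map_pow, hy, ← map_pow] at hmain
  have h2 : QuotientGroup.mk' U₂ (x ^ p ^ n) ∈ (Cfsg.upperPSeries p H 2).1 := by
    rw [CfsgLib.PGroup.upperPSeries_succ_odd (n := 1) (by simp), stepP, mem_comap]
    exact hback₂ _ hmain
  rw [← mem_comap, CfsgLib.PGroup.upperPSeries_shift (p := p) U₂ even_two rfl 2] at h2
  exact h2

/-- **The `p`-length is at most twice the exponent.** -/
theorem pLengthLE_double (hp2 : p ≠ 2) : ∀ (n : ℕ) (G : Type u) [Group G] [Finite G], Cfsg.IsPSolvable p G →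
    (∀ x : G, IsPGroup p (zpowers x) → x ^ p ^ n = 1) → Cfsg.PLengthLE p (2 * n) G := by
  intro n
  induction n with
  | zero =>
    intro G _ _ _ hexp
    show (Cfsg.upperPSeries p G (2 * (2 * 0) + 1)).1 = ⊤
    rw [show 2 * (2 * 0) + 1 = 1 from rfl, CfsgLib.PGroup.pPrimeCore_eq_term_one]
    refine top_le_iff.1 (CfsgLib.Coprime.le_pPrimeCore_of_not_dvd hp.out ?_)
    rw [card_top]
    intro hd
    obtain ⟨x, hx⟩ := exists_prime_orderOf_dvd_card' p hd
    have h1 := hexp x (IsPGroup.of_card (n := 1) (by rw [Nat.card_zpowers, hx, pow_one]))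
    rw [pow_zero, pow_one] at h1
    exact hp.out.ne_one (by rw [← hx, h1, orderOf_one])
  | succ n ih =>
    intro G _ _ hsol hexp
    set U₄ := (Cfsg.upperPSeries p G 4).1 with hU₄
    haveI : U₄.Normal := (Cfsg.upperPSeries p G 4).2
    have h := ih (G ⧸ U₄) (CfsgLib.PGroup.isPSolvable_quotient hp.out hsol U₄) fun y hy => by
      obtain ⟨z, hz, rfl⟩ := CfsgLib.PGroup.PLengthExponent.exists_pPart_lift (QuotientGroup.mk' U₄)
        (QuotientGroup.mk'_surjective U₄) hy
      rw [← map_pow]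
      exact (QuotientGroup.eq_one_iff _).2 (pow_mem_four hp2 hsol hexp hz)
    have hshift := CfsgLib.PGroup.upperPSeries_shift (p := p) U₄ (⟨2, rfl⟩ : Even 4) rfl (2 * (2 * n) + 1)
    rw [h, comap_top] at hshift
    show (Cfsg.upperPSeries p G (2 * (2 * (n + 1)) + 1)).1 = ⊤
    rw [show 2 * (2 * (n + 1)) + 1 = 2 * (2 * n) + 1 + 4 by omega]
    exact hshift.symm

end CfsgLib.PGroup.ModularB
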