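import Cfsg.Agent.Lib.PGroup.ModularB.Count
import Cfsg.Agent.Lib.PGroup.ShultGross.Centralize

/-!
# Theorem B of Hall and Higman

In characteristic `q`, an operator `a` of order dividing `q ^ (n + 1)` whose socle does not centralize
an `r`-group `R` normalized by `a` satisfies `(a - 1) ^ (q ^ (n + 1) - 1) ≠ 0`, unless `R` is
non-abelian and `q ^ (m + 1) = r ^ i + 1` for some `m ≤ n`, with `(a - 1) ^ (q ^ (n - m) * r ^ i - 1) ≠ 0`.
-/

set_option autoImplicit false
set_option linter.style.haveILetI false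
set_option linter.unusedSectionVars false
set_option maxHeartbeats 800000

namespace CfsgLib.PGroup.ModularB

open CfsgLib.PGroup
open CfsgLib.PGroup.ShultGross (exists_pow_prime_mem)
open Subgroup
open scoped commutatorElement

universe u v w

variable {H : Type u} [Group H] {k : Type v} [Field k] {W : Type w} [AddCommGroup W] [Module k W]

/-- The exceptional outcome of theorem B. -/
def Exceptional (ρ : H →* Module.End k W) (r q n : ℕ) (a : H) (R : Subgroup H) : Prop :=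
  ∃ j m i : ℕ, j + m = n ∧ 1 ≤ i ∧ q ^ (m + 1) = r ^ i + 1 ∧
    (ρ a - 1) ^ (q ^ j * (q ^ (m + 1) - 1) - 1) ≠ 0 ∧ (∃ x ∈ R, ∃ y ∈ R, x * y ≠ y * x) ∧
    ((∀ y ∈ R, a ^ q ^ n * y = y * a ^ q ^ n → a * y = y * a) → j = 0)

theorem Exceptional.mono {ρ : H →* Module.End k W} {r q n : ℕ} {a : H} {R R' : Subgroup H}
    (h : Exceptional ρ r q n a R) (hle : R ≤ R') : Exceptional ρ r q n a R' := by
  obtain ⟨j, m, i, h1, h2, h3, h4, ⟨x, hx, y, hy, hxy⟩, h5⟩ := h
  exact ⟨j, m, i, h1, h2, h3, h4, ⟨x, hle hx, y, hle hy, hxy⟩,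
    fun hc => h5 fun y hy => hc y (hle hy)⟩

/-- An operator permuting eigencharacters freely below `q ^ e` has a block of that size. -/
theorem sub_one_pow_free (ρ : H →* Module.End k W) {q : ℕ} [Fact q.Prime] [CharP k q]
    {Y : Subgroup H} [Fintype Y] (hk : (Fintype.card Y : k) ≠ 0) {a : H} {e : ℕ}
    (haY : a ∈ normalizer (Y : Set H)) {χ : Y →* kˣ} {f : W} (hf : IsEigen ρ Y χ f) (hf0 : f ≠ 0)
    (hfree : ∀ i, i < q ^ e → i ≠ 0 → a ^ i ∉ charStab Y χ) :
    ((ρ a - 1) ^ (q ^ e - 1)) f ≠ 0 := by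
  have hpow : ∀ i : ℕ, a ^ i ∈ normalizer (Y : Set H) := fun i => pow_mem haY i
  intro h0
  rw [sub_one_pow_geom (k := k), LinearMap.sum_apply] at h0
  have h1 := congrArg (eigProj ρ χ) h0
  rw [map_sum, map_zero, Finset.sum_eq_single 0 (fun i hi hi0 => ?_)
    (fun h => absurd (Finset.mem_range.2 (pow_pos (Fact.out : q.Prime).pos e)) h), pow_zero,
    Module.End.one_apply, eigProj_self ρ hf] at h1
  · exact hf0 ((smul_eq_zero.1 h1).resolve_left hk)
  · rw [← map_pow]
    exact eigProj_ne ρ (hf.map ρ (hpow i)) fun e' =>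
      hfree i (Finset.mem_range.1 hi) hi0 ⟨hpow i, e'.symm⟩

variable [Finite H] [IsAlgClosed k] [FiniteDimensional k W]

/-- **Theorem B of Hall and Higman, faithful case.** -/
theorem bound_faithful (ρ : H →* Module.End k W) (hinj : Function.Injective ρ) {r q n : ℕ}
    [CharP k q] (hr : r.Prime) (hq : q.Prime) (hrq : r ≠ q)
    (a : H) (ha : a ^ q ^ (n + 1) = 1) (hdeg : (ρ a - 1) ^ (q ^ (n + 1) - 1) = 0) :
    ∀ (N : ℕ) (R : Subgroup H), Nat.card R ≤ N → IsPGroup r R → a ∈ normalizer (R : Set H) →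
      (∃ x ∈ R, a ^ q ^ n * x * (a ^ q ^ n)⁻¹ ≠ x) → Exceptional ρ r q n a R := by
  classical
  haveI := Fact.mk hr
  haveI := Fact.mk hq
  intro N
  induction N with
  | zero => exact fun R h => absurd h (Nat.not_le.2 Nat.card_pos)
  | succ N ih =>
  intro R hcard hR haR hne
  set t := a ^ q ^ n with ht
  have htR : t ∈ normalizer (R : Set H) := pow_mem haR _
  have htq : t ^ q = 1 := by rw [ht, ← pow_mul, ← pow_succ, ha]
  obtain ⟨x₁, hx₁, hx₁t⟩ := hne
  by_cases hprop : ∃ S : Subgroup H, S ≤ R ∧ a ∈ normalizer (S : Set H) ∧ S ≠ R ∧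
      ∃ x ∈ S, t * x * t⁻¹ ≠ x
  · obtain ⟨S, hS, haS, hSne, hSx⟩ := hprop
    have hlt : Nat.card S < Nat.card R :=
      lt_of_not_ge fun h => hSne (eq_of_le_of_card_ge hS h)
    exact (ih S (by omega) (hR.to_le hS) haS hSx).mono hS
  push Not at hprop
  have hsub : ∀ S : Subgroup H, S ≤ R → a ∈ normalizer (S : Set H) → S ≠ R →
      ∀ x ∈ S, t * x * t⁻¹ = x := hprop
  have hrk : (r : k) ≠ 0 := fun e =>
    hrq ((Nat.prime_dvd_prime_iff_eq hq hr).1 ((CharP.cast_eq_zero_iff k q r).1 e)).symm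
  have hRcard : ∀ {S : Subgroup H}, S ≤ R → (Nat.card S : k) ≠ 0 := by
    intro S hS
    obtain ⟨e, he⟩ := IsPGroup.iff_card.1 (hR.to_le hS)
    rw [he, Nat.cast_pow]
    exact pow_ne_zero _ hrk
  -- free orbits
  have hfreeN : ∀ {S : Subgroup H}, t ∉ S → ∀ i, i < q ^ (n + 1) → i ≠ 0 → a ^ i ∉ S := by
    intro S htS i hi hi0 hmem
    obtain ⟨j, hj, hjm⟩ := exists_pow_prime_mem hq ha hi0 hmem
    have hjn : j ≤ n := by
      by_contra h
      have := (Nat.pow_le_pow_right hq.pos (show n + 1 ≤ j by omega)).trans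
        (Nat.le_of_dvd (Nat.pos_of_ne_zero hi0) hj)
      omega
    refine htS ?_
    rw [ht, ← Nat.add_sub_cancel' hjn, pow_add, pow_mul]
    exact pow_mem hjm _
  -- `R = [R, t]`
  set T := zpowers t with hT
  have hTR : T ≤ normalizer (R : Set H) := zpowers_le.2 htR
  have hTcard : (Nat.card T).Coprime (Nat.card R) := by
    obtain ⟨e, he⟩ := IsPGroup.iff_card.1 hR
    rw [hT, Nat.card_zpowers, he]
    exact Nat.Coprime.coprime_dvd_left (orderOf_dvd_of_pow_eq_one htq)
      (((Nat.coprime_primes hq hr).2 hrq.symm).pow_right e)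
  have hRsol : Group.IsSolvable R := CfsgLib.Coprime.isSolvable_of_isNilpotent hR.isNilpotent
  have hRT : ⁅R, T⁆ = R := by
    have hle : ⁅R, T⁆ ≤ R := le_normalizer_iff_commutator_le_left.1 hTR
    by_contra h
    have hn : a ∈ normalizer ((⁅R, T⁆ : Subgroup H) : Set H) := by
      rw [mem_normalizer_iff_map_conj_eq, map_commutator, mem_normalizer_iff_map_conj_eq.1 haR]
      congr 1
      show (zpowers t).map (MulAut.conj a).toMonoidHom = T
      rw [MonoidHom.map_zpowers, show (MulAut.conj a).toMonoidHom t = t from ?_]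
      show a * t * a⁻¹ = t
      rw [ht, ← pow_succ', pow_succ, mul_inv_cancel_right]
    have hc := hsub _ hle hn h
    have h2 : ⁅⁅R, T⁆, T⁆ = ⊥ := by
      rw [commutator_eq_bot_iff_le_centralizer]
      intro y hy
      rw [hT, zpowers_eq_closure, centralizer_closure, mem_centralizer_singleton_iff]
      exact (mul_inv_eq_iff_eq_mul.1 (hc y hy)).symm
    rw [CfsgLib.Coprime.commutator_commutator_eq hTR hTcard (Or.inr hRsol),
      commutator_eq_bot_iff_le_centralizer] at h2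
    have h3 := mem_centralizer_iff.1 (h2 hx₁) t (mem_zpowers t)
    exact hx₁t (by rw [h3, mul_inv_cancel_right])
  -- the Frattini subgroup
  set Z : Subgroup R := frattini R with hZ
  set Y : Subgroup H := Z.map R.subtype with hY
  have hYR : Y ≤ R := map_subtype_le _
  have hR1 : R ≠ ⊥ := fun e => hx₁t (by
    rw [e, mem_bot] at hx₁
    rw [hx₁, mul_one, mul_inv_cancel])
  haveI : Nontrivial R := (nontrivial_iff_ne_bot R).2 hR1
  have hZtop : Z ≠ ⊤ := by
    intro e
    obtain ⟨M, hM, -⟩ := (eq_top_or_exists_le_coatom (⊥ : Subgroup R)).resolve_left bot_ne_top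
    exact hM.1 (top_le_iff.1 (e.symm.le.trans (frattini_le_coatom hM)))
  have hYne : Y ≠ R := fun e => hZtop (map_injective R.subtype_injective (by
    rw [← hY, e, ← MonoidHom.range_eq_map, range_subtype]))
  have hnY : normalizer (R : Set H) ≤ normalizer (Y : Set H) := by
    intro g hg
    refine mem_normalizer_fintype ?_
    rintro _ ⟨y, hy, rfl⟩
    exact ⟨R.normalizerMonoidHom ⟨g, hg⟩ y, characteristic_iff_map_le.1 inferInstance
      (R.normalizerMonoidHom ⟨g, hg⟩) (mem_map_of_mem _ hy), rfl⟩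
  have haY : a ∈ normalizer (Y : Set H) := hnY haR
  have hYt : ∀ y ∈ Y, t * y * t⁻¹ = y := hsub Y hYR haY hYne
  have hRY : ⁅R, Y⁆ = ⊥ := by
    conv_lhs => rw [← hRT]
    have hTY : ⁅Y, T⁆ = ⊥ := by
      rw [commutator_eq_bot_iff_le_centralizer]
      intro y hy
      rw [hT, zpowers_eq_closure, centralizer_closure, mem_centralizer_singleton_iff]
      exact (mul_inv_eq_iff_eq_mul.1 (hYt y hy)).symm
    refine Subgroup.commutator_commutator_eq_bot_of_rotate (H₁ := R) (H₂ := T) (H₃ := Y) ?_ ?_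
    · rw [commutator_comm T Y, hTY, commutator_bot_left]
    · rw [eq_bot_iff, ← hTY]
      refine commutator_mono ?_ le_rfl
      exact le_normalizer_iff_commutator_le_left.1 (le_normalizer.trans hnY)
  have hYc : ∀ x ∈ R, ∀ y ∈ Y, Commute x y := fun x hx y hy =>
    (mem_centralizer_iff.1 (commutator_eq_bot_iff_le_centralizer.1 hRY hx) y hy).symm
  -- the action on `R`
  set σR : MulAut R := R.normalizerMonoidHom ⟨a, haR⟩ with hσR
  have hσ : ∀ (i : ℕ) (x : R), (((σR ^ i) x : R) : H) = a ^ i * x * (a ^ i)⁻¹ := by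
    intro i x
    rw [hσR, ← map_pow]
    rfl
  set τ : MulAut R := σR ^ q ^ n with hτ
  have hτv : ∀ x : R, ((τ x : R) : H) = t * x * t⁻¹ := fun x => hσ (q ^ n) x
  have hτZ : ∀ z ∈ Z, τ z = z := fun z hz => Subtype.ext (by
    rw [hτv]; exact hYt _ (mem_map_of_mem _ hz))
  have hZc : ∀ (x : R), ∀ z ∈ Z, x * z = z * x := fun x z hz =>
    Subtype.ext (hYc x x.2 z (mem_map_of_mem _ hz)).eq
  have hZmap : ∀ (f : MulAut R), ∀ z ∈ Z, f z ∈ Z := fun f z hz =>
    characteristic_iff_map_le.1 inferInstance f (mem_map_of_mem _ hz)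
  letI : CommGroup (R ⧸ Z) := { (inferInstance : Group (R ⧸ Z)) with
    mul_comm := fun u v => by
      obtain ⟨x, rfl⟩ := QuotientGroup.mk_surjective u
      obtain ⟨y, rfl⟩ := QuotientGroup.mk_surjective v
      rw [← QuotientGroup.mk_mul, ← QuotientGroup.mk_mul, QuotientGroup.eq]
      have h1 := CfsgLib.Coprime.commutator_le_frattini hR
        (commutator_mem_commutator (mem_top (y⁻¹)) (mem_top (x⁻¹)))
      rwa [commutatorElement_def, inv_inv, inv_inv,
        show y⁻¹ * x⁻¹ * y * x = (x * y)⁻¹ * (y * x) by group] at h1 }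
  let ι : MulAut R →* MulAut (R ⧸ Z) :=
    { toFun := fun f => QuotientGroup.congr Z Z f (eq_of_le_of_card_ge
        (characteristic_iff_map_le.1 inferInstance f) (card_map_of_injective f.injective).ge)
      map_one' := MulEquiv.ext fun v => by
        induction v using QuotientGroup.induction_on with | _ x => rfl
      map_mul' := fun f g => MulEquiv.ext fun v => by
        induction v using QuotientGroup.induction_on with | _ x => rfl }
  have hι : ∀ (f : MulAut R) (x : R), ι f (x : R ⧸ Z) = ((f x : R) : R ⧸ Z) := fun f x => rfl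
  let ψ : R ⧸ Z →* R ⧸ Z :=
    MonoidHom.mk' (fun v => v⁻¹ * ι τ v) fun u v => by
      rw [map_mul, mul_inv, mul_mul_mul_comm]
  have hψ : ∀ x : R, ψ (x : R ⧸ Z) = ((x⁻¹ * τ x : R) : R ⧸ Z) := fun x => rfl
  have hψsurj : Function.Surjective ψ := by
    intro v
    obtain ⟨x, rfl⟩ := QuotientGroup.mk_surjective v
    have hrange : ∀ (i : ℕ) (u : R ⧸ Z), u⁻¹ * (ι τ ^ i) u ∈ ψ.range := by
      intro i u
      induction i with
      | zero => rw [pow_zero, MulAut.one_apply, inv_mul_cancel]; exact one_mem _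
      | succ i hi =>
        rw [show u⁻¹ * (ι τ ^ (i + 1)) u =
          (u⁻¹ * (ι τ ^ i) u) * (((ι τ ^ i) u)⁻¹ * ι τ ((ι τ ^ i) u)) by
            rw [pow_succ', MulAut.mul_apply]; group]
        exact mul_mem hi ⟨_, rfl⟩
    have h1 : ⁅R, T⁆ ≤ (ψ.range.comap (QuotientGroup.mk' Z)).map R.subtype := by
      rw [commutator_le]
      intro y hy z hz
      obtain ⟨i, hi⟩ := (Submonoid.mem_powers_iff _ _).1
        ((isOfFinOrder_of_finite t).mem_powers_iff_mem_zpowers.2 hz)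
      refine ⟨⟨y, hy⟩ * (τ ^ i) ⟨y, hy⟩⁻¹, ?_, ?_⟩
      · rw [SetLike.mem_coe, mem_comap, QuotientGroup.mk'_apply, QuotientGroup.mk_mul, ← hι, map_pow]
        have := hrange i ((⟨y, hy⟩⁻¹ : R) : R ⧸ Z)
        rwa [← QuotientGroup.mk_inv, inv_inv] at this
      · show y * (((τ ^ i) ⟨y, hy⟩⁻¹ : R) : H) = ⁅y, z⁆
        rw [hτ, ← pow_mul, hσ, pow_mul, ← ht, hi, commutatorElement_def]
        show y * (z * y⁻¹ * z⁻¹) = _
        group
    rw [hRT] at h1
    obtain ⟨x', hx', e⟩ := h1 x.2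
    exact (Subtype.ext e : x' = x) ▸ hx'
  have hψinj : Function.Injective ψ := Finite.injective_iff_surjective.2 hψsurj
  have hτfix : ∀ x : R, x⁻¹ * τ x ∈ Z → x ∈ Z := fun x hx => by
    have h1 : ψ (x : R ⧸ Z) = ψ 1 := by rw [hψ, map_one, QuotientGroup.eq_one_iff]; exact hx
    exact (QuotientGroup.eq_one_iff x).1 (hψinj h1)
  -- invariant subgroups are central or everything
  have hmin : ∀ U : Subgroup R, U ≠ ⊤ → (∀ x ∈ U, σR x ∈ U) → U ≤ Z := by
    intro U hU hUσ x hx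
    refine hτfix x ?_
    have hnU : a ∈ normalizer ((U.map R.subtype : Subgroup H) : Set H) := by
      refine mem_normalizer_fintype ?_
      rintro _ ⟨y, hy, rfl⟩
      exact ⟨σR y, hUσ y hy, rfl⟩
    have h1 := hsub _ (map_subtype_le U) hnU (fun e => hU (map_injective R.subtype_injective (by
      rw [e, ← MonoidHom.range_eq_map, range_subtype]))) _ (mem_map_of_mem _ hx)
    rw [show τ x = x from Subtype.ext (by rw [hτv]; exact h1), inv_mul_cancel]
    exact one_mem Z
  by_cases habel : ∀ x ∈ R, ∀ y ∈ R, x * y = y * x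
  · -- abelian image
    exfalso
    haveI := Fintype.ofFinite R
    have hk : (Fintype.card R : k) ≠ 0 := by
      rw [← Nat.card_eq_fintype_card]; exact hRcard le_rfl
    have hcom : ImgComm ρ R := fun x hx y hy => by rw [habel x hx y hy]
    have htx : t⁻¹ * x₁ * t ∈ R := (mem_normalizer_iff''.1 htR x₁).1 hx₁
    have h0 : ρ (t⁻¹ * x₁ * t) - ρ x₁ = 0 := by
      refine eq_zero_of_forall_eigen ρ hcom hk _ (fun y hy w => ?_) fun μ f hf => ?_
      · rw [LinearMap.sub_apply, LinearMap.sub_apply, map_sub, ← rep_mul_apply, ← rep_mul_apply,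
          ← rep_mul_apply, ← rep_mul_apply, habel y hy _ htx, habel y hy _ hx₁]
      by_cases hf0 : f = 0
      · rw [hf0, map_zero]
      have hts : t ∈ charStab R μ := by
        by_contra h
        exact sub_one_pow_free ρ hk haR hf hf0 (hfreeN h) (by rw [hdeg, LinearMap.zero_apply])
      have h2 := DFunLike.congr_fun ((mem_charStab htR).1 hts) ⟨x₁, hx₁⟩
      rw [twist_apply] at h2
      rw [LinearMap.sub_apply, show ρ x₁ f = _ from hf ⟨x₁, hx₁⟩,
        show ρ (t⁻¹ * x₁ * t) f = _ from hf ⟨_, htx⟩, h2, sub_self]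
    have h2 := hinj (sub_eq_zero.1 h0)
    apply hx₁t
    calc t * x₁ * t⁻¹ = t * (t⁻¹ * x₁ * t) * t⁻¹ := by rw [h2]
      _ = x₁ := by group
  push Not at habel
  obtain ⟨x₀, hx₀, y₀, hy₀, hne₀⟩ := habel
  have hcZ : ∀ x y : R, ⁅x, y⁆ ∈ Z := fun x y =>
    CfsgLib.Coprime.commutator_le_frattini hR (commutator_mem_commutator (mem_top x) (mem_top y))
  haveI := Fintype.ofFinite Y
  have hYk : (Fintype.card Y : k) ≠ 0 := by
    rw [← Nat.card_eq_fintype_card]; exact hRcard hYR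
  have hYi : ImgComm ρ Y := fun y hy z hz => by rw [(hYc y (hYR hy) z hz).eq]
  obtain ⟨χ, f, hf, hfne⟩ : ∃ (χ : Y →* kˣ) (f : W), IsEigen ρ Y χ f ∧
      (ρ ⁅x₀, y₀⁆ - 1) f ≠ 0 := by
    by_contra hc
    push Not at hc
    apply hne₀
    have hz : ⁅x₀, y₀⁆ ∈ Y := ⟨⁅(⟨x₀, hx₀⟩ : R), (⟨y₀, hy₀⟩ : R)⁆, hcZ _ _,
      by simp [commutatorElement_def]⟩
    refine commutatorElement_eq_one_iff_mul_comm.1 (hinj ?_)
    rw [map_one]
    refine sub_eq_zero.1 (eq_zero_of_forall_eigen ρ hYi hYk _ (fun y hy w => ?_) hc)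
    rw [LinearMap.sub_apply, LinearMap.sub_apply, map_sub, Module.End.one_apply, Module.End.one_apply,
      ← rep_mul_apply, ← rep_mul_apply, (hYc _ (hYR hz) y hy).eq]
  have hf0 : f ≠ 0 := fun e => hfne (by rw [e, map_zero])
  set S := charStab Y χ with hS
  have hRS : R ≤ S := fun x hx => commute_mem_charStab χ fun y => hYc x hx y y.2
  have htS : t ∈ S := commute_mem_charStab χ fun y => mul_inv_eq_iff_eq_mul.1 (hYt y y.2)
  have hex : ∃ j, a ^ q ^ j ∈ S := ⟨n, htS⟩
  set j₀ := Nat.find hex with hj₀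
  have hj₀S : a ^ q ^ j₀ ∈ S := Nat.find_spec hex
  obtain ⟨m, hm⟩ : ∃ m, n = j₀ + m := ⟨n - j₀, by have := Nat.find_min' hex htS; omega⟩
  have hN0 : 0 < q ^ j₀ := pow_pos hq.pos _
  have hfreej : ∀ i, i < q ^ j₀ → i ≠ 0 → a ^ i ∉ S := by
    intro i hi hi0 hmem
    obtain ⟨j, hj, hjm⟩ := exists_pow_prime_mem hq ha hi0 hmem
    have h1 : j₀ ≤ j := Nat.find_min' hex hjm
    have h2 := (Nat.pow_le_pow_right hq.pos h1).trans (Nat.le_of_dvd (Nat.pos_of_ne_zero hi0) hj)
    omega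
  set b := a ^ q ^ j₀ with hb
  have hbm : b ^ q ^ m = t := by rw [hb, ← pow_mul, ← pow_add, ← hm]
  -- the representation on the eigenspace
  set U := eigSpace ρ Y χ with hU
  let σ := subRep ρ U S (eigSpace_invariant ρ)
  have hσv : ∀ (g : S) (v : U), ((σ g v : U) : W) = ρ (g : H) (v : W) := fun _ _ => rfl
  haveI : Nontrivial U := Submodule.nontrivial_iff_ne_bot.2 fun e => hf0 (by
    have : f ∈ U := hf
    rwa [e, Submodule.mem_bot] at this)
  set bs : S := ⟨b, hj₀S⟩ with hbs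
  have hpowb : ∀ (e : ℕ) (v : U), ((((σ bs - 1) ^ e) v : U) : W) = ((ρ a - 1) ^ (q ^ j₀ * e)) (v : W) := by
    intro e
    induction e with
    | zero => intro v; rfl
    | succ e he =>
      intro v
      rw [pow_succ' (σ bs - 1), Module.End.mul_apply, LinearMap.sub_apply, Module.End.one_apply,
        Submodule.coe_sub, hσv, he, Nat.mul_succ, add_comm, pow_add, Module.End.mul_apply,
        sub_one_pow_prime_pow (k := k) (ρ a) j₀, ← map_pow, ← hb, LinearMap.sub_apply, Module.End.one_apply]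
  have hlift : ∀ e : ℕ, (σ bs - 1) ^ e ≠ 0 → (ρ a - 1) ^ (q ^ j₀ * (e + 1) - 1) ≠ 0 := by
    intro e he
    obtain ⟨v, hv⟩ : ∃ v, ((σ bs - 1) ^ e) v ≠ 0 := by
      by_contra hc
      push Not at hc
      exact he (LinearMap.ext hc)
    intro h0
    refine sub_one_pow_free ρ hYk haY (((σ bs - 1) ^ e) v).2 (fun e0 => hv (Subtype.ext e0)) hfreej ?_
    rw [hpowb, ← Module.End.mul_apply, ← pow_add,
      show q ^ j₀ - 1 + q ^ j₀ * e = q ^ j₀ * (e + 1) - 1 by rw [Nat.mul_succ]; omega, h0,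
      LinearMap.zero_apply]
  have hbdeg : (σ bs - 1) ^ (q ^ (m + 1) - 1) = 0 := by
    by_contra he
    refine hlift _ he ?_
    rw [Nat.sub_add_cancel (Nat.one_le_pow _ _ hq.pos), ← pow_add, show j₀ + (m + 1) = n + 1 by omega]
    exact hdeg
  let ρR : R →* Module.End k U := σ.comp (inclusion hRS)
  have hρR : ∀ (x : R) (v : U), ((ρR x v : U) : W) = ρ (x : H) (v : W) := fun _ _ => rfl
  let χ' : Z →* kˣ := χ.comp (R.subtype.subgroupMap Z)
  have hχ' : ∀ z : Z, ρR (z : R) = (χ' z : k) • 1 := fun z => LinearMap.ext fun v => Subtype.ext (by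
    rw [hρR]; exact v.2 ⟨_, mem_map_of_mem R.subtype z.2⟩)
  have hxy : ∀ x y : R, ρR (x * y) = (χ' ⟨⁅x, y⁆, hcZ x y⟩ : k) • ρR (y * x) := by
    intro x y
    rw [show x * y = ⁅x, y⁆ * (y * x) by rw [commutatorElement_def]; group, map_mul ρR ⁅x, y⁆,
      hχ' ⟨_, hcZ x y⟩, smul_mul_assoc, one_mul]
  -- the radical
  let Rad : Subgroup R :=
    { carrier := {x | ∀ y, ρR (x * y) = ρR (y * x)}
      one_mem' := fun y => by rw [one_mul, mul_one]
      mul_mem' := fun {x x'} hx hx' y => by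
        rw [mul_assoc, map_mul, hx' y, ← map_mul, ← mul_assoc, map_mul, hx y, ← map_mul, mul_assoc]
      inv_mem' := fun {x} hx y => by
        calc ρR (x⁻¹ * y) = ρR x⁻¹ * (ρR (y * x) * ρR x⁻¹) := by
              rw [← map_mul, mul_inv_cancel_right, ← map_mul]
          _ = ρR x⁻¹ * (ρR (x * y) * ρR x⁻¹) := by rw [hx y]
          _ = ρR (y * x⁻¹) := by
              rw [← map_mul, ← map_mul]
              congr 1
              group }
  have hradc : ∀ x, x ∈ Rad ↔ ∀ y, χ' ⟨⁅x, y⁆, hcZ x y⟩ = 1 := by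
    intro x
    refine forall_congr' fun y => ⟨fun h => ?_, fun h => ?_⟩
    · rw [hxy] at h
      have := smul_rep_inj ρR (c := (χ' ⟨⁅x, y⁆, hcZ x y⟩ : k)) (d := 1) (x := y * x) (by rw [one_smul]; exact h)
      exact Units.ext this
    · rw [hxy, h, Units.val_one, one_smul]
  have hZRad : Z ≤ Rad := fun z hz y => by rw [hZc y z hz]
  have hRad0 : (⟨x₀, hx₀⟩ : R) ∉ Rad := by
    intro h
    apply hfne
    have h2 := (hradc _).1 h ⟨y₀, hy₀⟩
    have hz : ⁅x₀, y₀⁆ ∈ Y := ⟨⁅(⟨x₀, hx₀⟩ : R), (⟨y₀, hy₀⟩ : R)⁆, hcZ _ _,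
      by simp [commutatorElement_def]⟩
    rw [LinearMap.sub_apply, Module.End.one_apply, sub_eq_zero, show ρ ⁅x₀, y₀⁆ f = _ from hf ⟨_, hz⟩,
      show χ ⟨_, hz⟩ = 1 from ?_, Units.val_one, one_smul]
    rw [← h2]
    exact congrArg χ (Subtype.ext (map_commutatorElement R.subtype ⟨x₀, hx₀⟩ ⟨y₀, hy₀⟩).symm)
  -- `b` normalizes the radical
  set σE : MulAut R := σR ^ q ^ j₀ with hσE
  have hσEv : ∀ x : R, ((σE x : R) : H) = b * x * b⁻¹ := fun x => hσ (q ^ j₀) x
  have hu : ∀ x : R, σ bs * ρR x = ρR (σE x) * σ bs := fun x => LinearMap.ext fun v => Subtype.ext (by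
    rw [Module.End.mul_apply, Module.End.mul_apply, hσv, hρR, hρR, hσv, hσEv, ← rep_mul_apply,
      ← rep_mul_apply, inv_mul_cancel_right])
  have hcan : ∀ {X X' : Module.End k U}, X * σ bs = X' * σ bs → X = X' := fun {X X'} e => by
    have := congrArg (· * σ bs⁻¹) e
    simpa [mul_assoc, ← map_mul] using this
  have hRadE : ∀ x ∈ Rad, σE x ∈ Rad := by
    intro x hx y
    obtain ⟨y, rfl⟩ := σE.surjective y
    refine hcan ?_
    rw [← map_mul, ← map_mul, ← hu, ← hu, hx y]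
  have hRadτ : ∀ x ∈ Rad, τ x ∈ Rad := by
    intro x hx
    have hpow : ∀ i : ℕ, (σE ^ i) x ∈ Rad := fun i => by
      induction i with
      | zero => exact hx
      | succ i hi => rw [pow_succ']; exact hRadE _ hi
    have := hpow (q ^ m)
    rwa [hσE, ← pow_mul, ← pow_add, ← hm] at this
  -- every element of the radical is a commutator with `t` modulo `Z`
  have hRadsurj : ∀ x ∈ Rad, ∃ y ∈ Rad, (y⁻¹ * τ y)⁻¹ * x ∈ Z := by
    intro x hx
    let g : (Rad.map (QuotientGroup.mk' Z)) → (Rad.map (QuotientGroup.mk' Z)) := fun v => ⟨ψ v.1, by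
      obtain ⟨y, hy, hyv⟩ := v.2
      exact ⟨y⁻¹ * τ y, mul_mem (inv_mem hy) (hRadτ y hy), by rw [← hyv]; rfl⟩⟩
    have hg : Function.Injective g := fun u v e => Subtype.ext (hψinj (congrArg Subtype.val e))
    obtain ⟨⟨_, y, hy, rfl⟩, e⟩ := Finite.injective_iff_surjective.1 hg ⟨_, mem_map_of_mem _ hx⟩
    exact ⟨y, hy, QuotientGroup.eq.1 (congrArg Subtype.val e)⟩
  -- the radical acts by scalars
  have hRadscal : ∀ x ∈ Rad, x ∈ scalarSub ρR := by
    intro x hx
    obtain ⟨y, hy, hyz⟩ := hRadsurj x hx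
    obtain ⟨z, hzdef⟩ : ∃ z : Z, z = ⟨_, hyz⟩ := ⟨_, rfl⟩
    refine ⟨χ' z, sub_eq_zero.1 ?_⟩
    let Rd : Subgroup S := Rad.map (inclusion hRS)
    haveI := Fintype.ofFinite Rd
    have hRdk : (Fintype.card Rd : k) ≠ 0 := by
      rw [← Nat.card_eq_fintype_card, card_map_of_injective (inclusion_injective hRS),
        ← card_map_of_injective R.subtype_injective]
      exact hRcard (map_subtype_le _)
    have hRdi : ImgComm σ Rd := by
      rintro _ ⟨u, hu, rfl⟩ _ ⟨v, hv, rfl⟩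
      rw [← map_mul, ← map_mul]
      exact hu v
    have hbRd : bs ∈ normalizer (Rd : Set S) := by
      refine mem_normalizer_fintype ?_
      rintro _ ⟨u, hu, rfl⟩
      exact ⟨σE u, hRadE u hu, Subtype.ext (hσEv u)⟩
    refine eq_zero_of_forall_eigen σ hRdi hRdk _ ?_ ?_
    · rintro _ ⟨u, hu, rfl⟩ v
      show (ρR x - (χ' z : k) • 1 : Module.End k U) (ρR u v) = ρR u ((ρR x - (χ' z : k) • 1 : Module.End k U) v)
      rw [LinearMap.sub_apply, LinearMap.sub_apply, map_sub, LinearMap.smul_apply, LinearMap.smul_apply,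
        Module.End.one_apply, Module.End.one_apply, map_smul, ← Module.End.mul_apply,
        ← Module.End.mul_apply, ← map_mul, ← map_mul, hx u]
    intro μ g hg
    by_cases hg0 : g = 0
    · rw [hg0, map_zero]
    have htμ : bs ^ q ^ m ∈ charStab Rd μ := by
      by_contra hnot
      have hbsq : bs ^ q ^ (m + 1) = 1 := Subtype.ext (by
        rw [SubgroupClass.coe_pow, OneMemClass.coe_one, pow_succ, pow_mul]
        show (b ^ q ^ m) ^ q = 1
        rw [hbm, htq])
      refine sub_one_pow_free σ hRdk hbRd hg hg0 (fun i hi hi0 hmem => ?_)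
        (by rw [hbdeg, LinearMap.zero_apply])
      obtain ⟨j, hj, hjm⟩ := exists_pow_prime_mem hq hbsq hi0 hmem
      have hjm' : j ≤ m := by
        by_contra h
        have := (Nat.pow_le_pow_right hq.pos (show m + 1 ≤ j by omega)).trans
          (Nat.le_of_dvd (Nat.pos_of_ne_zero hi0) hj)
        omega
      refine hnot ?_
      rw [← Nat.add_sub_cancel' hjm', pow_add, pow_mul]
      exact pow_mem hjm _
    obtain ⟨htn, htw⟩ := htμ
    have hyR : inclusion hRS y ∈ Rd := mem_map_of_mem _ hy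
    have hτyR : inclusion hRS (τ y) ∈ Rd := mem_map_of_mem _ (hRadτ y hy)
    have hμ : μ ⟨_, hτyR⟩ = μ ⟨_, hyR⟩ := by
      have e1 := DFunLike.congr_fun htw ⟨_, hτyR⟩
      rw [twist_apply] at e1
      rw [← e1]
      refine congrArg μ (Subtype.ext (Subtype.ext ?_))
      show ((bs ^ q ^ m : S) : H)⁻¹ * ((τ y : R) : H) * ((bs ^ q ^ m : S) : H) = (y : H)
      rw [SubgroupClass.coe_pow, show ((bs : S) : H) = b from rfl, hbm, hτv]
      group
    have e1 : σ (inclusion hRS (y⁻¹ * τ y)) g = g := by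
      rw [show inclusion hRS (y⁻¹ * τ y) = ((⟨_, hyR⟩⁻¹ * ⟨_, hτyR⟩ : Rd) : S) from by rw [map_mul, map_inv]; rfl,
        hg, map_mul, map_inv, hμ, inv_mul_cancel, Units.val_one, one_smul]
    have e2 : ρR x g = (χ' z : k) • g := by
      rw [show x = (y⁻¹ * τ y) * (z : R) by rw [hzdef]; group, map_mul, hχ', Module.End.mul_apply,
        LinearMap.smul_apply, Module.End.one_apply, map_smul]
      exact congrArg _ e1
    rw [LinearMap.sub_apply, LinearMap.smul_apply, Module.End.one_apply, e2, sub_self]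
  have hsc : scalarSub ρR = Rad := by
    refine le_antisymm (fun x hx y => ?_) hRadscal
    obtain ⟨c, hc⟩ := hx
    rw [map_mul, map_mul, hc, smul_mul_assoc, one_mul, mul_smul_comm, mul_one]
  have hE : ClassTwo ρR := fun x y => by
    refine ⟨χ' ⟨⁅x, y⁆, hcZ x y⟩, ?_⟩
    rw [← hχ' ⟨⁅x, y⁆, hcZ x y⟩]
    rfl
  have hnd : Nondeg ρR := fun x hx => hRadscal x hx
  have hmk : (Nat.card (ScalarQuot ρR) : k) ≠ 0 := by
    obtain ⟨e, he⟩ := IsPGroup.iff_card.1 hR
    obtain ⟨i, -, hi⟩ := (Nat.dvd_prime_pow hr).1 (he ▸ (scalarSub ρR).card_quotient_dvd_card)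
    rw [show Nat.card (ScalarQuot ρR) = r ^ i from hi, Nat.cast_pow]
    exact pow_ne_zero _ hrk
  have hiter : ∀ (i : ℕ) (x : R), σE^[i] x = (σR ^ (q ^ j₀ * i)) x := by
    intro i x
    induction i with
    | zero => rfl
    | succ i hi => rw [Function.iterate_succ_apply', hi, Nat.mul_succ, add_comm, pow_add]; rfl
  obtain ⟨d, hd, hqd, hblock⟩ := hh_core ρR hE hnd hmk hq (m := m) rfl σE
    (fun x => by
      rw [hiter, ← pow_add, show j₀ + (m + 1) = n + 1 by omega]
      refine Subtype.ext ?_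
      rw [hσ, ha, one_mul, inv_one, mul_one])
    (σ bs) (by
      rw [← map_pow, show bs ^ q ^ (m + 1) = 1 from Subtype.ext (by
        rw [SubgroupClass.coe_pow, OneMemClass.coe_one, pow_succ, pow_mul]
        show (b ^ q ^ m) ^ q = 1
        rw [hbm, htq]), map_one])
    hu hbdeg
    (fun x hx => by
      rw [hiter, ← pow_add, ← hm, ← hτ, hsc] at hx
      rw [hsc]
      obtain ⟨y, hy, hyz⟩ := hRadsurj _ hx
      have h1 : ψ (x : R ⧸ Z) = ψ (y : R ⧸ Z) := by
        rw [hψ, hψ]; exact (QuotientGroup.eq.2 hyz).symm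
      have h2 := QuotientGroup.eq.1 (hψinj h1)
      have h3 := mul_mem hy (inv_mem (hZRad h2))
      rwa [mul_inv_rev, inv_inv, mul_inv_cancel_left] at h3)
    (by rw [hsc]; exact fun e => hRad0 (e ▸ mem_top _))
  have hRadidx : Rad.index = d * d := by
    rw [index_eq_card, ← hd, ← hsc]
  obtain ⟨e, he⟩ := IsPGroup.iff_card.1 hR
  obtain ⟨i, -, hi⟩ := (Nat.dvd_prime_pow hr).1 (show d ∣ r ^ e from
    he ▸ ((dvd_mul_right d d).trans (hRadidx ▸ Rad.index_dvd_card)))
  have hi0 : i ≠ 0 := fun h0 => hRad0 (by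
    rw [hi, h0, pow_zero, mul_one] at hRadidx
    rw [index_eq_one.1 hRadidx]
    exact mem_top _)
  have hq2 : 2 ≤ q ^ (m + 1) := Nat.one_lt_pow (Nat.succ_ne_zero m) hq.one_lt
  refine ⟨j₀, m, i, hm.symm, Nat.one_le_iff_ne_zero.2 hi0, by rw [hqd, hi], ?_,
    ⟨x₀, hx₀, y₀, hy₀, hne₀⟩, fun hcent => ?_⟩
  · have := hlift _ hblock
    rwa [show q ^ (m + 1) - 2 + 1 = q ^ (m + 1) - 1 by omega] at this
  · rw [hj₀, Nat.find_eq_zero, pow_zero, pow_one]
    exact commute_mem_charStab χ fun y => hcent y (hYR y.2) (mul_inv_eq_iff_eq_mul.1 (hYt y y.2))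

end CfsgLib.PGroup.ModularB
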