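import Mathlib.FieldTheory.IsAlgClosed.AlgebraicClosure
import Mathlib.RingTheory.IntegralDomain
import Mathlib.RingTheory.RootsOfUnity.Basic
import Cfsg.Agent.Lib.PGroup.PqWeights
import Cfsg.Agent.Lib.PGroup.MaxNormalAbelian

/-!
# Elements of order `p` satisfying a quadratic relation over the centre

In a `p`-group `H` of automorphisms of an abelian group of exponent `l ≠ p`, `p` odd, the elements `t` of
order `p` with `(t - 1) (t - z ^ a) = 0`, `z` central in `H`, commute.
-/

set_option autoImplicit false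
set_option linter.style.haveILetI false

open Subgroup

namespace CfsgLib.PGroup.ModularB

open CfsgLib.PGroup

universe u

/-- Powers of a commuting operator: an irreducible `f` only commutes with powers of `t ∈ ⟨f⟩` among
operators of prime order `p`. -/
theorem exists_pow_eq_of_irreducible {V : Type u} [CommGroup V] [Finite V] (f g t : MulAut V)
    (hirr : ∀ U : Subgroup V, (∀ v ∈ U, f v ∈ U) → U = ⊥ ∨ U = ⊤) (hfg : Commute g f) {p : ℕ}
    [hp : Fact p.Prime] (hgp : g ^ p = 1) (ht : t ∈ zpowers f) (htp : t ^ p = 1) (ht1 : t ≠ 1) :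
    ∃ a : ℕ, g = t ^ a := by
  classical
  let End := AddMonoid.End (Additive V)
  let ι : MulAut V →* End :=
    { toFun := fun e => MonoidHom.toAdditive (e : V →* V)
      map_one' := rfl
      map_mul' := fun _ _ => rfl }
  have hι : Function.Injective ι := fun a b h => MulEquiv.ext fun v => DFunLike.congr_fun h (Additive.ofMul v)
  let C : Subring End := Subring.centralizer {ι f}
  haveI : Finite (Additive V) := Finite.of_equiv V Additive.ofMul
  haveI : Finite End :=
    Finite.of_injective (fun e : End => (e : Additive V → Additive V)) DFunLike.coe_injective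
  haveI : Nontrivial C := by
    refine ⟨⟨0, 1, fun h => ht1 (MulEquiv.ext fun v => ?_)⟩⟩
    have e := DFunLike.congr_fun (congrArg Subtype.val h) (Additive.ofMul v)
    have hv : v = 1 := (Additive.ofMul.injective e.symm : v = 1)
    rw [hv, map_one, map_one]
  have hinj : ∀ e : C, e ≠ 0 → Function.Injective (e : End) := by
    intro e he
    have hc : ι f * (e : End) = (e : End) * ι f := Subring.mem_centralizer_iff.1 e.2 _ rfl
    rcases hirr (AddSubgroup.toSubgroup' (AddMonoidHom.ker (e : End))) (fun v hv => by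
      have hv' : (e : End) (Additive.ofMul v) = 0 := hv
      show (e : End) (ι f (Additive.ofMul v)) = 0
      rw [show (e : End) (ι f (Additive.ofMul v)) = ι f ((e : End) (Additive.ofMul v)) from
        (DFunLike.congr_fun hc _).symm, hv', map_zero]) with h | h
    · refine (AddMonoidHom.ker_eq_bot_iff _).1 (AddSubgroup.toSubgroup'.injective (h.trans ?_))
      ext; simp
    · refine absurd (Subtype.ext (AddMonoidHom.ext fun x => ?_)) he
      exact (h.ge (mem_top x.toMul) : x.toMul ∈ AddSubgroup.toSubgroup' (AddMonoidHom.ker (e : End)))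
  haveI : NoZeroDivisors C := ⟨fun {a b} h => or_iff_not_imp_left.2 fun ha =>
    Subtype.ext (AddMonoidHom.ext fun x => hinj a ha
      ((DFunLike.congr_fun (congrArg Subtype.val h) x).trans (map_zero (a : End)).symm))⟩
  haveI : IsDomain C := NoZeroDivisors.to_isDomain C
  letI : Field C := (Finite.isDomain_to_isField C).toField
  let j : centralizer ({f} : Set (MulAut V)) →* C :=
    { toFun := fun e => ⟨ι e, Subring.mem_centralizer_iff.2 fun x hx => by
        rw [Set.mem_singleton_iff.1 hx, ← map_mul, ← map_mul]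
        exact congrArg ι (mem_centralizer_singleton_iff.1 e.2).symm⟩
      map_one' := rfl
      map_mul' := fun a b => Subtype.ext (map_mul ι (a : MulAut V) b) }
  have hj : Function.Injective j := fun a b h => Subtype.ext (hι (congrArg Subtype.val h))
  have htf : Commute t f := by
    obtain ⟨i, rfl⟩ := ht
    exact (Commute.refl f).zpow_left i
  let g' : centralizer ({f} : Set (MulAut V)) := ⟨g, mem_centralizer_singleton_iff.2 hfg.eq⟩
  let t' : centralizer ({f} : Set (MulAut V)) := ⟨t, mem_centralizer_singleton_iff.2 htf.eq⟩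
  have hprim : IsPrimitiveRoot (j t') p := by
    have : orderOf (j t') = p := by
      rw [orderOf_injective j hj, ← Subgroup.orderOf_coe]
      exact orderOf_eq_prime htp ht1
    exact this ▸ IsPrimitiveRoot.orderOf (j t')
  obtain ⟨i, -, hi⟩ := hprim.eq_pow_of_pow_eq_one (ξ := j g')
    (by rw [← map_pow, show g' ^ p = 1 from Subtype.ext hgp, map_one])
  rw [← map_pow] at hi
  exact ⟨i, (congrArg Subtype.val (hj hi)).symm⟩

/-- **Commuting quadratic elements.** -/
theorem commute_of_quadratic {M : Type u} [CommGroup M] [Finite M] {l : ℕ} [Fact l.Prime]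
    (hM : ∀ v : M, v ^ l = 1) {p : ℕ} [hp : Fact p.Prime] (hp2 : p ≠ 2) (hlp : l ≠ p)
    (H : Subgroup (MulAut M)) (hH : IsPGroup p H) {z : MulAut M} (hz : z ∈ H)
    (hzc : ∀ h ∈ H, h * z = z * h) {t t' : MulAut M} (ht : t ∈ H) (ht' : t' ∈ H)
    (htp : t ^ p = 1) (htp' : t' ^ p = 1)
    (hq : ∃ a : ℕ, ∀ v, t (v⁻¹ * t v) = (z ^ a) (v⁻¹ * t v))
    (hq' : ∃ a : ℕ, ∀ v, t' (v⁻¹ * t' v) = (z ^ a) (v⁻¹ * t' v)) : t * t' = t' * t := by
  classical
  haveI : Finite (MulAut M) := Finite.of_injective (fun e : MulAut M => (e : M → M)) DFunLike.coe_injective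
  obtain ⟨n, hn⟩ := IsPGroup.iff_card.1 hH
  have hexp : ∀ h : H, h ^ p ^ (n + 1) = 1 := fun h => by
    rw [pow_succ, ← hn, pow_mul, pow_card_eq_one', one_pow]
  set zH : H := ⟨z, hz⟩
  have hzn : (zpowers zH).Normal := ⟨fun x hx g => by
    obtain ⟨i, rfl⟩ := hx
    refine ⟨i, ?_⟩
    have hc : Commute g zH := Subtype.ext (hzc g g.2)
    show zH ^ i = g * zH ^ i * g⁻¹
    rw [(hc.zpow_right i).eq, mul_inv_cancel_right]⟩
  obtain ⟨A, ⟨hAn, hAc, hzA⟩, hAmax⟩ := (Set.toFinite {B : Subgroup H | B.Normal ∧ IsMulCommutative B ∧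
    zpowers zH ≤ B}).exists_maximal ⟨zpowers zH, hzn, inferInstance, le_rfl⟩
  haveI := hAn
  have hAself : ∀ x : H, x ∈ centralizer (A : Set H) → x ∈ A := fun x hx =>
    mem_of_maximal_abelian_exponent (n := n + 1) hH (by
      intro e
      exact hp2 ((Nat.prime_dvd_prime_iff_eq hp.out Nat.prime_two).1 (e ▸ dvd_pow_self p (Nat.succ_ne_zero n))))
      hAc (fun a _ => hexp a) (fun B hB hBc _ hAB => le_antisymm (hAmax ⟨hB, hBc, hzA.trans hAB⟩ hAB) hAB)
      hx (hexp x)
  let k := AlgebraicClosure (ZMod l)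
  haveI : CharP k l := charP_of_injective_algebraMap (algebraMap (ZMod l) k).injective l
  obtain ⟨hfd, -⟩ := CfsgLib.PGroup.finrank_addHom (V := M) hM k
  let c : H →* MulAut M := H.subtype
  let ρ := dRep k c
  have key : ∀ (s : MulAut M) (hs : s ∈ H), s ^ p = 1 →
      (∃ a : ℕ, ∀ v, s (v⁻¹ * s v) = (z ^ a) (v⁻¹ * s v)) → (⟨s, hs⟩ : H) ∈ A := by
    intro s hs hsp ⟨a, ha⟩
    haveI := Fintype.ofFinite A
    obtain ⟨e, he⟩ := IsPGroup.iff_card.1 (hH.to_subgroup A)
    have hAk : (Fintype.card A : k) ≠ 0 := by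
      rw [← Nat.card_eq_fintype_card, he, Nat.cast_pow]
      refine pow_ne_zero _ fun e => hlp ?_
      exact (Nat.prime_dvd_prime_iff_eq Fact.out hp.out).1 ((CharP.cast_eq_zero_iff k l p).1 e)
    have hAi : ImgComm ρ A := fun y hy w hw =>
      congrArg ρ (congrArg Subtype.val (isMulCommutative_iff.1 hAc ⟨y, hy⟩ ⟨w, hw⟩))
    set σ : H := (⟨s, hs⟩ : H)⁻¹ with hσ
    have hσp : σ ^ p = 1 := by
      rw [hσ, inv_pow, inv_eq_one]; exact Subtype.ext hsp
    have hN : ∀ g : H, g ∈ normalizer (A : Set H) := fun g => by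
      rw [normalizer_eq_top_iff.2 hAn]; exact mem_top g
    refine inv_mem_iff.1 (hAself σ (mem_centralizer_iff.2 fun y hy => ?_))
    have hy' : σ * y * σ⁻¹ ∈ A := hAn.conj_mem y hy σ
    suffices h0 : ρ (σ * y * σ⁻¹) = ρ y by
      have h1 : c (σ * y * σ⁻¹ * y⁻¹) = 1 :=
        eq_one_of_dRep hM c (by
          show ρ (σ * y * σ⁻¹ * y⁻¹) = 1
          rw [map_mul, h0, ← map_mul, mul_inv_cancel, map_one])
      have h2 : σ * y * σ⁻¹ * y⁻¹ = 1 := Subtype.ext h1
      rw [mul_inv_eq_one, mul_inv_eq_iff_eq_mul] at h2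
      exact h2.symm
    refine sub_eq_zero.1 (eq_zero_of_forall_eigen ρ hAi hAk _ (fun w hw v => ?_) fun χ f hf => ?_)
    · have e1 : w * (σ * y * σ⁻¹) = σ * y * σ⁻¹ * w :=
        congrArg Subtype.val (isMulCommutative_iff.1 hAc ⟨w, hw⟩ ⟨_, hy'⟩)
      have e2 : w * y = y * w := congrArg Subtype.val (isMulCommutative_iff.1 hAc ⟨w, hw⟩ ⟨_, hy⟩)
      rw [LinearMap.sub_apply, LinearMap.sub_apply, map_sub, ← rep_mul_apply, ← rep_mul_apply,
        ← rep_mul_apply, ← rep_mul_apply, e1, e2]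
    by_cases hf0 : f = 0
    · rw [hf0, map_zero]
    by_cases hst : σ ∈ charStab A χ
    · rw [LinearMap.sub_apply, hf ⟨_, hy'⟩, hf ⟨_, hy⟩, ← sub_smul]
      obtain ⟨hσN, hst'⟩ := hst
      have e1 := DFunLike.congr_fun hst' ⟨σ * y * σ⁻¹, hy'⟩
      rw [twist_apply] at e1
      rw [← e1]
      simp [mul_assoc]
    exfalso
    have hst2 : σ ^ 2 ∉ charStab A χ := fun h => hst (by
      obtain ⟨d, hd⟩ := hp.out.odd_of_ne_two hp2
      have h' : σ = (σ ^ 2) ^ (d + 1) := by
        rw [← pow_mul, show 2 * (d + 1) = p + 1 by omega, pow_succ, hσp, one_mul]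
      rw [h']
      exact pow_mem h _)
    set w : H := (zH ^ a)⁻¹ with hw
    have hwA : w ∈ A := inv_mem (pow_mem (hzA (mem_zpowers zH)) a)
    have hrel : ρ (σ ^ 2) f - ρ σ f + ρ w f - ρ σ (ρ w f) = 0 := by
      refine AddMonoidHom.ext fun v => ?_
      rw [pow_two, rep_mul_apply]
      show f (Additive.ofMul (c σ⁻¹ (c σ⁻¹ v.toMul))) - f (Additive.ofMul (c σ⁻¹ v.toMul)) +
        f (Additive.ofMul (c w⁻¹ v.toMul)) - f (Additive.ofMul (c w⁻¹ (c σ⁻¹ v.toMul))) = 0
      simp only [hσ, hw, inv_inv, c, coe_subtype, SubgroupClass.coe_pow, zH]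
      have h := congrArg (fun m => f (Additive.ofMul m)) (ha v.toMul)
      simp only [map_mul, map_inv, ofMul_mul, ofMul_inv, map_add, map_neg] at h
      rw [← sub_eq_zero] at h
      rw [← h]
      abel
    rw [show ρ w f = (χ ⟨w, hwA⟩ : k) • f from hf ⟨w, hwA⟩, map_smul] at hrel
    have h1 := congrArg (eigProj ρ χ) hrel
    have hne1 : eigProj ρ χ (ρ σ f) = 0 :=
      eigProj_ne ρ (hf.map ρ (hN σ)) fun e' => hst ⟨hN σ, e'.symm⟩
    have hne2 : eigProj ρ χ (ρ (σ ^ 2) f) = 0 :=
      eigProj_ne ρ (hf.map ρ (hN _)) fun e' => hst2 ⟨hN _, e'.symm⟩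
    simp only [map_sub, map_add, map_smul, map_zero, hne1, hne2, smul_zero, sub_zero, zero_add,
      eigProj_self ρ hf, smul_eq_zero] at h1
    rcases h1 with h | h
    · exact Units.ne_zero _ h
    · exact h.elim hAk hf0
  exact congrArg Subtype.val (congrArg Subtype.val (isMulCommutative_iff.1 hAc
    ⟨⟨t, ht⟩, key t ht htp hq⟩ ⟨⟨t', ht'⟩, key t' ht' htp' hq'⟩))

end CfsgLib.PGroup.ModularB
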