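import Cfsg.Agent.Lib.PGroup.ModularB.Count
import Cfsg.Agent.Lib.PGroup.ModularB.Quadratic
import Cfsg.Agent.Lib.PGroup.ShultGross.Arith

/-!
# The socle of an exceptional operator is quadratic over its centralizer

If `β` is realised on a nondegenerate class two `2`-group by an operator of order `p ^ (m + 1)` with no
full block, its socle `t` moves an irreducible piece only, and `(t - 1) (t - ζ ^ a) = 0` on the quotient
by the scalars for every fixed-point-free `ζ` of order `p` commuting with `β`.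
-/

set_option autoImplicit false
set_option linter.style.haveILetI false

open Subgroup

namespace CfsgLib.PGroup.ModularB

open CfsgLib.PGroup

universe u v w

/-- A semiregular automorphism of order `p ^ (m + 1)` makes that number divide `|U| - 1`. -/
theorem dvd_card_sub_one {V : Type u} [CommGroup V] [Finite V] (f : MulAut V) {p m : ℕ} [hp : Fact p.Prime]
    (hf : f ^ p ^ (m + 1) = 1) (hfree : ∀ v, (f ^ p ^ m) v = v → v = 1)
    (U : Subgroup V) (hU : ∀ v ∈ U, f v ∈ U) : p ^ (m + 1) ∣ Nat.card U - 1 := by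
  classical
  let P := zpowers f
  have hinv : ∀ (g : P) (v : V), v ∈ U → (g : MulAut V) v ∈ U := by
    rintro ⟨g, hg⟩ v hv
    haveI : Finite (MulAut V) := Finite.of_injective (fun e : MulAut V => (e : V → V)) DFunLike.coe_injective
    obtain ⟨i, rfl⟩ := (Submonoid.mem_powers_iff _ _).1
      ((isOfFinOrder_of_finite f).mem_powers_iff_mem_zpowers.2 hg)
    show (f ^ i) v ∈ U
    induction i with
    | zero => exact hv
    | succ i hi =>
      rw [pow_succ', MulAut.mul_apply]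
      exact hU _ (hi (Subgroup.pow_mem _ (mem_zpowers f) _))
  let α := {v : U // v ≠ 1}
  letI : MulAction P α :=
    { smul := fun g v => ⟨⟨(g : MulAut V) v.1.1, hinv g _ v.1.2⟩, fun e => v.2 (Subtype.ext
        ((g : MulAut V).injective ((congrArg Subtype.val e).trans (map_one (g : MulAut V)).symm)))⟩
      one_smul := fun v => rfl
      mul_smul := fun g h v => rfl }
  haveI : Finite (MulAut V) := Finite.of_injective (fun e : MulAut V => (e : V → V)) DFunLike.coe_injective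
  by_cases hU1 : IsEmpty α
  · have : Nat.card U = 1 := by
      refine card_eq_one.2 ((Subgroup.eq_bot_iff_forall U).2 fun v hv => ?_)
      by_contra hne
      exact hU1.false ⟨⟨v, hv⟩, fun e => hne (congrArg Subtype.val e)⟩
    rw [this]
    exact dvd_zero _
  rw [not_isEmpty_iff] at hU1
  have hfm : f ^ p ^ m ≠ 1 := fun e => by
    obtain ⟨v, hv⟩ := hU1
    exact hv (Subtype.ext (hfree _ (by rw [e]; rfl)))
  have hord : orderOf f = p ^ (m + 1) := orderOf_eq_prime_pow hfm hf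
  have hstab : ∀ v : α, MulAction.stabilizer P v = ⊥ := by
    intro v
    rw [eq_bot_iff]
    rintro ⟨g, hg⟩ hgv
    obtain ⟨i, rfl⟩ := (Submonoid.mem_powers_iff _ _).1
      ((isOfFinOrder_of_finite f).mem_powers_iff_mem_zpowers.2 hg)
    rw [mem_bot]
    refine Subtype.ext ?_
    by_contra hne
    have hfix : (f ^ i) v.1.1 = v.1.1 := congrArg Subtype.val (congrArg Subtype.val hgv)
    obtain ⟨j, u, hu, rfl⟩ : ∃ j u, ¬ p ∣ u ∧ i = p ^ j * u :=
      ⟨_, _, Nat.not_dvd_ordCompl hp.out (show i ≠ 0 from fun e => hne (by subst e; exact pow_zero f)),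
        (Nat.ordProj_mul_ordCompl_eq_self i p).symm⟩
    have hjm : j ≤ m := by
      by_contra h
      refine hne (orderOf_dvd_iff_pow_eq_one.1 ?_)
      rw [hord]
      exact (pow_dvd_pow p (by omega)).mul_right u
    have hco : u.Coprime (orderOf (f ^ p ^ j)) :=
      ((hp.out.coprime_iff_not_dvd.2 hu).symm.pow_right (m + 1)).coprime_dvd_right
        (orderOf_dvd_of_pow_eq_one (by rw [← pow_mul, mul_comm, pow_mul, hf, one_pow]))
    obtain ⟨d, hd⟩ := exists_pow_eq_self_of_coprime hco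
    refine v.2 (Subtype.ext (hfree _ ?_))
    have hmem : f ^ p ^ m ∈ MulAction.stabilizer (MulAut V) v.1.1 := by
      rw [← Nat.add_sub_cancel' hjm, pow_add, pow_mul, ← hd, ← pow_mul f]
      exact pow_mem (pow_mem (show f ^ (p ^ j * u) ∈ MulAction.stabilizer (MulAut V) v.1.1 from hfix) _) _
    exact hmem
  haveI := Fintype.ofFinite P
  haveI := Fintype.ofFinite α
  haveI := Fintype.ofFinite U
  have hdvd : Nat.card P ∣ Nat.card α := by
    rw [Nat.card_congr (MulAction.selfEquivSigmaOrbits' P α), Nat.card_sigma]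
    refine Finset.dvd_sum fun o _ => ?_
    obtain ⟨v, rfl⟩ := Quotient.exists_rep o
    rw [Nat.card_congr (Equiv.setCongr (MulAction.orbitRel.Quotient.orbit_mk v)),
      Nat.card_congr (MulAction.orbitEquivQuotientStabilizer P v), hstab v, ← index_eq_card, index_bot]
  rw [Nat.card_zpowers, hord] at hdvd
  rwa [show Nat.card α = Nat.card U - 1 by
    rw [Nat.card_eq_fintype_card, Nat.card_eq_fintype_card, Fintype.card_subtype_compl,
      Fintype.card_subtype_eq]] at hdvd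

variable {R : Type u} [Group R] [Finite R] {k : Type v} [Field k] [IsAlgClosed k] {W : Type w}
  [AddCommGroup W] [Module k W] [FiniteDimensional k W]

/-- **The socle is quadratic.** -/
theorem exists_quadratic (ρ : R →* Module.End k W) [Nontrivial W] (hE : ClassTwo ρ) (hnd : Nondeg ρ)
    (hR : IsPGroup 2 R) (hsq : ∀ x, x * x ∈ scalarSub ρ) {p m : ℕ} [hp : Fact p.Prime] [CharP k p]
    (hp2 : p ≠ 2) (β : MulAut R) (hβN : β ^ p ^ (m + 1) = 1) (u : Module.End k W)
    (huN : u ^ p ^ (m + 1) = 1) (hu : ∀ x, u * ρ x = ρ (β x) * u)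
    (hdeg : (u - 1) ^ (p ^ (m + 1) - 1) = 0)
    (ζ : MulAut R) (hζS : ∀ x ∈ scalarSub ρ, ζ x ∈ scalarSub ρ) (hζβ : Commute ζ β)
    (hζp : ∀ x, x⁻¹ * (ζ ^ p) x ∈ scalarSub ρ) (hζfpf : ∀ x, x⁻¹ * ζ x ∈ scalarSub ρ → x ∈ scalarSub ρ) :
    ∃ a : ℕ, ∀ x, ((ζ ^ a) (x⁻¹ * (β ^ p ^ m) x))⁻¹ * (β ^ p ^ m) (x⁻¹ * (β ^ p ^ m) x) ∈ scalarSub ρ := by
  classical
  haveI := scalarSub_normal ρ
  haveI : Fact (Nat.Prime 2) := ⟨Nat.prime_two⟩
  set Sc := scalarSub ρ with hScdef
  have h2k : ((2 : ℕ) : k) ≠ 0 := fun e =>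
    hp2 ((Nat.prime_dvd_prime_iff_eq hp.out Nat.prime_two).1 ((CharP.cast_eq_zero_iff k p 2).1 e))
  letI : CommGroup (R ⧸ Sc) :=
    { QuotientGroup.Quotient.group Sc with
      mul_comm := fun a b => by
        obtain ⟨x, rfl⟩ := QuotientGroup.mk_surjective a
        obtain ⟨y, rfl⟩ := QuotientGroup.mk_surjective b
        refine (QuotientGroup.eq (s := Sc)).2 ?_
        rw [show (x * y)⁻¹ * (y * x) = y⁻¹ * x⁻¹ * (y⁻¹)⁻¹ * (x⁻¹)⁻¹ by group]
        exact hE _ _ }
  have hsq' : ∀ v : R ⧸ Sc, v * v = 1 := fun v => by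
    obtain ⟨x, rfl⟩ := QuotientGroup.mk_surjective v
    exact (QuotientGroup.eq_one_iff _).2 (hsq x)
  obtain ⟨v, hv⟩ : ∃ v : Module.End k W, u * v = 1 :=
    ⟨u ^ (p ^ (m + 1) - 1), by rw [← pow_succ', Nat.sub_add_cancel (Nat.one_le_pow _ _ hp.out.pos), huN]⟩
  have hcancel : ∀ {X Y : Module.End k W}, X * u = Y * u → X = Y := fun {X Y} h => by
    have := congrArg (· * v) h
    simpa [mul_assoc, hv] using this
  have hβS : ∀ x ∈ Sc, β x ∈ Sc := fun x ⟨c, hc⟩ => ⟨c, hcancel (by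
    rw [← hu, hc, mul_smul_comm, mul_one, smul_mul_assoc, one_mul])⟩
  have hpowS : ∀ (f : MulAut R), (∀ x ∈ Sc, f x ∈ Sc) → ∀ (i : ℕ), ∀ x ∈ Sc, (f ^ i) x ∈ Sc := by
    intro f hf i
    induction i with
    | zero => exact fun x hx => hx
    | succ i hi => exact fun x hx => by rw [pow_succ']; exact hf _ (hi x hx)
  have hmapS : ∀ (f : MulAut R), (∀ x ∈ Sc, f x ∈ Sc) → Sc.map (f : R →* R) = Sc := fun f hf =>
    eq_of_le_of_card_ge (map_le_iff_le_comap.2 hf) (card_map_of_injective f.injective).ge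
  let qa : ∀ (f : MulAut R), (∀ x ∈ Sc, f x ∈ Sc) → MulAut (R ⧸ Sc) := fun f hf =>
    QuotientGroup.congr Sc Sc f (hmapS f hf)
  have hqapow : ∀ (f : MulAut R) (hf : ∀ x ∈ Sc, f x ∈ Sc) (i : ℕ) (x : R),
      ((qa f hf) ^ i) (x : R ⧸ Sc) = (((f ^ i) x : R) : R ⧸ Sc) := by
    intro f hf i
    induction i with
    | zero => intro x; rfl
    | succ i hi => intro x; rw [pow_succ', pow_succ', MulAut.mul_apply, hi]; rfl
  set τ : MulAut R := β ^ p ^ m with hτ
  set B := qa β hβS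
  set Zt := qa ζ hζS
  set T := B ^ p ^ m with hT
  have hTv : ∀ x : R, T (x : R ⧸ Sc) = ((τ x : R) : R ⧸ Sc) := fun x => hqapow β hβS _ x
  have hBN : B ^ p ^ (m + 1) = 1 := MulEquiv.ext fun w => by
    obtain ⟨x, rfl⟩ := QuotientGroup.mk_surjective w
    rw [hqapow β hβS, hβN]
    rfl
  have hTp : T ^ p = 1 := by rw [hT, ← pow_mul, ← pow_succ, hBN]
  let δ : (R ⧸ Sc) →* (R ⧸ Sc) := MonoidHom.mk' (fun w => w⁻¹ * T w) fun a b => by
    rw [map_mul, mul_inv, mul_mul_mul_comm]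
  have hδ : ∀ w, δ w = w⁻¹ * T w := fun w => rfl
  have hker : ∀ w ∈ δ.range, δ w = 1 → w = 1 := by
    rintro w ⟨a, rfl⟩ h
    rw [hδ, inv_mul_eq_one] at h
    have hit : ∀ i : ℕ, (T ^ i) a = a * (δ a) ^ i := by
      intro i
      induction i with
      | zero => simp
      | succ i hi =>
        rw [pow_succ', MulAut.mul_apply, hi, map_mul, map_pow, ← h,
          show T a = a * δ a by rw [hδ, mul_inv_cancel_left], mul_assoc, ← pow_succ']
    have h1 := hit p
    rw [hTp, MulAut.one_apply, left_eq_mul] at h1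
    obtain ⟨d, hd⟩ := hp.out.odd_of_ne_two hp2
    rw [hd, pow_succ, pow_mul, pow_two, hsq', one_pow, one_mul] at h1
    exact h1
  let E' : Subgroup R := δ.range.comap (QuotientGroup.mk' Sc)
  have hmemE : ∀ x, x ∈ E' ↔ (x : R ⧸ Sc) ∈ δ.range := fun x => Iff.rfl
  have hScE : Sc ≤ E' := fun x hx => by
    rw [hmemE, (QuotientGroup.eq_one_iff x).2 hx]; exact one_mem _
  by_cases hbot : δ.range = ⊥
  · refine ⟨0, fun x => ?_⟩
    have h1 : δ (x : R ⧸ Sc) = 1 := by
      have hm : δ (x : R ⧸ Sc) ∈ δ.range := ⟨_, rfl⟩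
      rwa [hbot, mem_bot] at hm
    rw [hδ, hTv, ← QuotientGroup.mk_inv, ← QuotientGroup.mk_mul, QuotientGroup.eq_one_iff] at h1
    rw [pow_zero, MulAut.one_apply]
    exact mul_mem (inv_mem h1) (hpowS β hβS _ _ h1)
  -- invariance of the form
  have hchiβ : ∀ (i : ℕ) y c, chi ρ hE ((β ^ i) y) ((β ^ i) c) = chi ρ hE y c := by
    intro i
    induction i with
    | zero => intro y c; rfl
    | succ i hi =>
      intro y c
      rw [pow_succ', MulAut.mul_apply, MulAut.mul_apply, ← hi y c]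
      refine smul_rep_inj ρ (x := β ((β ^ i) y)) (hcancel ?_)
      rw [← chi_spec, ← map_inv β, ← map_mul β, ← map_mul β, ← hu, chi_spec ρ hE, mul_smul_comm, hu,
        smul_mul_assoc]
  have hperp : ∀ x ∈ E', ∀ c : R, δ (c : R ⧸ Sc) = 1 → chi ρ hE x c = 1 := by
    intro x hx c hc
    obtain ⟨a, ha⟩ := (hmemE x).1 hx
    obtain ⟨y, rfl⟩ := QuotientGroup.mk_surjective a
    rw [hδ, hTv, ← QuotientGroup.mk_inv, ← QuotientGroup.mk_mul, QuotientGroup.eq_one_iff] at hc
    rw [hδ, hTv, ← QuotientGroup.mk_inv, ← QuotientGroup.mk_mul, QuotientGroup.eq] at ha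
    have h1 : chi ρ hE (τ y) c = chi ρ hE y c := by
      have h2 := chi_mul_right ρ hE (τ y) c (c⁻¹ * τ c)
      rw [mul_inv_cancel_left, hτ, hchiβ, chi_of_mem_right ρ hE _ hc, mul_one] at h2
      exact h2.symm
    have h3 : chi ρ hE (y⁻¹ * τ y) c = 1 := by
      have h4 := chi_mul_left ρ hE y⁻¹ y c
      rw [inv_mul_cancel, chi_one_left] at h4
      rw [chi_mul_left, h1, ← h4]
    have h5 := chi_mul_left ρ hE (y⁻¹ * τ y) ((y⁻¹ * τ y)⁻¹ * x) c
    rwa [mul_inv_cancel_left, h3, chi_of_mem_left ρ hE ha, mul_one] at h5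
  have hdecomp : ∀ y : R, ∃ e ∈ E', δ ((e⁻¹ * y : R) : R ⧸ Sc) = 1 := by
    intro y
    let δ' : δ.range → δ.range := fun w => ⟨δ w, ⟨_, rfl⟩⟩
    have hinj : Function.Injective δ' := fun a b h => Subtype.ext (by
      have h' : δ (a : R ⧸ Sc) = δ b := congrArg Subtype.val h
      exact inv_mul_eq_one.1 (hker _ (mul_mem (inv_mem a.2) b.2)
        (by rw [map_mul, map_inv, h', inv_mul_cancel])))
    obtain ⟨⟨w, hw⟩, hwy⟩ := Finite.injective_iff_surjective.1 hinj ⟨δ (y : R ⧸ Sc), ⟨_, rfl⟩⟩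
    obtain ⟨e, rfl⟩ := QuotientGroup.mk_surjective w
    refine ⟨e, hw, ?_⟩
    have hwy' : δ (e : R ⧸ Sc) = δ (y : R ⧸ Sc) := congrArg Subtype.val hwy
    rw [QuotientGroup.mk_mul, QuotientGroup.mk_inv, map_mul, map_inv, hwy', inv_mul_cancel]
  let ρE : E' →* Module.End k W := ρ.comp E'.subtype
  have hscE : ∀ x : E', x ∈ scalarSub ρE ↔ (x : R) ∈ Sc := fun x => Iff.rfl
  have hEE : ClassTwo ρE := fun x y => hE x y
  have hndE : Nondeg ρE := by
    intro x hx
    rw [hscE]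
    refine hnd x fun y => ?_
    obtain ⟨e, he, hey⟩ := hdecomp y
    refine ((chi_eq_one_iff ρ hE (x : R) y).1 ?_).symm
    have h1 := chi_mul_right ρ hE (x : R) e (e⁻¹ * y)
    rw [mul_inv_cancel_left, hperp x x.2 _ hey, mul_one] at h1
    rw [h1]
    exact (chi_eq_one_iff ρ hE (x : R) e).2 (hx ⟨e, he⟩).symm
  have hTB : ∀ w, T (B w) = B (T w) := fun w => by
    rw [← MulAut.mul_apply, ← MulAut.mul_apply, hT, ← pow_succ, ← pow_succ']
  have hBrange : ∀ w ∈ δ.range, B w ∈ δ.range := by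
    rintro _ ⟨a, rfl⟩
    exact ⟨B a, by rw [hδ, hδ, map_mul, map_inv, hTB]⟩
  have hβE : ∀ x ∈ E', β x ∈ E' := fun x hx => hBrange _ hx
  let σE : E' ≃* E' := (β.subgroupMap E').trans (MulEquiv.subgroupCongr (eq_of_le_of_card_ge
    (map_le_iff_le_comap.2 hβE) (card_map_of_injective β.injective).ge))
  have hσit : ∀ (i : ℕ) (x : E'), ((σE^[i] x : E') : R) = (β ^ i) x := by
    intro i x
    induction i with
    | zero => rfl
    | succ i hi =>
      rw [Function.iterate_succ_apply', pow_succ', MulAut.mul_apply, ← hi]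
      rfl
  haveI := scalarSub_normal ρE
  let fE : E' →* R ⧸ Sc := (QuotientGroup.mk' Sc).comp E'.subtype
  have hfker : fE.ker = scalarSub ρE := by
    ext x
    rw [MonoidHom.mem_ker, hscE]
    exact QuotientGroup.eq_one_iff (x : R)
  have hfrange : fE.range = δ.range := by
    rw [MonoidHom.range_comp, range_subtype]
    exact map_comap_eq_self_of_surjective (QuotientGroup.mk'_surjective Sc) _
  have hScE_card : Nat.card (ScalarQuot ρE) = Nat.card δ.range := by
    show Nat.card (E' ⧸ scalarSub ρE) = _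
    rw [← index_eq_card, ← hfker, index_ker, hfrange]
  obtain ⟨e, he⟩ := IsPGroup.iff_card.1 ((hR.to_quotient Sc).to_subgroup δ.range)
  have hmk : (Nat.card (ScalarQuot ρE) : k) ≠ 0 := by
    rw [hScE_card, he, Nat.cast_pow]
    exact pow_ne_zero _ h2k
  obtain ⟨d, hd, hqd, -⟩ := hh_core ρE hEE hndE hmk hp.out (m := m) rfl σE
    (fun x => Subtype.ext (by rw [hσit, hβN]; rfl)) u huN (fun x => hu x) hdeg
    (fun x hx => by
      rw [hscE, Subgroup.coe_mul, InvMemClass.coe_inv, hσit, ← hτ] at hx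
      rw [hscE]
      refine (QuotientGroup.eq_one_iff (x : R)).1 (hker _ x.2 ?_)
      rw [hδ, hTv, ← QuotientGroup.mk_inv, ← QuotientGroup.mk_mul, QuotientGroup.eq_one_iff]
      exact hx)
    (fun htop => hbot (by
      rw [eq_bot_iff]
      intro w hw
      obtain ⟨x, rfl⟩ := QuotientGroup.mk_surjective w
      exact (QuotientGroup.eq_one_iff x).2 ((hscE ⟨x, hw⟩).1 (htop.ge (mem_top _)))))
  rw [hScE_card, he] at hd
  obtain ⟨i, -, hi⟩ := (Nat.dvd_prime_pow Nat.prime_two).1 (show d ∣ 2 ^ e from hd ▸ dvd_mul_right d d)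
  rw [hi, ← pow_add] at hd
  have hei : e = i + i := Nat.pow_right_injective (le_refl 2) hd
  -- restrict to the range
  let Mt := δ.range
  have hZrange : ∀ w ∈ δ.range, Zt w ∈ δ.range := by
    rintro _ ⟨a, rfl⟩
    refine ⟨Zt a, ?_⟩
    obtain ⟨x, rfl⟩ := QuotientGroup.mk_surjective a
    have hz := (hζβ.pow_right (p ^ m)).eq
    have h1 : Zt (x : R ⧸ Sc) = ((ζ x : R) : R ⧸ Sc) := rfl
    rw [hδ, hδ, map_mul, map_inv, h1, hTv, hTv]
    refine congrArg (((ζ x : R) : R ⧸ Sc)⁻¹ * ·) ?_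
    show ((τ (ζ x) : R) : R ⧸ Sc) = ((ζ (τ x) : R) : R ⧸ Sc)
    exact congrArg _ (DFunLike.congr_fun hz.symm x)
  let res : ∀ (f : MulAut (R ⧸ Sc)), (∀ w ∈ δ.range, f w ∈ δ.range) → MulAut Mt := fun f hf =>
    (f.subgroupMap δ.range).trans (MulEquiv.subgroupCongr (eq_of_le_of_card_ge
      (map_le_iff_le_comap.2 hf) (card_map_of_injective f.injective).ge))
  let fB := res B hBrange
  let fZ := res Zt hZrange
  have hres : ∀ f hf (j : ℕ) (w : Mt), ((((res f hf) ^ j) w : Mt) : R ⧸ Sc) = (f ^ j) w := by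
    intro f hf j
    induction j with
    | zero => intro w; rfl
    | succ j hj => intro w; rw [pow_succ', pow_succ', MulAut.mul_apply, MulAut.mul_apply, ← hj]; rfl
  have hfree : ∀ w : Mt, (fB ^ p ^ m) w = w → w = 1 := by
    intro w hw
    refine Subtype.ext (hker _ w.2 ?_)
    rw [hδ, hT, ← hres B hBrange, hw, inv_mul_cancel]
  have hfBN : fB ^ p ^ (m + 1) = 1 := MulEquiv.ext fun w => Subtype.ext (by rw [hres B hBrange, hBN]; rfl)
  have hi0 : i ≠ 0 := by
    intro h0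
    apply hbot
    rw [← card_eq_one, he, hei, h0, pow_zero]
  have hirr : ∀ U : Subgroup Mt, (∀ w ∈ U, fB w ∈ U) → U = ⊥ ∨ U = ⊤ := by
    intro U hU
    by_cases hU0 : U = ⊥
    · exact Or.inl hU0
    right
    obtain ⟨D, hD⟩ := IsPGroup.iff_card.1 (((hR.to_quotient Sc).to_subgroup δ.range).to_subgroup U)
    have hdvd := dvd_card_sub_one fB hfBN hfree U hU
    rw [hD] at hdvd
    have h2 := ShultGross.two_mul_pow_dvd (j := 0) hp.out hp2 (hi ▸ hqd) (by rwa [add_zero])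
    rw [pow_zero, mul_one] at h2
    have hD0 : D ≠ 0 := fun h0 => hU0 (card_eq_one.1 (by rw [hD, h0, pow_zero]))
    refine eq_top_of_card_eq U (le_antisymm (Nat.le_of_dvd Nat.card_pos U.card_subgroup_dvd_card) ?_)
    rw [he, hD, hei]
    exact Nat.pow_le_pow_right Nat.two_pos (by have := Nat.le_of_dvd (Nat.pos_of_ne_zero hD0) h2; omega)
  haveI : Nontrivial Mt := (nontrivial_iff_ne_bot _).2 hbot
  have hfT1 : fB ^ p ^ m ≠ 1 := fun e => by
    obtain ⟨w, hw⟩ := exists_ne (1 : Mt)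
    exact hw (hfree w (by rw [e]; rfl))
  have hfZ : ∀ (j : ℕ) (x : R) (hx : (x : R ⧸ Sc) ∈ δ.range),
      ((((fZ ^ j) ⟨_, hx⟩ : Mt)) : R ⧸ Sc) = (((ζ ^ j) x : R) : R ⧸ Sc) := fun j x hx => by
    rw [hres Zt hZrange, hqapow ζ hζS]
  have hcomm : Commute fZ fB := MulEquiv.ext fun w => by
    obtain ⟨w, hw⟩ := w
    obtain ⟨x, rfl⟩ := QuotientGroup.mk_surjective w
    refine Subtype.ext ?_
    show ((ζ (β x) : R) : R ⧸ Sc) = ((β (ζ x) : R) : R ⧸ Sc)
    exact congrArg _ (DFunLike.congr_fun hζβ.eq x)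
  obtain ⟨a, ha⟩ := exists_pow_eq_of_irreducible fB fZ (fB ^ p ^ m) hirr hcomm (p := p)
    (MulEquiv.ext fun w => by
      obtain ⟨w, hw⟩ := w
      obtain ⟨x, rfl⟩ := QuotientGroup.mk_surjective w
      refine Subtype.ext ?_
      rw [hfZ, MulAut.one_apply]
      exact QuotientGroup.eq.2 (by
        have := inv_mem (hζp x)
        rwa [mul_inv_rev, inv_inv] at this))
    (Subgroup.pow_mem _ (mem_zpowers fB) _) (by rw [← pow_mul, ← pow_succ, hfBN]) hfT1
  have hfZ1 : fZ ≠ 1 := fun e => by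
    obtain ⟨⟨w, hw⟩, hw1⟩ := exists_ne (1 : Mt)
    obtain ⟨x, rfl⟩ := QuotientGroup.mk_surjective w
    refine hw1 (Subtype.ext ((QuotientGroup.eq_one_iff x).2 (hζfpf x (QuotientGroup.eq.1 ?_))))
    have := congrArg (fun f : MulAut Mt => ((f ⟨_, hw⟩ : Mt) : R ⧸ Sc)) e
    exact this.symm
  have hord : orderOf (fB ^ p ^ m) = p := orderOf_eq_prime (by rw [← pow_mul, ← pow_succ, hfBN]) hfT1
  have hco : a.Coprime (orderOf (fB ^ p ^ m)) := by
    rw [hord]
    refine (hp.out.coprime_iff_not_dvd.2 fun hdvd => hfZ1 ?_).symm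
    rw [ha]
    exact orderOf_dvd_iff_pow_eq_one.1 (by rw [hord]; exact hdvd)
  obtain ⟨a', ha'⟩ := exists_pow_eq_self_of_coprime hco
  refine ⟨a', fun x => ?_⟩
  have hw : ((x⁻¹ * τ x : R) : R ⧸ Sc) ∈ δ.range :=
    ⟨(x : R ⧸ Sc), by rw [hδ, hTv]; rfl⟩
  have hkey := congrArg (fun f : MulAut Mt => ((f ⟨_, hw⟩ : Mt) : R ⧸ Sc)) ha'
  simp only [← ha] at hkey
  rw [hfZ, hres B hBrange, ← hT, hTv] at hkey
  exact QuotientGroup.eq.1 hkey

end CfsgLib.PGroup.ModularB
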