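import Mathlib.Algebra.CharP.Lemmas
import Mathlib.Algebra.Polynomial.AlgebraMap
import Mathlib.LinearAlgebra.Dual.Lemmas
import Mathlib.LinearAlgebra.FreeModule.Finite.Matrix
import Mathlib.LinearAlgebra.Dimension.Constructions
import Mathlib.LinearAlgebra.Basis.VectorSpace

/-!
# Unipotent and nilpotent operators: the commutant and the geometric sum

If `N ^ D = 0` on a space of dimension `d`, the commutant of `N` has dimension at least `d ^ 2 / D`.
-/

set_option autoImplicit false
set_option linter.style.haveILetI false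
set_option maxSynthPendingDepth 3

namespace CfsgLib.PGroup.ModularB

universe v w

variable {k : Type v} [Field k]

/-- In characteristic `p` the power `p ^ n - 1` of `b - 1` is the geometric sum. -/
theorem sub_one_pow_geom {A : Type w} [Ring A] [Algebra k A] {p : ℕ} [Fact p.Prime] [CharP k p]
    (b : A) (n : ℕ) : (b - 1) ^ (p ^ n - 1) = ∑ i ∈ Finset.range (p ^ n), b ^ i := by
  have h : ((Polynomial.X : Polynomial k) - 1) ^ (p ^ n - 1) =
      ∑ i ∈ Finset.range (p ^ n), Polynomial.X ^ i := by
    refine mul_right_cancel₀ (Polynomial.X_sub_C_ne_zero (1 : k)) ?_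
    rw [map_one, ← pow_succ, Nat.sub_add_cancel (Nat.one_le_pow _ _ (Fact.out : p.Prime).pos),
      geom_sum_mul, sub_pow_char_pow, one_pow]
  have := congrArg (Polynomial.aeval b) h
  simpa only [map_pow, map_sub, map_one, map_sum, Polynomial.aeval_X] using this

/-- In characteristic `p` the power `p ^ n` commutes with subtracting one. -/
theorem sub_one_pow_prime_pow {A : Type w} [Ring A] [Algebra k A] {p : ℕ} [Fact p.Prime] [CharP k p]
    (b : A) (n : ℕ) : (b - 1) ^ p ^ n = b ^ p ^ n - 1 := by
  have h : ((Polynomial.X : Polynomial k) - 1) ^ p ^ n = Polynomial.X ^ p ^ n - 1 := by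
    rw [sub_pow_char_pow, one_pow]
  have := congrArg (Polynomial.aeval b) h
  simpa only [map_pow, map_sub, map_one, Polynomial.aeval_X] using this

variable {W : Type w} [AddCommGroup W] [Module k W]

/-- The operator `v ↦ ∑ ψ (N ^ i v) • N ^ (D₀ - i) u`. -/
def shiftOp (N : Module.End k W) (D₀ : ℕ) (ψ : W →ₗ[k] k) (u : W) : Module.End k W :=
  ∑ i ∈ Finset.range (D₀ + 1), (ψ.comp (N ^ i)).smulRight ((N ^ (D₀ - i)) u)

theorem shiftOp_apply (N : Module.End k W) (D₀ : ℕ) (ψ : W →ₗ[k] k) (u v : W) :
    shiftOp N D₀ ψ u v = ∑ i ∈ Finset.range (D₀ + 1), ψ ((N ^ i) v) • (N ^ (D₀ - i)) u := by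
  rw [shiftOp, LinearMap.sum_apply]
  rfl

theorem shiftOp_commute {N : Module.End k W} {D₀ : ℕ} (hN : N ^ (D₀ + 1) = 0) (ψ : W →ₗ[k] k) (u : W) :
    Commute N (shiftOp N D₀ ψ u) := by
  refine LinearMap.ext fun v => ?_
  rw [Module.End.mul_apply, Module.End.mul_apply, shiftOp_apply, shiftOp_apply, map_sum]
  let f : ℕ → W := fun i => ψ ((N ^ i) v) • (N ^ (D₀ + 1 - i)) u
  have e1 : ∀ i ∈ Finset.range (D₀ + 1), N (ψ ((N ^ i) v) • (N ^ (D₀ - i)) u) = f i := by
    intro i hi
    rw [Finset.mem_range] at hi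
    simp only [f]
    rw [map_smul, ← Module.End.mul_apply, ← pow_succ', show D₀ + 1 - i = D₀ - i + 1 by omega]
  have e2 : ∀ i ∈ Finset.range (D₀ + 1), ψ ((N ^ i) (N v)) • (N ^ (D₀ - i)) u = f (i + 1) := by
    intro i _
    simp only [f]
    rw [← Module.End.mul_apply, ← pow_succ, show D₀ + 1 - (i + 1) = D₀ - i by omega]
  rw [Finset.sum_congr rfl e1, Finset.sum_congr rfl e2]
  have e3 := Finset.sum_range_succ' f (D₀ + 1)
  rw [Finset.sum_range_succ, show f (D₀ + 1) = 0 by simp [f, hN],
    show f 0 = 0 by simp [f, hN], add_zero, add_zero] at e3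
  exact e3

theorem comp_shiftOp {N π : Module.End k W} (D₀ : ℕ) (h : Commute N π) (ψ : W →ₗ[k] k) (u : W) :
    π * shiftOp N D₀ ψ u = shiftOp N D₀ ψ (π u) := by
  refine LinearMap.ext fun v => ?_
  rw [Module.End.mul_apply, shiftOp_apply, shiftOp_apply, map_sum]
  refine Finset.sum_congr rfl fun i _ => ?_
  rw [map_smul, ← Module.End.mul_apply, ← Module.End.mul_apply, (h.pow_left _).eq]

theorem eq_zero_of_shiftOp_apply {N : Module.End k W} {D₀ : ℕ} (hN : N ^ (D₀ + 1) = 0)
    {φ : W →ₗ[k] k} {x u : W} (hφ : φ ((N ^ D₀) x) ≠ 0) (h : shiftOp N D₀ φ u x = 0) : u = 0 := by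
  classical
  by_contra hu
  have hex : ∃ e, (N ^ e) u = 0 := ⟨D₀ + 1, by rw [hN, LinearMap.zero_apply]⟩
  obtain ⟨e, he⟩ : ∃ e, Nat.find hex = e + 1 := Nat.exists_eq_succ_of_ne_zero fun e0 => hu (by
    simpa [e0] using Nat.find_spec hex)
  have he0 : (N ^ e) u ≠ 0 := Nat.find_min hex (by omega)
  have h1 := congrArg (N ^ e) h
  rw [shiftOp_apply, map_sum, map_zero, Finset.sum_eq_single D₀ (fun i hi hiD => ?_)
    (fun hD => absurd (Finset.mem_range.2 (Nat.lt_succ_self D₀)) hD), Nat.sub_self, pow_zero,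
    Module.End.one_apply, map_smul, smul_eq_zero] at h1
  · exact he0 (h1.resolve_left hφ)
  · rw [Finset.mem_range] at hi
    rw [map_smul, ← Module.End.mul_apply, ← pow_add,
      show e + (D₀ - i) = (D₀ - i - 1) + Nat.find hex by omega, pow_add, Module.End.mul_apply,
      Nat.find_spec hex, map_zero, smul_zero]

theorem eq_zero_of_shiftOp {N : Module.End k W} {D₀ : ℕ} (hN : N ^ (D₀ + 1) = 0)
    {ψ : W →ₗ[k] k} {x : W} (hx : (N ^ D₀) x ≠ 0) (h : shiftOp N D₀ ψ x = 0) : ψ = 0 := by
  classical
  by_contra hψ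
  have hex : ∃ e, ψ.comp (N ^ e) = 0 := ⟨D₀ + 1, by rw [hN]; exact LinearMap.comp_zero ψ⟩
  obtain ⟨e, he⟩ : ∃ e, Nat.find hex = e + 1 := Nat.exists_eq_succ_of_ne_zero fun e0 => hψ (by
    have := Nat.find_spec hex
    rw [e0, pow_zero] at this
    exact this)
  obtain ⟨v, hv⟩ : ∃ v, ψ ((N ^ e) v) ≠ 0 := by
    by_contra hc
    push Not at hc
    exact Nat.find_min hex (show e < Nat.find hex by omega) (LinearMap.ext hc)
  have h1 := LinearMap.congr_fun h ((N ^ e) v)
  rw [shiftOp_apply, LinearMap.zero_apply, Finset.sum_eq_single 0 (fun i hi hi0 => ?_)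
    (fun hD => absurd (Finset.mem_range.2 (Nat.succ_pos D₀)) hD), Nat.sub_zero, pow_zero,
    Module.End.one_apply, smul_eq_zero] at h1
  · exact h1.elim hv hx
  · rw [← Module.End.mul_apply, ← pow_add, show i + e = Nat.find hex + (i - 1) by omega, pow_add,
      Module.End.mul_apply, show ψ ((N ^ Nat.find hex) ((N ^ (i - 1)) v)) = 0 from
        LinearMap.congr_fun (Nat.find_spec hex) _, zero_smul]

/-- The operators commuting with `N`. -/
abbrev commutant (N : Module.End k W) : Submodule k (Module.End k W) :=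
  LinearMap.ker (LinearMap.mulLeft k N - LinearMap.mulRight k N)

theorem mem_commutant {N X : Module.End k W} : X ∈ commutant N ↔ Commute N X := by
  simp [commutant, sub_eq_zero, commute_iff_eq]

omit [AddCommGroup W] [Module k W] in
/-- The commutant of a nilpotent operator of index `D` has dimension at least `d ^ 2 / D`. -/
theorem sq_finrank_le : ∀ (d : ℕ) (W : Type w) [AddCommGroup W] [Module k W] [FiniteDimensional k W],
    Module.finrank k W = d → ∀ (N : Module.End k W) (D : ℕ), N ^ D = 0 →
      d * d ≤ Module.finrank k (commutant N) * D := by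
  intro d
  induction d using Nat.strong_induction_on with
  | _ d ih => ?_
  intro W _ _ _ hd N D hD
  classical
  rcases Nat.eq_zero_or_pos d with rfl | hdpos
  · simp
  haveI : Nontrivial W := Module.finrank_pos_iff.1 (hd ▸ hdpos)
  have hex : ∃ D, N ^ D = 0 := ⟨D, hD⟩
  obtain ⟨D₀, hD₀⟩ : ∃ D₀, Nat.find hex = D₀ + 1 := Nat.exists_eq_succ_of_ne_zero fun e0 => by
    have := Nat.find_spec hex
    rw [e0, pow_zero] at this
    exact one_ne_zero this
  have hN : N ^ (D₀ + 1) = 0 := hD₀ ▸ Nat.find_spec hex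
  refine le_trans ?_ (Nat.mul_le_mul_left _ (hD₀ ▸ Nat.find_min' hex hD : D₀ + 1 ≤ D))
  obtain ⟨x, hx⟩ : ∃ x, (N ^ D₀) x ≠ 0 := by
    by_contra hc
    push Not at hc
    exact Nat.find_min hex (show D₀ < Nat.find hex by omega) (LinearMap.ext hc)
  obtain ⟨φ, hφ⟩ : ∃ φ : W →ₗ[k] k, φ ((N ^ D₀) x) ≠ 0 := by
    by_contra hc
    push Not at hc
    exact hx ((Module.forall_dual_apply_eq_zero_iff k _).1 hc)
  -- the projection onto the cyclic summand
  let Ev : W →ₗ[k] W :=
    { toFun := fun u => shiftOp N D₀ φ u x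
      map_add' := fun u u' => by
        simp only [shiftOp_apply, map_add, smul_add, Finset.sum_add_distrib]
      map_smul' := fun c u => by
        simp only [shiftOp_apply, map_smul, RingHom.id_apply, Finset.smul_sum, smul_comm c] }
  have hEv : Function.Injective Ev := (injective_iff_map_eq_zero Ev).2 fun u hu =>
    eq_zero_of_shiftOp_apply hN hφ hu
  obtain ⟨u₀, hu₀⟩ := LinearMap.injective_iff_surjective.1 hEv x
  set π : Module.End k W := shiftOp N D₀ φ u₀ with hπ
  have hπx : π x = x := hu₀
  have hcπ : Commute N π := shiftOp_commute hN φ u₀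
  have hπu : π u₀ = u₀ := hEv (by
    show shiftOp N D₀ φ (π u₀) x = Ev u₀
    rw [← comp_shiftOp D₀ hcπ, Module.End.mul_apply, ← hπ, hπx, hπx, hu₀])
  have hππ : π * π = π := by
    conv_lhs => arg 2; rw [hπ]
    rw [comp_shiftOp D₀ hcπ, hπu, ← hπ]
  set U' := LinearMap.ker π with hU'
  let ρ : W →ₗ[k] U' := (1 - π).codRestrict U' fun v => by
    rw [LinearMap.mem_ker, LinearMap.sub_apply, Module.End.one_apply, map_sub, ← Module.End.mul_apply,
      hππ, sub_self]
  have hρ : ∀ v, (ρ v : W) = v - π v := fun v => rfl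
  have hρU : ∀ v : U', ρ v = v := fun v => Subtype.ext (by
    rw [hρ, show π v = 0 from v.2, sub_zero])
  have hρx : ρ x = 0 := Subtype.ext (by rw [hρ, hπx, sub_self]; rfl)
  have hNU : ∀ v ∈ U', N v ∈ U' := fun v hv => by
    rw [LinearMap.mem_ker] at hv ⊢
    rw [← Module.End.mul_apply, ← hcπ.eq, Module.End.mul_apply, hv, map_zero]
  set N' : Module.End k U' := N.restrict hNU with hN'
  have hρN : ∀ v, ρ (N v) = N' (ρ v) := fun v => Subtype.ext (by
    rw [hρ, hN', LinearMap.coe_restrict_apply, hρ, map_sub, ← Module.End.mul_apply π N, ← hcπ.eq]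
    rfl)
  have hN'D : N' ^ (D₀ + 1) = 0 := by
    rw [hN', Module.End.pow_restrict]
    exact LinearMap.ext fun v => Subtype.ext (by
      rw [LinearMap.coe_restrict_apply, hN]; rfl)
  -- the dimensions
  have hr : Module.finrank k (LinearMap.range π) ≤ D₀ + 1 := by
    have hle : LinearMap.range π ≤
        Submodule.span k (Set.range fun i : Fin (D₀ + 1) => (N ^ (D₀ - i.1)) u₀) := by
      rintro _ ⟨v, rfl⟩
      rw [hπ, shiftOp_apply]
      exact Submodule.sum_mem _ fun i hi => Submodule.smul_mem _ _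
        (Submodule.subset_span ⟨⟨i, Finset.mem_range.1 hi⟩, rfl⟩)
    refine ((Submodule.finrank_mono hle).trans (finrank_range_le_card _)).trans ?_
    rw [Fintype.card_fin]
  have hsum : Module.finrank k (LinearMap.range π) + Module.finrank k U' = d := by
    rw [LinearMap.finrank_range_add_finrank_ker, hd]
  set d' := Module.finrank k U' with hd'
  have hd'lt : d' < d := by
    have : 0 < Module.finrank k (LinearMap.range π) := by
      rw [Nat.pos_iff_ne_zero, ne_eq, Submodule.finrank_eq_zero, LinearMap.range_eq_bot]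
      intro h0
      apply hx
      rw [← hπx, h0, LinearMap.zero_apply, map_zero]
    omega
  have hIH := ih d' hd'lt U' hd'.symm N' (D₀ + 1) hN'D
  -- the commutant
  let T : (W × Module.Dual k U' × commutant N') →ₗ[k] Module.End k W :=
    { toFun := fun z => shiftOp N D₀ φ z.1 + shiftOp N D₀ (z.2.1.comp ρ) x +
        U'.subtype.comp ((z.2.2 : Module.End k U').comp ρ)
      map_add' := fun z z' => LinearMap.ext fun v => by
        simp only [Prod.fst_add, Prod.snd_add, Submodule.coe_add, LinearMap.add_apply, shiftOp_apply,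
          LinearMap.comp_apply, map_add, smul_add, add_smul, Finset.sum_add_distrib]
        abel
      map_smul' := fun c z => LinearMap.ext fun v => by
        simp only [Prod.smul_fst, Prod.smul_snd, SetLike.val_smul, LinearMap.add_apply,
          LinearMap.smul_apply, shiftOp_apply, LinearMap.comp_apply, map_smul, RingHom.id_apply,
          smul_add, Finset.smul_sum, smul_smul, smul_eq_mul, mul_comm c] }
  have hTr : LinearMap.range T ≤ commutant N := by
    rintro _ ⟨⟨u, ψ, X⟩, rfl⟩
    rw [mem_commutant]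
    refine ((shiftOp_commute hN _ _).add_right (shiftOp_commute hN _ _)).add_right ?_
    refine LinearMap.ext fun v => ?_
    show N ((X : Module.End k U') (ρ v) : W) = ((X : Module.End k U') (ρ (N v)) : W)
    rw [hρN, show (X : Module.End k U') (N' (ρ v)) = N' ((X : Module.End k U') (ρ v)) from
      (LinearMap.congr_fun (mem_commutant.1 X.2).eq (ρ v)).symm]
    rfl
  have hTi : Function.Injective T := by
    refine (injective_iff_map_eq_zero T).2 ?_
    rintro ⟨u, ψ, X⟩ h
    have hT : ∀ v, shiftOp N D₀ φ u v + shiftOp N D₀ (ψ.comp ρ) x v +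
        ((X : Module.End k U') (ρ v) : W) = 0 := fun v => LinearMap.congr_fun h v
    have hψx : shiftOp N D₀ (ψ.comp ρ) x x = 0 := by
      rw [shiftOp_apply]
      refine Finset.sum_eq_zero fun i _ => ?_
      have : ∀ i : ℕ, ρ ((N ^ i) x) = 0 := by
        intro i
        induction i with
        | zero => simpa using hρx
        | succ i hi => rw [pow_succ', Module.End.mul_apply, hρN, hi, map_zero]
      rw [LinearMap.comp_apply, this, map_zero, zero_smul]
    have hu : u = 0 := eq_zero_of_shiftOp_apply hN hφ (by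
      have := hT x
      rwa [hψx, hρx, map_zero, add_zero, Submodule.coe_zero, add_zero] at this)
    subst hu
    have h0 : ∀ v, shiftOp N D₀ φ 0 v = 0 := fun v => by
      simp [shiftOp_apply]
    have hψ : ψ.comp ρ = 0 := eq_zero_of_shiftOp hN hx (LinearMap.ext fun v => by
      have := congrArg π (hT v)
      rw [h0, zero_add, map_add, map_zero, show π ((X : Module.End k U') (ρ v) : W) = 0 from
        ((X : Module.End k U') (ρ v)).2, add_zero, ← Module.End.mul_apply, comp_shiftOp D₀ hcπ,
        hπx] at this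
      exact this)
    have hψ0 : ψ = 0 := LinearMap.ext fun v => by
      have := LinearMap.congr_fun hψ (v : W)
      rwa [LinearMap.comp_apply, hρU] at this
    subst hψ0
    have hX : X = 0 := Subtype.ext (LinearMap.ext fun v => Subtype.ext (by
      have := hT (v : W)
      rw [h0, zero_add, hρU] at this
      simpa [shiftOp_apply] using this))
    rw [hX]
    rfl
  have hC : d + (d' + Module.finrank k (commutant N')) ≤ Module.finrank k (commutant N) := by
    refine le_trans (le_of_eq ?_) (Submodule.finrank_mono hTr)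
    rw [LinearMap.finrank_range_of_inj hTi, Module.finrank_prod, Module.finrank_prod,
      Subspace.dual_finrank_eq, hd]
  set r := Module.finrank k (LinearMap.range π)
  calc d * d = r * (r + 2 * d') + d' * d' := by rw [← hsum]; ring
    _ ≤ (D₀ + 1) * (r + 2 * d') + Module.finrank k (commutant N') * (D₀ + 1) :=
      Nat.add_le_add (Nat.mul_le_mul_right _ hr) hIH
    _ = (d + (d' + Module.finrank k (commutant N'))) * (D₀ + 1) := by rw [← hsum]; ring
    _ ≤ _ := Nat.mul_le_mul_right _ hC

end CfsgLib.PGroup.ModularB
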