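import Mathlib.LinearAlgebra.Charpoly.Basic
import Mathlib.LinearAlgebra.Eigenspace.Zero
import Cfsg.Agent.Lib.PGroup.HallHighman
import Cfsg.Agent.Lib.PGroup.ModularB.Nilpotent

/-!
# The count of Hall and Higman in the defining characteristic

A unipotent operator of order `N = q₀ ^ (m + 1)` on an irreducible group of class two, whose socle is
fixed-point-free modulo the scalars, has a block of size `N`, or `N = d + 1` and a block of size `d`.
-/

set_option autoImplicit false
set_option linter.style.haveILetI false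
set_option linter.unusedSectionVars false

namespace CfsgLib.PGroup.ModularB

open CfsgLib.PGroup

universe u v w

variable {E : Type u} [Group E] {k : Type v} [Field k] {W : Type w} [AddCommGroup W] [Module k W]
  (ρ : E →* Module.End k W)

variable [Finite E] [IsAlgClosed k] [FiniteDimensional k W]

/-- The orbit bound for the commutant of `b` in the matrix algebra. -/
theorem finrank_commutant_le [Nontrivial W] (hirr : Irred ρ) (hE : ClassTwo ρ)
    (hm : (Nat.card (ScalarQuot ρ) : k) ≠ 0) {q₀ m : ℕ} (hq : q₀.Prime) {q : ℕ} (hN : q = q₀ ^ (m + 1))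
    (σ : E ≃* E) (hσq : ∀ x, σ^[q] x = x) (hσ : ∀ x (c : k), ρ x = c • 1 → ρ (σ x) = c • 1)
    (b : Module.End k W) (hb : ∀ x, b * ρ x = ρ (σ x) * b) (hbq : b ^ q = 1)
    (hfpf : ∀ x, x⁻¹ * σ^[q₀ ^ m] x ∈ scalarSub ρ → x ∈ scalarSub ρ) (hne : scalarSub ρ ≠ ⊤) :
    q * Module.finrank k (commutant b) + 1 ≤ Nat.card (ScalarQuot ρ) + q := by
  classical
  have hq1 : 1 ≤ q := hN ▸ Nat.one_le_pow _ _ hq.pos
  haveI := scalarSub_normal ρ
  haveI := Fintype.ofFinite (ScalarQuot ρ)
  have hm' : (Fintype.card (ScalarQuot ρ) : k) ≠ 0 := by rwa [← Nat.card_eq_fintype_card]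
  have hmap : (scalarSub ρ).map (σ : E →* E) = scalarSub ρ :=
    Subgroup.eq_of_le_of_card_ge
      (Subgroup.map_le_iff_le_comap.2 fun x ⟨c, hc⟩ => ⟨c, hσ x c hc⟩)
      (Subgroup.card_map_of_injective σ.injective).ge
  let σ' : Equiv.Perm (ScalarQuot ρ) :=
    (QuotientGroup.congr (scalarSub ρ) (scalarSub ρ) σ hmap).toEquiv
  have hσmk : ∀ x : E, σ' (QuotientGroup.mk x) = QuotientGroup.mk (σ x) := fun x => rfl
  have hσ1 : σ' 1 = 1 := by
    have := hσmk 1
    rwa [map_one, QuotientGroup.mk_one] at this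
  have hσ'q : σ' ^ q = 1 := by
    refine Equiv.ext fun i => ?_
    obtain ⟨x, rfl⟩ := QuotientGroup.mk_surjective i
    have : ∀ n, (σ' ^ n) (QuotientGroup.mk x) = QuotientGroup.mk (σ^[n] x) := by
      intro n
      induction n with
      | zero => rfl
      | succ n ih => rw [pow_succ', Equiv.Perm.mul_apply, ih, hσmk, Function.iterate_succ_apply']
    rw [this, hσq, Equiv.Perm.one_apply]
  have hpowmk : ∀ (n : ℕ) (x : E), (σ' ^ n) (QuotientGroup.mk x) = QuotientGroup.mk (σ^[n] x) := by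
    intro n x
    induction n with
    | zero => rfl
    | succ n ih => rw [pow_succ', Equiv.Perm.mul_apply, ih, hσmk, Function.iterate_succ_apply']
  have hσ'ne : σ' ^ q₀ ^ m ≠ 1 := by
    intro h
    apply hne
    rw [eq_top_iff]
    intro x _
    refine hfpf x (QuotientGroup.eq.1 ?_)
    rw [← hpowmk, h, Equiv.Perm.one_apply]
  haveI : Fact q₀.Prime := ⟨hq⟩
  have hord : orderOf σ' = q := by rw [hN]; exact orderOf_eq_prime_pow hσ'ne (hN ▸ hσ'q)
  have hq1' : 1 ≤ q := hN ▸ Nat.one_le_pow _ _ hq.pos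
  let P := Subgroup.zpowers σ'
  haveI := Fintype.ofFinite P
  haveI := Fintype.ofFinite (Quotient (MulAction.orbitRel P (ScalarQuot ρ)))
  have hP : Fintype.card P = q := by rw [← Nat.card_eq_fintype_card, Nat.card_zpowers, hord]
  have hpfix : ∀ a : P, (a : Equiv.Perm (ScalarQuot ρ)) 1 = 1 := fun a =>
    (Subgroup.zpowers_le.2 (show σ' ∈ MulAction.stabilizer (Equiv.Perm (ScalarQuot ρ))
      (1 : ScalarQuot ρ) from hσ1)) a.2
  have hburn := MulAction.sum_card_fixedBy_eq_card_orbits_mul_card_group P (ScalarQuot ρ)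
  rw [← Finset.add_sum_erase _ _ (Finset.mem_univ (1 : P)), hP] at hburn
  have h1 : Fintype.card (MulAction.fixedBy (ScalarQuot ρ) (1 : P)) = Fintype.card (ScalarQuot ρ) := by
    refine Fintype.card_congr ((Equiv.subtypeUnivEquiv fun x => ?_))
    simp
  have h2 : ∀ a ∈ (Finset.univ : Finset P).erase 1,
      Fintype.card (MulAction.fixedBy (ScalarQuot ρ) a) = 1 := by
    intro a ha
    have ha1 : (a : Equiv.Perm (ScalarQuot ρ)) ≠ 1 := fun h =>
      (Finset.mem_erase.1 ha).1 (Subtype.ext h)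
    have hgen : σ' ^ q₀ ^ m ∈ Subgroup.zpowers (a : Equiv.Perm (ScalarQuot ρ)) := by
      obtain ⟨i, hi, hia⟩ : ∃ i, ¬ q ∣ i ∧ σ' ^ i = (a : Equiv.Perm (ScalarQuot ρ)) := by
        obtain ⟨i, hi⟩ := (Submonoid.mem_powers_iff _ _).1
          ((isOfFinOrder_of_finite σ').mem_powers_iff_mem_zpowers.2 a.2)
        exact ⟨i, fun hd => ha1 (by rw [← hi]; exact orderOf_dvd_iff_pow_eq_one.1 (hord ▸ hd)), hi⟩
      obtain ⟨k', u, hu, rfl⟩ : ∃ k' u, ¬ q₀ ∣ u ∧ i = q₀ ^ k' * u :=
        ⟨_, _, Nat.not_dvd_ordCompl hq (show i ≠ 0 from fun e => hi (by rw [e]; exact dvd_zero q)),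
          (Nat.ordProj_mul_ordCompl_eq_self i q₀).symm⟩
      have hk : k' ≤ m := by
        by_contra h
        exact hi (hN ▸ (pow_dvd_pow q₀ (show m + 1 ≤ k' by omega)).mul_right u)
      have hco : u.Coprime (orderOf (σ' ^ q₀ ^ k')) := by
        refine ((hq.coprime_iff_not_dvd.2 hu).symm.pow_right (m + 1)).coprime_dvd_right ?_
        exact orderOf_dvd_of_pow_eq_one (by rw [← hN, ← pow_mul, mul_comm, pow_mul, hσ'q, one_pow])
      obtain ⟨d, hd⟩ := exists_pow_eq_self_of_coprime hco
      rw [← Nat.add_sub_cancel' hk, pow_add, pow_mul, ← hd, ← pow_mul σ', hia]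
      exact Subgroup.pow_mem _ (Subgroup.pow_mem _ (Subgroup.mem_zpowers _) d) _
    rw [Fintype.card_eq_one_iff]
    refine ⟨⟨1, hpfix a⟩, fun y => Subtype.ext ?_⟩
    obtain ⟨x, hx⟩ := QuotientGroup.mk_surjective (y : ScalarQuot ρ)
    have hy : (σ' ^ q₀ ^ m) (y : ScalarQuot ρ) = y :=
      (Subgroup.zpowers_le.2 (show (a : Equiv.Perm (ScalarQuot ρ)) ∈
        MulAction.stabilizer (Equiv.Perm (ScalarQuot ρ)) (y : ScalarQuot ρ) from y.2)) hgen
    rw [← hx, hpowmk, QuotientGroup.eq] at hy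
    show (y : ScalarQuot ρ) = 1
    rw [← hx]
    refine (mem_scalarSub_iff_mk_eq_one ρ x).1 (hfpf x ?_)
    have := inv_mem hy
    simpa [mul_assoc] using this
  rw [h1, Finset.sum_congr rfl h2, Finset.sum_const, Finset.card_erase_of_mem (Finset.mem_univ _),
    Finset.card_univ, hP, smul_eq_mul, mul_one] at hburn
  have hli : LinearIndependent k fun i : ScalarQuot ρ => ρ i.out := by
    rw [Fintype.linearIndependent_iff]
    exact fun a h => rep_indep ρ hirr hE hm' (fun i => i.out)
      (fun i j h => by simpa [QuotientGroup.out_eq'] using h) a h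
  let Bs := Module.Basis.mk hli (rep_span ρ hirr hE hm').ge
  have hBs : ∀ i, Bs i = ρ i.out := fun i => Module.Basis.mk_apply hli _ i
  have hcoef : ∀ i : ScalarQuot ρ, ∃ e : k, ρ (σ i.out) = e • ρ (σ' i).out := by
    intro i
    obtain ⟨d, hd, hout⟩ := out_mk_eq ρ (σ i.out)
    obtain ⟨e, he⟩ := inv_mem hd
    refine ⟨e, ?_⟩
    rw [show σ' i = QuotientGroup.mk (σ i.out) by rw [← hσmk, QuotientGroup.out_eq'],
      show ρ (σ i.out) = ρ ((QuotientGroup.mk (σ i.out) : ScalarQuot ρ).out * d⁻¹) by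
        rw [hout, mul_inv_cancel_right], map_mul, he, mul_smul_comm, mul_one]
  choose e he using hcoef
  have hbu : IsUnit b := IsUnit.of_pow_eq_one hbq (by omega)
  let L : commutant b →ₗ[k] (Quotient (MulAction.orbitRel P (ScalarQuot ρ)) → k) :=
    { toFun := fun X o => Bs.repr X.1 o.out
      map_add' := fun X Y => funext fun o => by simp
      map_smul' := fun c X => funext fun o => by simp }
  have hL : Function.Injective L := by
    refine (injective_iff_map_eq_zero L).2 fun X hX => ?_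
    have hstep : ∀ i, Bs.repr X.1 (σ' i) = Bs.repr X.1 i * e i := by
      intro i
      have h1 : X.1 = ∑ j, (Bs.repr X.1 j * e j) • Bs (σ' j) := by
        apply hbu.mul_left_injective
        show X.1 * b = _ * b
        rw [← (mem_commutant.1 X.2).eq]
        conv_lhs => rw [← Bs.sum_repr X.1]
        rw [Finset.mul_sum, Finset.sum_mul]
        refine Finset.sum_congr rfl fun j _ => ?_
        rw [mul_smul_comm, hBs, hb, he, hBs, smul_mul_assoc, smul_smul, smul_mul_assoc]
      rw [← Equiv.sum_comp σ'.symm] at h1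
      simp only [Equiv.apply_symm_apply] at h1
      conv_lhs => rw [h1]
      rw [Module.Basis.repr_sum_self, Equiv.symm_apply_apply]
    have hall : ∀ i, Bs.repr X.1 i = 0 := by
      intro i
      set o := Quotient.mk (MulAction.orbitRel P (ScalarQuot ρ)) i with ho
      obtain ⟨g, hg⟩ : i ∈ MulAction.orbit P o.out :=
        MulAction.orbitRel_apply.1 (Quotient.exact (Quotient.out_eq o).symm)
      obtain ⟨n, hn⟩ := (Submonoid.mem_powers_iff _ _).1
        ((isOfFinOrder_of_finite σ').mem_powers_iff_mem_zpowers.2 g.2)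
      rw [show (i : ScalarQuot ρ) = (σ' ^ n) o.out from hg.symm.trans (by rw [hn]; rfl)]
      clear hn
      induction n with
      | zero => exact congrFun hX o
      | succ n ih => rw [pow_succ', Equiv.Perm.mul_apply, hstep, ih, zero_mul]
    exact Subtype.ext (Bs.repr.injective (by
      rw [Submodule.coe_zero, map_zero]; exact Finsupp.ext hall))
  have hfin := LinearMap.finrank_le_finrank_of_injective hL
  rw [Module.finrank_fintype_fun_eq_card] at hfin
  have := Nat.mul_le_mul_left q hfin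
  rw [Nat.card_eq_fintype_card]
  have hq1 := hq1'
  rw [mul_comm q (Fintype.card (Quotient _))] at this
  omega

/-- Either a full block, or `q = d + 1` and a block of size `d`. -/
theorem hh_core [Nontrivial W] (hE : ClassTwo ρ) (hnd : Nondeg ρ)
    (hm : (Nat.card (ScalarQuot ρ) : k) ≠ 0) {q₀ m : ℕ} (hq : q₀.Prime) {q : ℕ} (hN : q = q₀ ^ (m + 1))
    (σ : E ≃* E) (hσq : ∀ x, σ^[q] x = x) (u : Module.End k W) (huq : u ^ q = 1)
    (hu : ∀ x, u * ρ x = ρ (σ x) * u) (hdeg : (u - 1) ^ (q - 1) = 0)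
    (hfpf : ∀ x, x⁻¹ * σ^[q₀ ^ m] x ∈ scalarSub ρ → x ∈ scalarSub ρ) (hne : scalarSub ρ ≠ ⊤) :
    ∃ d, Nat.card (ScalarQuot ρ) = d * d ∧ q = d + 1 ∧ (u - 1) ^ (q - 2) ≠ 0 := by
  classical
  have hN1 : 1 < q := hN ▸ Nat.one_lt_pow (Nat.succ_ne_zero m) hq.one_lt
  have hq1 : 1 ≤ q := hN1.le
  obtain ⟨U, hU0, hUinv, hUmin⟩ := exists_irred_sub ρ
  haveI : Nontrivial U := Submodule.nontrivial_iff_ne_bot.2 hU0
  set ρU := restrictRep ρ U hUinv with hρU
  have hsub : scalarSub ρU = scalarSub ρ := scalarSub_restrictRep ρ hE hnd hUinv hU0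
  have hirr : Irred ρU := by
    intro V hV
    rcases hUmin (V.map U.subtype) (Submodule.map_subtype_le _ _) (fun x w hw => by
      obtain ⟨v, hv, rfl⟩ := Submodule.mem_map.1 hw
      exact Submodule.mem_map.2 ⟨ρU x v, hV x v hv, rfl⟩) with h | h
    · left
      rwa [← Submodule.map_bot U.subtype,
        (Submodule.map_injective_of_injective U.subtype_injective).eq_iff] at h
    · right
      rw [← Submodule.map_injective_of_injective U.subtype_injective |>.eq_iff, h,
        Submodule.map_subtype_top]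
  have hEU : ClassTwo ρU := fun x y => hsub.symm ▸ hE x y
  have huinj : Function.Injective u := by
    intro a c h
    have : (u ^ (q - 1)) (u a) = (u ^ (q - 1)) (u c) := by rw [h]
    rwa [← Module.End.mul_apply, ← Module.End.mul_apply, ← pow_succ, Nat.sub_add_cancel hq1,
      huq] at this
  have hσW : ∀ x (c : k), ρ x = c • 1 → ρ (σ x) = c • 1 := by
    intro x c hc
    have h := hu x
    rw [hc, mul_smul_comm, mul_one, ← one_mul u, ← smul_mul_assoc] at h
    obtain ⟨v, hv⟩ : ∃ v : Module.End k W, u * v = 1 :=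
      ⟨u ^ (q - 1), by rw [← pow_succ', Nat.sub_add_cancel hq1, huq]⟩
    have := congrArg (· * v) h
    simpa [mul_assoc, hv] using this.symm
  have hσU : ∀ x (c : k), ρU x = c • 1 → ρU (σ x) = c • 1 := by
    intro x c hc
    obtain ⟨d, hd⟩ : x ∈ scalarSub ρ := hsub ▸ ⟨c, hc⟩
    have h1 := restrictRep_smul_one ρ (hU := hUinv) hd
    rw [show c = d from smul_rep_inj ρU (x := 1) (by rw [map_one, ← hc, ← h1])]
    exact restrictRep_smul_one ρ (hσW x d hd)
  have hmU : (Nat.card (ScalarQuot ρU) : k) ≠ 0 := by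
    unfold ScalarQuot at hm ⊢
    rw [hsub]; exact hm
  obtain ⟨b, hb⟩ := exists_intertwiner ρU hirr hEU hmU σ hσU
  let Hm : Submodule k (U →ₗ[k] W) :=
    { carrier := {h | ∀ x v, h (ρU x v) = ρ x (h v)}
      add_mem' := fun {h h'} hh hh' x v => by
        rw [LinearMap.add_apply, LinearMap.add_apply, hh, hh', map_add]
      zero_mem' := fun x v => by simp
      smul_mem' := fun c h hh x v => by
        rw [LinearMap.smul_apply, LinearMap.smul_apply, hh, map_smul] }
  let L₀ : (U →ₗ[k] W) →ₗ[k] (U →ₗ[k] W) :=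
    { toFun := fun h => u.comp (h.comp b.symm.toLinearMap)
      map_add' := fun h h' => by simp [LinearMap.add_comp, LinearMap.comp_add]
      map_smul' := fun c h => by simp [LinearMap.smul_comp, LinearMap.comp_smul] }
  have hL : ∀ h ∈ Hm, L₀ h ∈ Hm := by
    intro h hh x v
    show u (h (b.symm (ρU x v))) = ρ x (u (h (b.symm v)))
    have e : b.symm (ρU x v) = ρU (σ.symm x) (b.symm v) := by
      apply b.injective
      rw [LinearEquiv.apply_symm_apply, hb, MulEquiv.apply_symm_apply, LinearEquiv.apply_symm_apply]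
    rw [e, hh]
    have := LinearMap.congr_fun (hu (σ.symm x)) (h (b.symm v))
    simpa using this
  haveI : Nontrivial Hm := Submodule.nontrivial_iff_ne_bot.2 fun h => hU0 (by
    have : U.subtype ∈ Hm := fun x v => rfl
    rw [h, Submodule.mem_bot] at this
    rw [← Submodule.range_subtype U, this, LinearMap.range_zero])
  obtain ⟨ζ, hζ⟩ := Module.End.exists_eigenvalue (L₀.restrict hL : Module.End k Hm)
  obtain ⟨h, hh⟩ := hζ.exists_hasEigenvector
  have hhe : ∀ v, u ((h : U →ₗ[k] W) (b.symm v)) = ζ • (h : U →ₗ[k] W) v := fun v =>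
    LinearMap.congr_fun (congrArg Subtype.val (Module.End.mem_eigenspace_iff.1 hh.1)) v
  have hinj : Function.Injective (h : U →ₗ[k] W) := by
    rw [← LinearMap.ker_eq_bot]
    refine (hirr _ fun x v hv => ?_).resolve_right fun e =>
      hh.2 (Subtype.ext (LinearMap.ker_eq_top.1 e))
    rw [LinearMap.mem_ker] at hv ⊢
    rw [h.2 x v, hv, map_zero]
  let B : Module.End k U := ζ • b.toLinearMap
  have hB : ∀ v, (h : U →ₗ[k] W) (B v) = u ((h : U →ₗ[k] W) v) := fun v => by
    have := hhe (b v)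
    rw [LinearEquiv.symm_apply_apply] at this
    rw [this, ← map_smul]
    rfl
  have hBn : ∀ (n : ℕ) v, (h : U →ₗ[k] W) ((B ^ n) v) = (u ^ n) ((h : U →ₗ[k] W) v) := by
    intro n
    induction n with
    | zero => intro v; rfl
    | succ n ih => intro v; rw [pow_succ', Module.End.mul_apply, hB, ih, pow_succ', Module.End.mul_apply]
  have hBq : B ^ q = 1 := LinearMap.ext fun v => hinj (by rw [hBn, huq]; rfl)
  have hBσ : ∀ x, B * ρU x = ρU (σ x) * B := fun x => LinearMap.ext fun v => by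
    show ζ • b (ρU x v) = ρU (σ x) (ζ • b v)
    rw [map_smul, hb]
  have hBn' : ∀ (n : ℕ) v, (h : U →ₗ[k] W) (((B - 1) ^ n) v) = ((u - 1) ^ n) ((h : U →ₗ[k] W) v) := by
    intro n
    induction n with
    | zero => intro v; rfl
    | succ n ih =>
      intro v
      rw [pow_succ', Module.End.mul_apply, LinearMap.sub_apply, Module.End.one_apply, map_sub, hB, ih,
        pow_succ', Module.End.mul_apply, LinearMap.sub_apply, Module.End.one_apply]
  have hD0 : (B - 1) ^ (q - 1) = 0 := LinearMap.ext fun v => hinj (by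
    rw [hBn', hdeg, LinearMap.zero_apply, LinearMap.zero_apply, map_zero])
  have hfr := finrank_commutant_le ρU hirr hEU hmU hq hN σ hσq hσU B hBσ hBq
    (fun x hx => hsub.symm ▸ hfpf x (hsub ▸ hx)) (hsub.symm ▸ hne)
  have hcd := card_scalarQuot ρU hirr hEU hmU
  have hex : ∃ D, (B - 1) ^ D = 0 := ⟨q - 1, hD0⟩
  obtain ⟨D, hDdef⟩ : ∃ D, D = Nat.find hex := ⟨_, rfl⟩
  have hD : (B - 1) ^ D = 0 := hDdef ▸ Nat.find_spec hex
  have hDmin : ∀ j, j < D → (B - 1) ^ j ≠ 0 := fun j hj => Nat.find_min hex (hDdef ▸ hj)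
  have hDq : D ≤ q - 1 := hDdef ▸ Nat.find_min' hex hD0
  set d := Module.finrank k U
  have hDd : D ≤ d := by
    have h1 := LinearMap.aeval_self_charpoly (B - 1)
    rw [IsNilpotent.charpoly_eq_X_pow_finrank ⟨D, hD⟩, map_pow, Polynomial.aeval_X] at h1
    exact hDdef ▸ Nat.find_min' hex h1
  have hD2 : 2 ≤ D := by
    by_contra hlt
    have hB1 : B = 1 := by
      have := pow_eq_zero_of_le (show D ≤ 1 by omega) hD
      rwa [pow_one, sub_eq_zero] at this
    have hfix1 : ∀ x, ρU (σ x) = ρU x := fun x => by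
      have := hBσ x
      rwa [hB1, one_mul, mul_one, eq_comm] at this
    apply hne
    rw [eq_top_iff]
    intro x _
    refine hfpf x (hsub ▸ ⟨1, ?_⟩)
    have hit : ∀ i, ρU (σ^[i] x) = ρU x := by
      intro i
      induction i with
      | zero => rfl
      | succ i hi => rw [Function.iterate_succ_apply', hfix1, hi]
    rw [map_mul, hit, ← map_mul, inv_mul_cancel, map_one, one_smul]
  have hC : d * d ≤ Module.finrank k (commutant B) * D := by
    have h0 := sq_finrank_le d U rfl (B - 1) D hD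
    have hc : commutant (B - 1) = commutant B := by
      ext X
      rw [mem_commutant, mem_commutant]
      exact ⟨fun hX => by simpa using hX.add_left (Commute.one_left X),
        fun hX => hX.sub_left (Commute.one_left X)⟩
    rwa [hc] at h0
  refine ⟨d, ?_, ?_⟩
  · rw [← hcd]
    unfold ScalarQuot
    rw [hsub]
  rw [hcd] at hfr
  set C := Module.finrank k (commutant B)
  obtain ⟨r, hr⟩ : ∃ r, q = D + r + 1 := ⟨q - 1 - D, by omega⟩
  have h3 : d * (d * (r + 1)) ≤ d * (q - 1) := by
    have h4 : q * (d * d) ≤ D * (d * d + (q - 1)) :=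
      calc q * (d * d) ≤ q * (C * D) := Nat.mul_le_mul_left _ hC
        _ = D * (q * C) := by ring
        _ ≤ D * (d * d + (q - 1)) := Nat.mul_le_mul_left _ (by omega)
    have h5 : D * (q - 1) ≤ d * (q - 1) := Nat.mul_le_mul_right _ hDd
    rw [hr, Nat.mul_add] at h4
    rw [hr] at h5 ⊢
    nlinarith
  have h6 : d * (r + 1) ≤ q - 1 := Nat.le_of_mul_le_mul_left h3 (by omega)
  have h7 : D * (r + 1) ≤ d * (r + 1) := Nat.mul_le_mul_right _ hDd
  have hr0 : r = 0 := by
    by_contra hr0
    have h8 : 2 * (r + 1) ≤ D * (r + 1) := Nat.mul_le_mul_right _ hD2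
    have h9 : D * 2 ≤ D * (r + 1) := Nat.mul_le_mul_left _ (by omega)
    have h10 : D + r = q - 1 := by omega
    nlinarith [Nat.mul_le_mul (show 2 ≤ D from hD2) (show 2 ≤ r + 1 by omega)]
  rw [hr0] at h6
  refine ⟨by omega, fun h0 => hDmin (q - 2) (by omega) ?_⟩
  exact LinearMap.ext fun v => hinj (by
    rw [hBn', h0, LinearMap.zero_apply, LinearMap.zero_apply, map_zero])

end CfsgLib.PGroup.ModularB
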