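import Cfsg.Agent.Lib.PGroup.ModularB.DoubleLength

/-!
# The `p`-length is at most the derived length of a Sylow `p`-subgroup, for odd `p`
-/

set_option autoImplicit false
set_option linter.style.haveILetI false
set_option linter.unusedSectionVars false
set_option maxHeartbeats 1600000

open Subgroup
open scoped commutatorElement

namespace CfsgLib.PGroup.ModularB

open CfsgLib.PGroup
open CfsgLib.PGroup.ShultGross (exists_pow_prime_mem)

universe u v w

section

variable {H : Type u} [Group H] [Finite H] {k : Type v} [Field k] [IsAlgClosed k] {W : Type w}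
  [AddCommGroup W] [Module k W] [FiniteDimensional k W]

/-- A central quadratic element of `[B, B]` centralizes each `B`-invariant `r`-group. -/
theorem centralizes_quadratic (ρ : H →* Module.End k W) (hinj : Function.Injective ρ) {p : ℕ}
    [CharP k p] (hp : p.Prime) (hp2 : p ≠ 2) (B : Subgroup H) (hB : IsPGroup p B)
    {z : H} (hzD : z ∈ ⁅B, B⁆) (hzc : ∀ g ∈ B, g * z = z * g) (hzp : z ^ p = 1)
    (hquad : (ρ z - 1) ^ 2 = 0) (hmove : ∀ b ∈ B, (ρ b - 1) ^ 2 * (ρ z - 1) = 0)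
    {r : ℕ} (hr : r.Prime) (hrp : r ≠ p) :
    ∀ (N : ℕ) (R : Subgroup H), Nat.card R ≤ N → IsPGroup r R → B ≤ normalizer (R : Set H) →
      ∀ x ∈ R, z * x * z⁻¹ = x := by
  classical
  haveI := Fact.mk hr
  haveI := Fact.mk hp
  have hrk : (r : k) ≠ 0 := fun e =>
    hrp ((Nat.prime_dvd_prime_iff_eq hp hr).1 ((CharP.cast_eq_zero_iff k p r).1 e)).symm
  have hzS : z ∈ B := commutator_le_self B hzD
  have hp3' : 3 ≤ p := by have := hp.two_le; omega
  have hdeg : (ρ z - 1) ^ (p ^ (0 + 1) - 1) = 0 :=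
    pow_eq_zero_of_le (by rw [zero_add, pow_one]; omega) hquad
  have hexp : z ^ p ^ (0 + 1) = 1 := by rw [zero_add, pow_one, hzp]
  intro N
  induction N with
  | zero => exact fun R h => absurd h (Nat.not_le.2 Nat.card_pos)
  | succ N ih =>
  intro R hcard hR hSR
  by_contra hne
  push Not at hne
  obtain ⟨x₁, hx₁, hx₁t⟩ := hne
  obtain ⟨t, ht⟩ : ∃ t, t = z := ⟨z, rfl⟩
  subst ht
  have hsub : ∀ B' : Subgroup H, B' ≤ R → B ≤ normalizer (B' : Set H) → B' ≠ R →
      ∀ x ∈ B', t * x * t⁻¹ = x := by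
    intro B' hS' hnS hne'
    refine ih B' ?_ (hR.to_le hS') hnS
    have : Nat.card B' < Nat.card R := lt_of_not_ge fun h => hne' (eq_of_le_of_card_ge hS' h)
    omega
  have hRcard : ∀ {B' : Subgroup H}, B' ≤ R → (Nat.card B' : k) ≠ 0 := by
    intro B' hS'
    obtain ⟨e, he⟩ := IsPGroup.iff_card.1 (hR.to_le hS')
    rw [he, Nat.cast_pow]
    exact pow_ne_zero _ hrk
  -- only an exceptional configuration can occur
  obtain ⟨j₁, m₁, i₁, hjm₁, -, hqi₁, hblock₁, hnc⟩ := bound ρ hr hp hrp t hexp hdeg R hR (hSR hzS)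
    ⟨x₁, hx₁, fun e => hx₁t (by rw [pow_zero, pow_one] at e; exact hinj e)⟩
  obtain rfl := eq_two_of_eq_pow hp hp2 hr hqi₁
  obtain ⟨x₀, hx₀, y₀, hy₀, hne₀⟩ := hnc
  have hp3 : p = 3 := by
    by_contra hne3
    refine hblock₁ (pow_eq_zero_of_le ?_ hquad)
    rw [show j₁ = 0 by omega, show m₁ = 0 by omega, pow_zero, one_mul, zero_add, pow_one]
    omega
  -- `R = [R, t]`
  set T := zpowers t with hT
  have htR : t ∈ normalizer (R : Set H) := hSR hzS
  have hTR : T ≤ normalizer (R : Set H) := zpowers_le.2 htR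
  have hTcard : (Nat.card T).Coprime (Nat.card R) := by
    obtain ⟨e, he⟩ := IsPGroup.iff_card.1 hR
    rw [hT, Nat.card_zpowers, he]
    exact Nat.Coprime.coprime_dvd_left (orderOf_dvd_of_pow_eq_one hzp)
      (((Nat.coprime_primes hp hr).2 hrp.symm).pow_right e)
  have hRsol : Group.IsSolvable R := CfsgLib.Coprime.isSolvable_of_isNilpotent hR.isNilpotent
  have hRT : ⁅R, T⁆ = R := by
    have hle : ⁅R, T⁆ ≤ R := (le_normalizer_iff_commutator_le_left).1 hTR
    by_contra h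
    have hn : B ≤ normalizer ((⁅R, T⁆ : Subgroup H) : Set H) := by
      intro a ha
      rw [mem_normalizer_iff_map_conj_eq, map_commutator, mem_normalizer_iff_map_conj_eq.1 (hSR ha)]
      congr 1
      show (zpowers t).map (MulAut.conj a).toMonoidHom = T
      rw [MonoidHom.map_zpowers, show (MulAut.conj a).toMonoidHom t = t from ?_]
      show a * t * a⁻¹ = t
      rw [hzc a ha, mul_inv_cancel_right]
    have hc := hsub _ hle hn h
    have h2 : ⁅⁅R, T⁆, T⁆ = ⊥ := by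
      rw [commutator_eq_bot_iff_le_centralizer]
      intro y hy
      rw [hT, zpowers_eq_closure, centralizer_closure, mem_centralizer_singleton_iff]
      exact (mul_inv_eq_iff_eq_mul.1 (hc y hy)).symm
    rw [CfsgLib.Coprime.commutator_commutator_eq hTR hTcard (Or.inr hRsol),
      commutator_eq_bot_iff_le_centralizer] at h2
    have h3 := mem_centralizer_iff.1 (h2 hx₁) t (mem_zpowers t)
    exact hx₁t (by rw [h3, mul_inv_cancel_right])
  -- the Frattini subgroup
  set Z : Subgroup R := frattini R with hZ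
  set Y : Subgroup H := Z.map R.subtype with hY
  have hYR : Y ≤ R := map_subtype_le _
  have hR1 : R ≠ ⊥ := fun e => hx₁t (by
    rw [e, mem_bot] at hx₁
    rw [hx₁, mul_one, mul_inv_cancel])
  haveI : Nontrivial R := (nontrivial_iff_ne_bot R).2 hR1
  have hZtop : Z ≠ ⊤ := by
    intro e
    obtain ⟨M, hM, -⟩ := (eq_top_or_exists_le_coatom (⊥ : Subgroup R)).resolve_left bot_ne_top
    exact hM.1 (top_le_iff.1 (e.symm.le.trans (frattini_le_coatom hM)))
  have hYne : Y ≠ R := fun e => hZtop (map_injective R.subtype_injective (by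
    rw [← hY, e, ← MonoidHom.range_eq_map, range_subtype]))
  have hnY : normalizer (R : Set H) ≤ normalizer (Y : Set H) := by
    intro g hg
    refine mem_normalizer_fintype ?_
    rintro _ ⟨y, hy, rfl⟩
    exact ⟨R.normalizerMonoidHom ⟨g, hg⟩ y, characteristic_iff_map_le.1 inferInstance
      (R.normalizerMonoidHom ⟨g, hg⟩) (mem_map_of_mem _ hy), rfl⟩
  have hYt : ∀ y ∈ Y, t * y * t⁻¹ = y := hsub Y hYR (hSR.trans hnY) hYne
  have hRY : ⁅R, Y⁆ = ⊥ := by
    conv_lhs => rw [← hRT]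
    have hTY : ⁅Y, T⁆ = ⊥ := by
      rw [commutator_eq_bot_iff_le_centralizer]
      intro y hy
      rw [hT, zpowers_eq_closure, centralizer_closure, mem_centralizer_singleton_iff]
      exact (mul_inv_eq_iff_eq_mul.1 (hYt y hy)).symm
    refine Subgroup.commutator_commutator_eq_bot_of_rotate (H₁ := R) (H₂ := T) (H₃ := Y) ?_ ?_
    · rw [commutator_comm T Y, hTY, commutator_bot_left]
    · rw [eq_bot_iff, ← hTY]
      refine commutator_mono ?_ le_rfl
      exact le_normalizer_iff_commutator_le_left.1 (le_normalizer.trans hnY)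
  have hYc : ∀ x ∈ R, ∀ y ∈ Y, Commute x y := fun x hx y hy =>
    (mem_centralizer_iff.1 (commutator_eq_bot_iff_le_centralizer.1 hRY hx) y hy).symm
  -- the action on `R`
  let θ := R.normalizerMonoidHom
  have hθv : ∀ (a : H) (ha : a ∈ normalizer (R : Set H)) (x : R), ((θ ⟨a, ha⟩ x : R) : H) = a * x * a⁻¹ :=
    fun _ _ _ => rfl
  set τ : MulAut R := θ ⟨t, htR⟩ with hτ
  have hτv : ∀ x : R, ((τ x : R) : H) = t * x * t⁻¹ := fun x => rfl
  have hτZ : ∀ z ∈ Z, τ z = z := fun z hz => Subtype.ext (by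
    rw [hτv]; exact hYt _ (mem_map_of_mem _ hz))
  have hZc : ∀ (x : R), ∀ z ∈ Z, x * z = z * x := fun x z hz =>
    Subtype.ext (hYc x x.2 z (mem_map_of_mem _ hz)).eq
  have hZmap : ∀ (f : MulAut R), ∀ z ∈ Z, f z ∈ Z := fun f z hz =>
    characteristic_iff_map_le.1 inferInstance f (mem_map_of_mem _ hz)
  letI : CommGroup (R ⧸ Z) := { (inferInstance : Group (R ⧸ Z)) with
    mul_comm := fun u v => by
      obtain ⟨x, rfl⟩ := QuotientGroup.mk_surjective u
      obtain ⟨y, rfl⟩ := QuotientGroup.mk_surjective v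
      rw [← QuotientGroup.mk_mul, ← QuotientGroup.mk_mul, QuotientGroup.eq]
      have h1 := CfsgLib.Coprime.commutator_le_frattini hR
        (commutator_mem_commutator (mem_top (y⁻¹)) (mem_top (x⁻¹)))
      rwa [commutatorElement_def, inv_inv, inv_inv,
        show y⁻¹ * x⁻¹ * y * x = (x * y)⁻¹ * (y * x) by group] at h1 }
  let ι : MulAut R →* MulAut (R ⧸ Z) :=
    { toFun := fun f => QuotientGroup.congr Z Z f (eq_of_le_of_card_ge
        (characteristic_iff_map_le.1 inferInstance f) (card_map_of_injective f.injective).ge)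
      map_one' := MulEquiv.ext fun v => by
        induction v using QuotientGroup.induction_on with | _ x => rfl
      map_mul' := fun f g => MulEquiv.ext fun v => by
        induction v using QuotientGroup.induction_on with | _ x => rfl }
  have hι : ∀ (f : MulAut R) (x : R), ι f (x : R ⧸ Z) = ((f x : R) : R ⧸ Z) := fun f x => rfl
  have hτit : ∀ (i : ℕ) (x : R), (((τ ^ i) x : R) : H) = t ^ i * x * (t ^ i)⁻¹ := fun i x => by
    rw [hτ, ← map_pow]
    rfl
  let ψ : R ⧸ Z →* R ⧸ Z :=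
    MonoidHom.mk' (fun v => v⁻¹ * ι τ v) fun u v => by
      rw [map_mul, mul_inv, mul_mul_mul_comm]
  have hψ : ∀ x : R, ψ (x : R ⧸ Z) = ((x⁻¹ * τ x : R) : R ⧸ Z) := fun x => rfl
  have hψsurj : Function.Surjective ψ := by
    intro v
    obtain ⟨x, rfl⟩ := QuotientGroup.mk_surjective v
    have hrange : ∀ (i : ℕ) (u : R ⧸ Z), u⁻¹ * (ι τ ^ i) u ∈ ψ.range := by
      intro i u
      induction i with
      | zero => rw [pow_zero, MulAut.one_apply, inv_mul_cancel]; exact one_mem _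
      | succ i hi =>
        rw [show u⁻¹ * (ι τ ^ (i + 1)) u =
          (u⁻¹ * (ι τ ^ i) u) * (((ι τ ^ i) u)⁻¹ * ι τ ((ι τ ^ i) u)) by
            rw [pow_succ', MulAut.mul_apply]; group]
        exact mul_mem hi ⟨_, rfl⟩
    have h1 : ⁅R, T⁆ ≤ (ψ.range.comap (QuotientGroup.mk' Z)).map R.subtype := by
      rw [commutator_le]
      intro y hy z hz
      obtain ⟨i, hi⟩ := (Submonoid.mem_powers_iff _ _).1
        ((isOfFinOrder_of_finite t).mem_powers_iff_mem_zpowers.2 hz)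
      refine ⟨⟨y, hy⟩ * (τ ^ i) ⟨y, hy⟩⁻¹, ?_, ?_⟩
      · rw [SetLike.mem_coe, mem_comap, QuotientGroup.mk'_apply, QuotientGroup.mk_mul, ← hι, map_pow]
        have := hrange i ((⟨y, hy⟩⁻¹ : R) : R ⧸ Z)
        rwa [← QuotientGroup.mk_inv, inv_inv] at this
      · show y * (((τ ^ i) ⟨y, hy⟩⁻¹ : R) : H) = ⁅y, z⁆
        rw [hτit, hi, commutatorElement_def]
        show y * (z * y⁻¹ * z⁻¹) = _
        group
    rw [hRT] at h1
    obtain ⟨x', hx', e⟩ := h1 x.2
    exact (Subtype.ext e : x' = x) ▸ hx'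
  have hψinj : Function.Injective ψ := Finite.injective_iff_surjective.2 hψsurj
  have hτfix : ∀ x : R, x⁻¹ * τ x ∈ Z → x ∈ Z := fun x hx => by
    have h1 : ψ (x : R ⧸ Z) = ψ 1 := by rw [hψ, map_one, QuotientGroup.eq_one_iff]; exact hx
    exact (QuotientGroup.eq_one_iff x).1 (hψinj h1)
  have hcZ : ∀ x y : R, ⁅x, y⁆ ∈ Z := fun x y =>
    CfsgLib.Coprime.commutator_le_frattini hR (commutator_mem_commutator (mem_top x) (mem_top y))
  haveI := Fintype.ofFinite Y
  have hYk : (Fintype.card Y : k) ≠ 0 := by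
    rw [← Nat.card_eq_fintype_card]; exact hRcard hYR
  have hYi : ImgComm ρ Y := fun y hy z hz => by rw [(hYc y (hYR hy) z hz).eq]
  obtain ⟨χ, f, hf, hfne⟩ : ∃ (χ : Y →* kˣ) (f : W), IsEigen ρ Y χ f ∧
      (ρ ⁅x₀, y₀⁆ - 1) f ≠ 0 := by
    by_contra hc
    push Not at hc
    apply hne₀
    have hz : ⁅x₀, y₀⁆ ∈ Y := ⟨⁅(⟨x₀, hx₀⟩ : R), (⟨y₀, hy₀⟩ : R)⁆, hcZ _ _,
      by simp [commutatorElement_def]⟩
    refine commutatorElement_eq_one_iff_mul_comm.1 (hinj ?_)
    rw [map_one]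
    refine sub_eq_zero.1 (eq_zero_of_forall_eigen ρ hYi hYk _ (fun y hy w => ?_) hc)
    rw [LinearMap.sub_apply, LinearMap.sub_apply, map_sub, Module.End.one_apply, Module.End.one_apply,
      ← rep_mul_apply, ← rep_mul_apply, (hYc _ (hYR hz) y hy).eq]
  have hf0 : f ≠ 0 := fun e => hfne (by rw [e, map_zero])
  set Sχ := charStab Y χ with hSχ
  have hRS : R ≤ Sχ := fun x hx => commute_mem_charStab χ fun y => hYc x hx y y.2
  have htS : t ∈ Sχ := by
    by_contra h
    refine sub_one_pow_free ρ hYk (hnY (hSR hzS)) hf hf0 (fun i hi hi0 hmem => ?_)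
      (by rw [hdeg, LinearMap.zero_apply])
    obtain ⟨j, hj, hjm⟩ := exists_pow_prime_mem hp hexp hi0 hmem
    rcases Nat.eq_zero_or_pos j with rfl | hj0
    · exact h (by simpa using hjm)
    have := (Nat.pow_le_pow_right hp.pos (show 0 + 1 ≤ j by omega)).trans
      (Nat.le_of_dvd (Nat.pos_of_ne_zero hi0) hj)
    omega
  -- the representation on the eigenspace
  set U := eigSpace ρ Y χ with hU
  let σ := subRep ρ U Sχ (eigSpace_invariant ρ)
  have hσv : ∀ (g : Sχ) (v : U), ((σ g v : U) : W) = ρ (g : H) (v : W) := fun _ _ => rfl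
  haveI : Nontrivial U := Submodule.nontrivial_iff_ne_bot.2 fun e => hf0 (by
    have : f ∈ U := hf
    rwa [e, Submodule.mem_bot] at this)
  set zS : Sχ := ⟨t, htS⟩ with hzSdef
  have hpowz : ∀ (e : ℕ) (v : U), ((((σ zS - 1) ^ e) v : U) : W) = ((ρ t - 1) ^ e) (v : W) := by
    intro e
    induction e with
    | zero => intro v; rfl
    | succ e he =>
      intro v
      rw [pow_succ' (σ _ - 1), pow_succ' (ρ t - 1), Module.End.mul_apply, Module.End.mul_apply,
        LinearMap.sub_apply, Module.End.one_apply, Submodule.coe_sub, hσv, he, LinearMap.sub_apply,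
        Module.End.one_apply]
  have hzdeg : (σ zS - 1) ^ (p ^ (0 + 1) - 1) = 0 := LinearMap.ext fun v => Subtype.ext (by
    rw [hpowz, hdeg, LinearMap.zero_apply, LinearMap.zero_apply, Submodule.coe_zero])
  let ρR : R →* Module.End k U := σ.comp (inclusion hRS)
  have hρR : ∀ (x : R) (v : U), ((ρR x v : U) : W) = ρ (x : H) (v : W) := fun _ _ => rfl
  let χ' : Z →* kˣ := χ.comp (R.subtype.subgroupMap Z)
  have hχ' : ∀ z : Z, ρR (z : R) = (χ' z : k) • 1 := fun z => LinearMap.ext fun v => Subtype.ext (by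
    rw [hρR]; exact v.2 ⟨_, mem_map_of_mem R.subtype z.2⟩)
  have hxy : ∀ x y : R, ρR (x * y) = (χ' ⟨⁅x, y⁆, hcZ x y⟩ : k) • ρR (y * x) := by
    intro x y
    rw [show x * y = ⁅x, y⁆ * (y * x) by rw [commutatorElement_def]; group, map_mul ρR ⁅x, y⁆,
      hχ' ⟨_, hcZ x y⟩, smul_mul_assoc, one_mul]
  -- the radical
  let Rad : Subgroup R :=
    { carrier := {x | ∀ y, ρR (x * y) = ρR (y * x)}
      one_mem' := fun y => by rw [one_mul, mul_one]
      mul_mem' := fun {x x'} hx hx' y => by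
        rw [mul_assoc, map_mul, hx' y, ← map_mul, ← mul_assoc, map_mul, hx y, ← map_mul, mul_assoc]
      inv_mem' := fun {x} hx y => by
        calc ρR (x⁻¹ * y) = ρR x⁻¹ * (ρR (y * x) * ρR x⁻¹) := by
              rw [← map_mul, mul_inv_cancel_right, ← map_mul]
          _ = ρR x⁻¹ * (ρR (x * y) * ρR x⁻¹) := by rw [hx y]
          _ = ρR (y * x⁻¹) := by
              rw [← map_mul, ← map_mul]
              congr 1
              group }
  have hradc : ∀ x, x ∈ Rad ↔ ∀ y, χ' ⟨⁅x, y⁆, hcZ x y⟩ = 1 := by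
    intro x
    refine forall_congr' fun y => ⟨fun h => ?_, fun h => ?_⟩
    · rw [hxy] at h
      have := smul_rep_inj ρR (c := (χ' ⟨⁅x, y⁆, hcZ x y⟩ : k)) (d := 1) (x := y * x) (by rw [one_smul]; exact h)
      exact Units.ext this
    · rw [hxy, h, Units.val_one, one_smul]
  have hZRad : Z ≤ Rad := fun z hz y => by rw [hZc y z hz]
  have hRad0 : (⟨x₀, hx₀⟩ : R) ∉ Rad := by
    intro h
    apply hfne
    have h2 := (hradc _).1 h ⟨y₀, hy₀⟩
    have hz : ⁅x₀, y₀⁆ ∈ Y := ⟨⁅(⟨x₀, hx₀⟩ : R), (⟨y₀, hy₀⟩ : R)⁆, hcZ _ _,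
      by simp [commutatorElement_def]⟩
    rw [LinearMap.sub_apply, Module.End.one_apply, sub_eq_zero, show ρ ⁅x₀, y₀⁆ f = _ from hf ⟨_, hz⟩,
      show χ ⟨_, hz⟩ = 1 from ?_, Units.val_one, one_smul]
    rw [← h2]
    exact congrArg χ (Subtype.ext (map_commutatorElement R.subtype ⟨x₀, hx₀⟩ ⟨y₀, hy₀⟩).symm)
  -- elements of `B` in the stabilizer normalize the radical
  have hu : ∀ (b : Sχ) (hb : (b : H) ∈ B) (x : R), σ b * ρR x = ρR (θ ⟨b, hSR hb⟩ x) * σ b :=
    fun b hb x => LinearMap.ext fun v => Subtype.ext (by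
      rw [Module.End.mul_apply, Module.End.mul_apply, hσv, hρR, hρR, hσv, hθv, ← rep_mul_apply,
        ← rep_mul_apply, inv_mul_cancel_right])
  have hRadE : ∀ (b : Sχ) (hb : (b : H) ∈ B), ∀ x ∈ Rad, θ ⟨b, hSR hb⟩ x ∈ Rad := by
    intro b hb x hx y
    obtain ⟨y, rfl⟩ := (θ ⟨b, hSR hb⟩).surjective y
    have hcan : ∀ {X X' : Module.End k U}, X * σ b = X' * σ b → X = X' := fun {X X'} e => by
      have := congrArg (· * σ b⁻¹) e
      simpa [mul_assoc, ← map_mul] using this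
    refine hcan ?_
    rw [← map_mul, ← map_mul, ← hu b hb, ← hu b hb, hx y]
  have hRadτ : ∀ x ∈ Rad, τ x ∈ Rad := hRadE ⟨t, htS⟩ hzS
  -- every element of the radical is a commutator with `t` modulo `Z`
  have hRadsurj : ∀ x ∈ Rad, ∃ y ∈ Rad, (y⁻¹ * τ y)⁻¹ * x ∈ Z := by
    intro x hx
    let g : (Rad.map (QuotientGroup.mk' Z)) → (Rad.map (QuotientGroup.mk' Z)) := fun v => ⟨ψ v.1, by
      obtain ⟨y, hy, hyv⟩ := v.2
      exact ⟨y⁻¹ * τ y, mul_mem (inv_mem hy) (hRadτ y hy), by rw [← hyv]; rfl⟩⟩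
    have hg : Function.Injective g := fun u v e => Subtype.ext (hψinj (congrArg Subtype.val e))
    obtain ⟨⟨_, y, hy, rfl⟩, e⟩ := Finite.injective_iff_surjective.1 hg ⟨_, mem_map_of_mem _ hx⟩
    exact ⟨y, hy, QuotientGroup.eq.1 (congrArg Subtype.val e)⟩
  -- the radical acts by scalars
  have hRadscal : ∀ x ∈ Rad, x ∈ scalarSub ρR := by
    intro x hx
    obtain ⟨y, hy, hyz⟩ := hRadsurj x hx
    obtain ⟨z, hzdef⟩ : ∃ z : Z, z = ⟨_, hyz⟩ := ⟨_, rfl⟩
    refine ⟨χ' z, sub_eq_zero.1 ?_⟩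
    let Rd : Subgroup Sχ := Rad.map (inclusion hRS)
    haveI := Fintype.ofFinite Rd
    have hRdk : (Fintype.card Rd : k) ≠ 0 := by
      rw [← Nat.card_eq_fintype_card, card_map_of_injective (inclusion_injective hRS),
        ← card_map_of_injective R.subtype_injective]
      exact hRcard (map_subtype_le _)
    have hRdi : ImgComm σ Rd := by
      rintro _ ⟨u, hu, rfl⟩ _ ⟨v, hv, rfl⟩
      rw [← map_mul, ← map_mul]
      exact hu v
    refine eq_zero_of_forall_eigen σ hRdi hRdk _ ?_ ?_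
    · rintro _ ⟨u, hu, rfl⟩ v
      show (ρR x - (χ' z : k) • 1 : Module.End k U) (ρR u v) = ρR u ((ρR x - (χ' z : k) • 1 : Module.End k U) v)
      rw [LinearMap.sub_apply, LinearMap.sub_apply, map_sub, LinearMap.smul_apply, LinearMap.smul_apply,
        Module.End.one_apply, Module.End.one_apply, map_smul, ← Module.End.mul_apply,
        ← Module.End.mul_apply, ← map_mul, ← map_mul, hx u]
    intro μ g hg
    by_cases hg0 : g = 0
    · rw [hg0, map_zero]
    have htμ : (⟨t, htS⟩ : Sχ) ∈ charStab Rd μ := by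
      have hRd' : zS ∈ normalizer (Rd : Set Sχ) := by
        refine mem_normalizer_fintype ?_
        rintro _ ⟨u, hu, rfl⟩
        exact ⟨τ u, hRadτ u hu, Subtype.ext (hτv u)⟩
      by_contra hnot
      refine sub_one_pow_free σ hRdk hRd' hg hg0 (fun i hi hi0 hmem => ?_)
        (by rw [hzdeg, LinearMap.zero_apply])
      obtain ⟨j, hj, hjm⟩ := exists_pow_prime_mem hp
        (show zS ^ p ^ (0 + 1) = 1 from Subtype.ext hexp) hi0 hmem
      rcases Nat.eq_zero_or_pos j with rfl | hj0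
      · exact hnot (by simpa using hjm)
      have := (Nat.pow_le_pow_right hp.pos (show 0 + 1 ≤ j by omega)).trans
        (Nat.le_of_dvd (Nat.pos_of_ne_zero hi0) hj)
      omega
    obtain ⟨htn, htw⟩ := htμ
    have hyR : inclusion hRS y ∈ Rd := mem_map_of_mem _ hy
    have hτyR : inclusion hRS (τ y) ∈ Rd := mem_map_of_mem _ (hRadτ y hy)
    have hμ : μ ⟨_, hτyR⟩ = μ ⟨_, hyR⟩ := by
      have e1 := DFunLike.congr_fun htw ⟨_, hτyR⟩
      rw [twist_apply] at e1
      rw [← e1]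
      refine congrArg μ (Subtype.ext (Subtype.ext ?_))
      show t⁻¹ * ((τ y : R) : H) * t = (y : H)
      rw [hτv]
      group
    have e1 : σ (inclusion hRS (y⁻¹ * τ y)) g = g := by
      rw [show inclusion hRS (y⁻¹ * τ y) = ((⟨_, hyR⟩⁻¹ * ⟨_, hτyR⟩ : Rd) : Sχ) from by rw [map_mul, map_inv]; rfl,
        hg, map_mul, map_inv, hμ, inv_mul_cancel, Units.val_one, one_smul]
    have e2 : ρR x g = (χ' z : k) • g := by
      rw [show x = (y⁻¹ * τ y) * (z : R) by rw [hzdef]; group, map_mul, hχ', Module.End.mul_apply,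
        LinearMap.smul_apply, Module.End.one_apply, map_smul]
      exact congrArg _ e1
    rw [LinearMap.sub_apply, LinearMap.smul_apply, Module.End.one_apply, e2, sub_self]
  have hsc : scalarSub ρR = Rad := by
    refine le_antisymm (fun x hx y => ?_) hRadscal
    obtain ⟨c, hc⟩ := hx
    rw [map_mul, map_mul, hc, smul_mul_assoc, one_mul, mul_smul_comm, mul_one]
  have hE : ClassTwo ρR := fun x y => by
    refine ⟨χ' ⟨⁅x, y⁆, hcZ x y⟩, ?_⟩
    rw [← hχ' ⟨⁅x, y⁆, hcZ x y⟩]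
    rfl
  have hnd : Nondeg ρR := fun x hx => hRadscal x hx
  have hmk : (Nat.card (ScalarQuot ρR) : k) ≠ 0 := by
    obtain ⟨e, he⟩ := IsPGroup.iff_card.1 hR
    obtain ⟨i, -, hi⟩ := (Nat.dvd_prime_pow hr).1 (he ▸ (scalarSub ρR).card_quotient_dvd_card)
    rw [show Nat.card (ScalarQuot ρR) = 2 ^ i from hi, Nat.cast_pow]
    exact pow_ne_zero _ hrk
  -- the quotient by the radical
  have hsq : ∀ x : R, x * x ∈ scalarSub ρR := fun x => by
    rw [hsc, ← pow_two]
    exact hZRad (CfsgLib.Coprime.pow_mem_frattini hR x)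
  have hfp : ∀ x : R, x⁻¹ * τ x ∈ Rad → x ∈ Rad := fun x hx => by
    obtain ⟨y, hy, hyz⟩ := hRadsurj _ hx
    have h1 : ψ (x : R ⧸ Z) = ψ (y : R ⧸ Z) := by
      rw [hψ, hψ]; exact (QuotientGroup.eq.2 hyz).symm
    have h2 := QuotientGroup.eq.1 (hψinj h1)
    have h3 := mul_mem hy (inv_mem (hZRad h2))
    rwa [mul_inv_rev, inv_inv, mul_inv_cancel_left] at h3
  haveI hRadn : Rad.Normal := hsc ▸ scalarSub_normal ρR
  letI : CommGroup (R ⧸ Rad) :=
    { QuotientGroup.Quotient.group Rad with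
      mul_comm := fun a b => by
        obtain ⟨x, rfl⟩ := QuotientGroup.mk_surjective a
        obtain ⟨y, rfl⟩ := QuotientGroup.mk_surjective b
        refine (QuotientGroup.eq (s := Rad)).2 ?_
        rw [show (x * y)⁻¹ * (y * x) = ⁅y⁻¹, x⁻¹⁆ by rw [commutatorElement_def]; group]
        exact hZRad (hcZ _ _) }
  -- `B` fixes the character
  have hσz : σ zS ≠ 1 := by
    intro e
    refine hRad0 (hfp _ fun y => ?_)
    have h1 : ρR (τ ⟨x₀, hx₀⟩) = ρR ⟨x₀, hx₀⟩ := by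
      have := hu zS hzS ⟨x₀, hx₀⟩
      rw [e, one_mul, mul_one] at this
      exact this.symm
    have h2 : ρR ((⟨x₀, hx₀⟩ : R)⁻¹ * τ ⟨x₀, hx₀⟩) = 1 := by
      rw [map_mul, h1, ← map_mul, inv_mul_cancel, map_one]
    rw [map_mul _ _ y, map_mul _ y _, h2, one_mul, mul_one]
  have hBS : ∀ b ∈ B, b ∈ Sχ := by
    intro b hb
    by_contra hbS
    have hb2 : b ^ 2 ∉ Sχ := fun h => hbS (by
      obtain ⟨i, hi⟩ := IsPGroup.iff_card.1 hB
      obtain ⟨d, hd⟩ := (hp.odd_of_ne_two hp2).pow (n := i)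
      have hbi : b ^ p ^ i = 1 := by
        have := congrArg Subtype.val (pow_card_eq_one' (x := (⟨b, hb⟩ : B)))
        rwa [hi, SubgroupClass.coe_pow, OneMemClass.coe_one] at this
      have : b = (b ^ 2) ^ (d + 1) := by
        rw [← pow_mul, show 2 * (d + 1) = p ^ i + 1 by omega, pow_succ, hbi, one_mul]
      rw [this]
      exact pow_mem h _)
    obtain ⟨u, hu'⟩ : ∃ u : U, (σ zS - 1) u ≠ 0 := by
      by_contra hc
      push Not at hc
      exact hσz (sub_eq_zero.1 (LinearMap.ext hc))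
    have hw : IsEigen ρ Y χ ((((σ zS - 1) u : U)) : W) := ((σ zS - 1) u).2
    have e0 : ((ρ b - 1) ^ 2 : Module.End k W) ((((σ zS - 1) u : U)) : W) = 0 := by
      have h1 := hpowz 1 u
      rw [pow_one, pow_one] at h1
      rw [h1, ← Module.End.mul_apply, hmove b hb, LinearMap.zero_apply]
    have hnb : ∀ i : ℕ, b ^ i ∈ normalizer (Y : Set H) := fun i => hnY (hSR (pow_mem hb i))
    obtain ⟨w, hwdef⟩ : ∃ w : W, w = ((((σ zS - 1) u : U)) : W) := ⟨_, rfl⟩
    rw [← hwdef] at e0 hw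
    rw [pow_two, Module.End.mul_apply, LinearMap.sub_apply, Module.End.one_apply, LinearMap.sub_apply,
      Module.End.one_apply, map_sub] at e0
    have e1 := congrArg (eigProj ρ χ) e0
    have h2 : ρ b (ρ b w) = ρ (b ^ 2) w := by rw [pow_two, rep_mul_apply]
    have hz1 : eigProj ρ χ (ρ b w) = 0 :=
      eigProj_ne ρ (hw.map ρ (hnY (hSR hb))) fun e' => hbS ⟨hnY (hSR hb), e'.symm⟩
    have hz2 : eigProj ρ χ (ρ (b ^ 2) w) = 0 :=
      eigProj_ne ρ (hw.map ρ (hnb 2)) fun e' => hb2 ⟨hnb 2, e'.symm⟩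
    simp only [h2, map_sub, map_zero, hz1, hz2, eigProj_self ρ hw, zero_sub, sub_zero, sub_neg_eq_add,
      zero_add, neg_zero, smul_eq_zero] at e1
    exact hu' (Subtype.ext (hwdef ▸ e1.resolve_left hYk))
  -- the group induced on `R / Rad` has order dividing six
  let θB : B →* MulAut R := θ.comp (inclusion hSR)
  have hθB : ∀ a : B, Rad.map (θB a : R →* R) = Rad := fun a => eq_of_le_of_card_ge
    (map_le_iff_le_comap.2 (hRadE ⟨a, hBS a a.2⟩ a.2)) (card_map_of_injective (θB a).injective).ge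
  let act : B →* MulAut (R ⧸ Rad) :=
    { toFun := fun a => QuotientGroup.congr Rad Rad (θB a) (hθB a)
      map_one' := MulEquiv.ext fun v => by
        induction v using QuotientGroup.induction_on with | _ x =>
        show ((θB 1 x : R) : R ⧸ Rad) = _
        rw [map_one]; rfl
      map_mul' := fun a b => MulEquiv.ext fun v => by
        induction v using QuotientGroup.induction_on with | _ x =>
        show ((θB (a * b) x : R) : R ⧸ Rad) = _
        rw [map_mul]; rfl }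
  have hact : ∀ (a : B) (x : R), act a (x : R ⧸ Rad) = ((θB a x : R) : R ⧸ Rad) := fun _ _ => rfl
  obtain ⟨d, hd, hqd, -⟩ := hh_core ρR hE hnd hmk hp (m := 0) rfl τ
    (fun x => Subtype.ext (by
      have hit : ∀ i : ℕ, τ^[i] x = (τ ^ i) x := fun i => by
        induction i with
        | zero => rfl
        | succ i hi => rw [Function.iterate_succ_apply', hi, pow_succ']; rfl
      rw [hit, hτit, hexp, one_mul, inv_one, mul_one]))
    (σ zS) (by rw [← map_pow, show zS ^ p ^ (0 + 1) = 1 from Subtype.ext hexp, map_one])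
    (fun x => hu zS hzS x) hzdeg
    (fun x hx => by
      rw [pow_zero, Function.iterate_one, hsc] at hx
      rw [hsc]
      exact hfp x hx)
    (by rw [hsc]; exact fun e => hRad0 (e ▸ mem_top _))
  have hd2 : d = 2 := by rw [hp3] at hqd; simpa using hqd.symm
  have hcard : Nat.card (R ⧸ Rad) = 4 := by
    rw [← index_eq_card, ← hsc, index_eq_card]
    show Nat.card (ScalarQuot ρR) = 4
    rw [hd, hd2]
  let α := {v : R ⧸ Rad // v ≠ 1}
  let toP : MulAut (R ⧸ Rad) → Equiv.Perm α := fun e =>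
    e.toEquiv.subtypeEquiv fun v => (map_ne_one_iff e e.injective).symm
  have htoP : Function.Injective toP := fun e e' h => MulEquiv.ext fun v => by
    by_cases hv : v = 1
    · rw [hv, map_one, map_one]
    · exact congrArg Subtype.val (Equiv.ext_iff.1 h ⟨v, hv⟩)
  haveI := Fintype.ofFinite (R ⧸ Rad)
  have hα : Nat.card α = 3 := by
    rw [Nat.card_eq_fintype_card, Fintype.card_subtype_compl, Fintype.card_subtype_eq,
      ← Nat.card_eq_fintype_card, hcard]
  haveI : Finite (MulAut (R ⧸ Rad)) := Finite.of_injective toP htoP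
  have haut : Nat.card (MulAut (R ⧸ Rad)) ≤ 6 := by
    refine (Nat.card_le_card_of_injective toP htoP).trans (le_of_eq ?_)
    rw [Nat.card_perm, hα]
    rfl
  have hrange : IsPGroup p act.range := hB.of_surjective act.rangeRestrict act.rangeRestrict_surjective
  obtain ⟨e, he⟩ := IsPGroup.iff_card.1 hrange
  have he1 : e ≤ 1 := by
    by_contra h
    have h9 : p ^ 2 ≤ p ^ e := Nat.pow_le_pow_right hp.pos (by omega)
    have h6 := (Nat.le_of_dvd Nat.card_pos act.range.card_subgroup_dvd_card).trans haut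
    rw [he] at h6
    rw [hp3] at h9 h6
    omega
  haveI : IsCyclic act.range := by
    rcases Nat.le_one_iff_eq_zero_or_eq_one.1 he1 with rfl | rfl
    · haveI : Subsingleton act.range := (Nat.card_eq_one_iff_unique.1 (he.trans (pow_zero p))).1
      exact isCyclic_of_subsingleton
    · exact isCyclic_of_prime_card (p := p) (by rw [he, pow_one])
  letI : CommGroup act.range := IsCyclic.commGroup
  have hker : ⁅B, B⁆ ≤ act.ker.map B.subtype := by
    rw [commutator_le]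
    intro a ha b hb
    refine ⟨⁅(⟨a, ha⟩ : B), (⟨b, hb⟩ : B)⁆, ?_, rfl⟩
    rw [SetLike.mem_coe, MonoidHom.mem_ker, map_commutatorElement, commutatorElement_eq_one_iff_mul_comm]
    exact congrArg Subtype.val (mul_comm (⟨act _, ⟨_, rfl⟩⟩ : act.range) ⟨act _, ⟨_, rfl⟩⟩)
  obtain ⟨a, ha, hat⟩ := hker hzD
  obtain rfl : a = ⟨t, hzS⟩ := Subtype.ext hat
  refine hRad0 (hfp _ ?_)
  have h1 := DFunLike.congr_fun (MonoidHom.mem_ker.1 ha) ((⟨x₀, hx₀⟩ : R) : R ⧸ Rad)
  rw [hact, MulAut.one_apply] at h1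
  exact QuotientGroup.eq.1 h1.symm

end

/-- The derived subgroup of a Sylow subgroup of length one less lies in the second term. -/
theorem derivedSeries_le_two {G : Type u} [Group G] [Finite G] {p : ℕ} [hp : Fact p.Prime] (hp2 : p ≠ 2)
    (hG : Cfsg.IsPSolvable p G) (S : Sylow p G) {d : ℕ}
    (hd : derivedSeries ↥(S : Subgroup G) (d + 1) = ⊥) :
    (derivedSeries ↥(S : Subgroup G) d).map (S : Subgroup G).subtype ≤ (Cfsg.upperPSeries p G 2).1 := by
  classical
  set U₁ := (Cfsg.upperPSeries p G 1).1 with hU₁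
  set U₂ := (Cfsg.upperPSeries p G 2).1 with hU₂
  haveI : U₁.Normal := (Cfsg.upperPSeries p G 1).2
  haveI : U₂.Normal := (Cfsg.upperPSeries p G 2).2
  have hU₂eq : U₂ = stepP p U₁ := CfsgLib.PGroup.upperPSeries_succ_odd (n := 1) (by simp)
  have hbot : Cfsg.pPrimeCore p (G ⧸ U₁) = ⊥ :=
    CfsgLib.PGroup.pPrimeCore_stepPrime_eq_bot _ U₁ (CfsgLib.PGroup.upperPSeries_succ_even Even.zero)
  obtain ⟨Φ, hΦ, V, hV, hVel, hCV, hK, hmap, hback⟩ :=
    exists_reduced (CfsgLib.PGroup.isPSolvable_quotient hp.out hG U₁) hbot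
  haveI : IsMulCommutative V := hVel.1
  letI : CommGroup V :=
    { (inferInstance : Group V) with mul_comm := fun a b => isMulCommutative_iff.1 hVel.1 a b }
  have hVpow : ∀ v : V, v ^ p = 1 := fun v => Subtype.ext (by simpa using hVel.2 v v.2)
  let f : G →* (G ⧸ U₁) ⧸ Φ := (QuotientGroup.mk' Φ).comp (QuotientGroup.mk' U₁)
  have hmemU : ∀ g : G, f g ∈ V ↔ g ∈ U₂ := fun g => by
    rw [hU₂eq, stepP, mem_comap]
    exact ⟨hback _, fun h => hmap (mem_map_of_mem _ h)⟩
  let cG : G →* MulAut V := (MulAut.conjNormal : (G ⧸ U₁) ⧸ Φ →* MulAut V).comp f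
  have hcker : cG.ker = U₂ := by
    ext g
    rw [MonoidHom.mem_ker, ← hmemU]
    constructor
    · intro hg
      refine hCV (mem_centralizer_iff.2 fun w hw => ?_)
      have e1 := congrArg (fun e : MulAut V => ((e ⟨w, hw⟩ : V) : (G ⧸ U₁) ⧸ Φ)) hg
      change f g * w * (f g)⁻¹ = w at e1
      exact (mul_inv_eq_iff_eq_mul.1 e1).symm
    · intro hg
      refine MulEquiv.ext fun w => Subtype.ext ?_
      show f g * w * (f g)⁻¹ = w
      rw [mul_inv_eq_iff_eq_mul]
      exact congrArg Subtype.val (isMulCommutative_iff.1 hVel.1 ⟨f g, hg⟩ w)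
  let c : G ⧸ U₂ →* MulAut V := QuotientGroup.lift U₂ cG hcker.ge
  have hc : Function.Injective c := (injective_iff_map_eq_one c).2 fun y hy => by
    obtain ⟨g, rfl⟩ := QuotientGroup.mk_surjective y
    exact (QuotientGroup.eq_one_iff g).2 (hcker ▸ hy)
  let H := G ⧸ U₂
  have hHsol : Cfsg.IsPSolvable p H := CfsgLib.PGroup.isPSolvable_quotient hp.out hG U₂
  have hHO : Cfsg.pCore p H = ⊥ := pCore_stepP_eq_bot U₁ U₂ hU₂eq
  have hHK := CfsgLib.FFPair.centralizer_pPrimeCore_le_of_isPSolvable hHsol hHO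
  rcases d with _ | d
  · -- abelian Sylow subgroup
    intro g hg
    obtain ⟨g, -, rfl⟩ := hg
    rw [hU₂eq, stepP, mem_comap]
    set F := Cfsg.pCore p (G ⧸ U₁)
    haveI : F.Normal := CfsgLib.Coprime.pCore_normal' p
    have hFS := le_sylow_of_normal (CfsgLib.Coprime.pCore_isPGroup (G := G ⧸ U₁) p)
      (S.mapSurjective (QuotientGroup.mk'_surjective U₁))
    rw [Sylow.coe_mapSurjective] at hFS
    refine CfsgLib.Block.centralizer_pCore_le_of_isPSolvable
      (CfsgLib.PGroup.isPSolvable_quotient hp.out hG U₁) hbot (mem_centralizer_iff.2 fun y hy => ?_)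
    obtain ⟨s, hs, rfl⟩ := hFS hy
    rw [← map_mul, ← map_mul]
    have h1 : (⟨s, hs⟩ : (S : Subgroup G)) * g = g * ⟨s, hs⟩ := by
      rw [← commutatorElement_eq_one_iff_mul_comm, ← mem_bot, ← hd, zero_add, derivedSeries_succ,
        derivedSeries_zero]
      exact commutator_mem_commutator (mem_top _) (mem_top _)
    exact congrArg (fun y : (S : Subgroup G) => QuotientGroup.mk' U₁ (y : G)) h1
  -- the groups upstairs
  set B₀ := (derivedSeries ↥(S : Subgroup G) d).map (S : Subgroup G).subtype with hB₀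
  have hA₀ : (derivedSeries ↥(S : Subgroup G) (d + 1)).map (S : Subgroup G).subtype = ⁅B₀, B₀⁆ := by
    rw [derivedSeries_succ, map_commutator]
  have hA₀ab : ⁅⁅B₀, B₀⁆, ⁅B₀, B₀⁆⁆ = ⊥ := by
    rw [← hA₀, ← map_commutator, ← derivedSeries_succ, hd, Subgroup.map_bot]
  set B₁ := B₀.map f with hB₁
  set S₁ := (S : Subgroup G).map f with hS₁
  have hfs : Function.Surjective f :=
    (QuotientGroup.mk'_surjective Φ).comp (QuotientGroup.mk'_surjective U₁)
  have hB₀S : B₀ ≤ S := map_subtype_le _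
  have hB₀n : ∀ s ∈ (S : Subgroup G), ∀ b ∈ B₀, s * b * s⁻¹ ∈ B₀ := by
    rintro s hs _ ⟨b, hb, rfl⟩
    exact ⟨⟨s, hs⟩ * b * ⟨s, hs⟩⁻¹, (derivedSeries_normal _ d).conj_mem b hb _, rfl⟩
  have hB₁n : ∀ s ∈ S₁, ∀ b ∈ B₁, s * b * s⁻¹ ∈ B₁ := by
    rintro _ ⟨s, hs, rfl⟩ _ ⟨b, hb, rfl⟩
    exact ⟨s * b * s⁻¹, hB₀n s hs b hb, by rw [map_mul, map_mul, map_inv]⟩
  have hVp : IsPGroup p V := fun w => ⟨1, by simpa using hVpow w⟩
  have hVS : V ≤ S₁ := by
    have := le_sylow_of_normal hVp (S.mapSurjective hfs)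
    rwa [Sylow.coe_mapSurjective] at this
  have hA₁ab : ∀ a ∈ ⁅B₁, B₁⁆, ∀ a' ∈ ⁅B₁, B₁⁆, a * a' = a' * a := fun a ha a' ha' => by
    rw [← commutatorElement_eq_one_iff_mul_comm, ← mem_bot]
    have : ⁅⁅B₁, B₁⁆, ⁅B₁, B₁⁆⁆ = ⊥ := by
      rw [hB₁, ← map_commutator, ← map_commutator, hA₀ab, Subgroup.map_bot]
    exact this ▸ commutator_mem_commutator ha ha'
  -- the images
  set q₂ := QuotientGroup.mk' U₂ with hq₂
  set BH := B₀.map q₂ with hBH
  have hcq : ∀ (g : G) (v : V), ((c (q₂ g) v : V) : (G ⧸ U₁) ⧸ Φ) = f g * v * (f g)⁻¹ := fun g v => rfl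
  suffices hD : ⁅BH, BH⁆ = ⊥ by
    rw [hA₀]
    intro a ha
    refine (QuotientGroup.eq_one_iff a).1 ?_
    have := mem_map_of_mem q₂ ha
    rwa [map_commutator, ← hBH, hD, mem_bot] at this
  by_contra hD
  have hSH : IsPGroup p ((S : Subgroup G).map q₂) := S.2.map _
  have hBHS : BH ≤ (S : Subgroup G).map q₂ := map_mono hB₀S
  have hDS : ⁅BH, BH⁆ ≤ (S : Subgroup G).map q₂ := (commutator_le_self BH).trans hBHS
  haveI hDn : (⁅BH, BH⁆.subgroupOf ((S : Subgroup G).map q₂)).Normal := by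
    refine normal_subgroupOf_iff_le_normalizer hDS |>.2 ?_
    rintro _ ⟨s, hs, rfl⟩
    have hmap : BH.map (MulAut.conj (q₂ s)).toMonoidHom = BH := by
      refine eq_of_le_of_card_ge ?_ (card_map_of_injective (MulAut.conj (q₂ s)).injective).ge
      rintro _ ⟨_, ⟨b, hb, rfl⟩, rfl⟩
      exact ⟨s * b * s⁻¹, hB₀n s hs b hb, by
        show q₂ (s * b * s⁻¹) = q₂ s * q₂ b * (q₂ s)⁻¹
        rw [map_mul, map_mul, map_inv]⟩
    rw [mem_normalizer_iff_map_conj_eq, map_commutator]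
    exact congrArg₂ (fun A B : Subgroup H => ⁅A, B⁆) hmap hmap
  haveI : Group.IsNilpotent ((S : Subgroup G).map q₂) := hSH.isNilpotent
  set DS := ⁅BH, BH⁆.subgroupOf ((S : Subgroup G).map q₂) ⊓ center ((S : Subgroup G).map q₂) with hDSdef
  have hne : DS ≠ ⊥ := CfsgLib.Coprime.nilpotent_inf_center_ne_bot _
    fun e => hD (by rw [← map_subgroupOf_eq_of_le hDS, e, Subgroup.map_bot])
  obtain ⟨e, he⟩ := IsPGroup.iff_card.1 (hSH.to_subgroup DS)
  obtain ⟨⟨z, hz⟩, hzord⟩ := exists_prime_orderOf_dvd_card' (G := DS) p (by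
    rw [he]
    exact dvd_pow_self p fun e0 => hne (card_eq_one.1 (by rw [he, e0, pow_zero])))
  rw [Subgroup.orderOf_mk] at hzord
  obtain ⟨hzD, hzC⟩ := Subgroup.mem_inf.1 hz
  have hzp : orderOf (z : H) = p := by rw [Subgroup.orderOf_coe, hzord]
  -- the operator identities
  obtain ⟨α, hα, hαz⟩ : ∃ α ∈ ⁅B₀, B₀⁆, q₂ α = z := by
    have : (z : H) ∈ (⁅B₀, B₀⁆).map q₂ := by rw [map_commutator]; exact hzD
    exact this
  have hαA : f α ∈ ⁅B₁, B₁⁆ := by rw [hB₁, ← map_commutator]; exact mem_map_of_mem f hα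
  have hαB : f α ∈ B₁ := commutator_le_self B₁ hαA
  have hstep : ∀ b ∈ B₀, ∀ v : V, (((v⁻¹ * c (q₂ b) v : V)) : (G ⧸ U₁) ⧸ Φ) ∈ B₁ := by
    intro b hb v
    rw [Subgroup.coe_mul, InvMemClass.coe_inv, hcq,
      show (v : (G ⧸ U₁) ⧸ Φ)⁻¹ * (f b * v * (f b)⁻¹) = ((v : (G ⧸ U₁) ⧸ Φ)⁻¹ * f b * ((v : (G ⧸ U₁) ⧸ Φ)⁻¹)⁻¹) * (f b)⁻¹ by group]
    exact mul_mem (hB₁n _ (inv_mem (hVS v.2)) _ (mem_map_of_mem f hb)) (inv_mem (mem_map_of_mem f hb))
  have hstep2 : ∀ b ∈ B₀, ∀ v : V, (v : (G ⧸ U₁) ⧸ Φ) ∈ B₁ →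
      (((v⁻¹ * c (q₂ b) v : V)) : (G ⧸ U₁) ⧸ Φ) ∈ ⁅B₁, B₁⁆ := by
    intro b hb v hv
    rw [Subgroup.coe_mul, InvMemClass.coe_inv, hcq,
      show (v : (G ⧸ U₁) ⧸ Φ)⁻¹ * (f b * v * (f b)⁻¹) = ⁅(v : (G ⧸ U₁) ⧸ Φ)⁻¹, f b⁆ by
        rw [commutatorElement_def]; group]
    exact commutator_mem_commutator (inv_mem hv) (mem_map_of_mem f hb)
  have hstep3 : ∀ a ∈ ⁅B₀, B₀⁆, ∀ v : V, (v : (G ⧸ U₁) ⧸ Φ) ∈ ⁅B₁, B₁⁆ → v⁻¹ * c (q₂ a) v = 1 := by
    intro a ha v hv
    rw [inv_mul_eq_one]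
    refine Subtype.ext ?_
    rw [hcq, hA₁ab _ (by rw [hB₁, ← map_commutator]; exact mem_map_of_mem f ha) _ hv, mul_inv_cancel_right]
  let k := AlgebraicClosure (ZMod p)
  haveI : CharP k p := charP_of_injective_algebraMap (algebraMap (ZMod p) k).injective p
  obtain ⟨hfd, -⟩ := CfsgLib.PGroup.finrank_addHom (V := V) hVpow k
  let ρ := dRep k c
  have hρ : Function.Injective ρ := fun y y' hyy' => by
    have h1 : c (y * y'⁻¹) = 1 := eq_one_of_dRep hVpow c (by
      show ρ (y * y'⁻¹) = 1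
      rw [map_mul, hyy', ← map_mul, mul_inv_cancel, map_one])
    exact mul_inv_eq_one.1 (hc (h1.trans (map_one c).symm))
  have hsub : ∀ (g : G) (F' : Additive V →+ k) (v : V), (ρ (q₂ g) - 1) F' (Additive.ofMul v) =
      F' (Additive.ofMul (v⁻¹ * c (q₂ g⁻¹) v)) := by
    intro g F' v
    rw [LinearMap.sub_apply, Module.End.one_apply, AddMonoidHom.sub_apply, dRep_apply, ofMul_mul, ofMul_inv,
      map_add, map_neg, ← map_inv, sub_eq_neg_add]
  have hstepA : ∀ a ∈ ⁅B₀, B₀⁆, ∀ v : V, (((v⁻¹ * c (q₂ a) v : V)) : (G ⧸ U₁) ⧸ Φ) ∈ ⁅B₁, B₁⁆ := by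
    intro a ha v
    rw [Subgroup.coe_mul, InvMemClass.coe_inv, hcq]
    set x := (v : (G ⧸ U₁) ⧸ Φ)⁻¹ with hxdef
    have hxS : x ∈ S₁ := inv_mem (hVS v.2)
    have hfa : f a ∈ ⁅B₁, B₁⁆ := by rw [hB₁, ← map_commutator]; exact mem_map_of_mem f ha
    have hxA : x * f a * x⁻¹ ∈ ⁅B₁, B₁⁆ := by
      have hmap : B₁.map (MulAut.conj x).toMonoidHom = B₁ := by
        refine eq_of_le_of_card_ge ?_ (card_map_of_injective (MulAut.conj x).injective).ge
        rintro _ ⟨b, hb, rfl⟩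
        exact hB₁n x hxS b hb
      have h1 := mem_map_of_mem (MulAut.conj x).toMonoidHom hfa
      rw [map_commutator] at h1
      rw [congrArg₂ (fun A B : Subgroup ((G ⧸ U₁) ⧸ Φ) => ⁅A, B⁆) hmap hmap] at h1
      exact h1
    rw [show x * (f a * (v : (G ⧸ U₁) ⧸ Φ) * (f a)⁻¹) = (x * f a * x⁻¹) * (f a)⁻¹ by rw [hxdef]; group]
    exact mul_mem hxA (inv_mem hfa)
  have hquad : (ρ (z : H) - 1) ^ 2 = 0 := LinearMap.ext fun F' => AddMonoidHom.ext fun v => by
    rw [← hαz, pow_two, Module.End.mul_apply, LinearMap.zero_apply, AddMonoidHom.zero_apply, ← ofMul_toMul v,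
      hsub, hsub, hstep3 _ (inv_mem hα) _ (hstepA _ (inv_mem hα) _), ofMul_one, map_zero]
  have hmove : ∀ b ∈ BH, (ρ b - 1) ^ 2 * (ρ (z : H) - 1) = 0 := by
    rintro _ ⟨b, hb, rfl⟩
    refine LinearMap.ext fun F' => AddMonoidHom.ext fun v => ?_
    rw [← hαz, pow_two, Module.End.mul_apply, Module.End.mul_apply, LinearMap.zero_apply,
      AddMonoidHom.zero_apply, ← ofMul_toMul v, hsub, hsub, hsub,
      hstep3 _ (inv_mem hα) _ (hstep2 _ (inv_mem hb) _ (hstep _ (inv_mem hb) _)), ofMul_one, map_zero]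
  have hzc : ∀ g ∈ BH, g * (z : H) = (z : H) * g := fun g hg =>
    congrArg Subtype.val (mem_center_iff.1 hzC ⟨g, hBHS hg⟩)
  have hBHp : IsPGroup p BH := hSH.to_le hBHS
  have hHsol : Cfsg.IsPSolvable p H := CfsgLib.PGroup.isPSolvable_quotient hp.out hG U₂
  have hHK := CfsgLib.FFPair.centralizer_pPrimeCore_le_of_isPSolvable hHsol (pCore_stepP_eq_bot U₁ U₂ hU₂eq)
  have hKp := CfsgLib.Coprime.pPrimeCore_coprime (G := H) hp.out
  have hle : Cfsg.pPrimeCore p H ≤ centralizer ({(z : H)} : Set H) := by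
    refine CfsgLib.CFun.le_of_invariant_sylows (A := BH) ?_ ?_
      (Or.inl (CfsgLib.Coprime.isSolvable_of_isNilpotent hBHp.isNilpotent)) fun q hq hqd Q hQK hQ hBQ => ?_
    · rw [normalizer_eq_top_iff.2 (inferInstance : (Cfsg.pPrimeCore p H).Normal)]; exact le_top
    · obtain ⟨e, he⟩ := IsPGroup.iff_card.1 hBHp
      rw [he]
      exact hKp.symm.pow_left e
    · have hqp : q ≠ p := by
        rintro rfl
        exact hq.ne_one (Nat.eq_one_of_dvd_coprimes hKp hqd dvd_rfl)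
      intro y hy
      refine mem_centralizer_singleton_iff.2 (mul_inv_eq_iff_eq_mul.1 ?_).symm
      exact centralizes_quadratic ρ hρ hp.out hp2 BH hBHp hzD hzc
        (orderOf_dvd_iff_pow_eq_one.1 hzp.dvd)
        hquad hmove hq hqp _ Q le_rfl hQ hBQ y hy
  have hmem : (z : H) ∈ Cfsg.pPrimeCore p H :=
    hHK (mem_centralizer_iff.2 fun y hy => mem_centralizer_singleton_iff.1 (hle hy))
  refine hp.out.ne_one (Nat.eq_one_of_dvd_coprimes hKp ?_ dvd_rfl)
  have := orderOf_dvd_natCard (⟨(z : H), hmem⟩ : Cfsg.pPrimeCore p H)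
  rwa [Subgroup.orderOf_mk, hzp] at this

/-- **The `p`-length is at most the derived length.** -/
theorem pLengthLE_derived {p : ℕ} [hp : Fact p.Prime] (hp2 : p ≠ 2) : ∀ (d : ℕ) (G : Type u) [Group G]
    [Finite G], Cfsg.IsPSolvable p G → (∀ S : Sylow p G, derivedSeries ↥(S : Subgroup G) d = ⊥) →
    Cfsg.PLengthLE p d G := by
  intro d
  induction d with
  | zero =>
    intro G _ _ _ hd
    show (Cfsg.upperPSeries p G (2 * 0 + 1)).1 = ⊤
    rw [show 2 * 0 + 1 = 1 from rfl, CfsgLib.PGroup.pPrimeCore_eq_term_one]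
    refine top_le_iff.1 (CfsgLib.Coprime.le_pPrimeCore_of_not_dvd hp.out ?_)
    rw [card_top]
    intro hdvd
    obtain ⟨x, hx⟩ := exists_prime_orderOf_dvd_card' p hdvd
    obtain ⟨S, hS⟩ := (IsPGroup.of_card (n := 1) (by rw [Nat.card_zpowers, hx, pow_one]) :
      IsPGroup p (zpowers x)).exists_le_sylow
    have h1 : (⟨x, hS (mem_zpowers x)⟩ : (S : Subgroup G)) ∈ derivedSeries ↥(S : Subgroup G) 0 := by
      rw [derivedSeries_zero]; exact mem_top _
    rw [hd S, mem_bot] at h1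
    have hx1 : x = 1 := congrArg Subtype.val h1
    exact hp.out.ne_one (by rw [← hx, hx1, orderOf_one])
  | succ d ih =>
    intro G _ _ hsol hd
    set U₂ := (Cfsg.upperPSeries p G 2).1 with hU₂
    haveI : U₂.Normal := (Cfsg.upperPSeries p G 2).2
    have h := ih (G ⧸ U₂) (CfsgLib.PGroup.isPSolvable_quotient hp.out hsol U₂) fun T => by
      obtain ⟨S, hS⟩ := Sylow.mapSurjective_surjective (QuotientGroup.mk'_surjective U₂) p T
      have hT : (T : Subgroup (G ⧸ U₂)) = (S : Subgroup G).map (QuotientGroup.mk' U₂) := by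
        rw [← hS, Sylow.coe_mapSurjective]
      rw [eq_bot_iff]
      intro t ht
      have h1 := derivedSeries_le_map_derivedSeries
        (f := ((MulEquiv.subgroupCongr hT).symm.toMonoidHom.comp
          ((QuotientGroup.mk' U₂).subgroupMap (S : Subgroup G))))
        ((MulEquiv.subgroupCongr hT).symm.surjective.comp (MonoidHom.subgroupMap_surjective _ _)) d ht
      obtain ⟨s, hs, rfl⟩ := h1
      rw [mem_bot]
      exact Subtype.ext ((QuotientGroup.eq_one_iff (s : G)).2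
        (derivedSeries_le_two hp2 hsol S (hd S) ⟨s, hs, rfl⟩))
    have hshift := CfsgLib.PGroup.upperPSeries_shift (p := p) U₂ even_two rfl (2 * d + 1)
    rw [h, comap_top] at hshift
    show (Cfsg.upperPSeries p G (2 * (d + 1) + 1)).1 = ⊤
    rw [show 2 * (d + 1) + 1 = 2 * d + 1 + 2 by omega]
    exact hshift.symm

end CfsgLib.PGroup.ModularB
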