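import Cfsg.Agent.Lib.PGroup.ModularB.Block
import Cfsg.Agent.Lib.PGroup.ModularB.PLength
import Cfsg.Agent.Lib.Coprime.Solvable

/-!
# The socles of an exceptional `p`-group of operators commute

If every element of a `p`-group `S` of operators, `p` odd, of exponent dividing `p ^ (n + 1)` has no
block of full size on a faithful module in characteristic `p`, the `p ^ n`-th powers commute.
-/

set_option autoImplicit false
set_option linter.style.haveILetI false
set_option linter.unusedSectionVars false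
set_option maxHeartbeats 1600000

open Subgroup
open scoped commutatorElement

namespace CfsgLib.PGroup.ModularB

open CfsgLib.PGroup
open CfsgLib.PGroup.ShultGross (exists_pow_prime_mem)

universe u v w

variable {H : Type u} [Group H] [Finite H] {k : Type v} [Field k] [IsAlgClosed k] {W : Type w}
  [AddCommGroup W] [Module k W] [FiniteDimensional k W]

/-- A central element of `S` in the commutator of the socles centralizes each `S`-invariant `r`-group. -/
theorem centralizes_invariant (ρ : H →* Module.End k W) (hinj : Function.Injective ρ) {p n : ℕ}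
    [CharP k p] (hp : p.Prime) (hp2 : p ≠ 2) (S : Subgroup H) (hS : IsPGroup p S)
    (hexp : ∀ g ∈ S, g ^ p ^ (n + 1) = 1) (hdeg : ∀ g ∈ S, (ρ g - 1) ^ (p ^ (n + 1) - 1) = 0)
    {L : Subgroup H} (hL : L = closure {t | ∃ g ∈ S, t = g ^ p ^ n}) {z : H} (hzS : z ∈ S)
    (hzL : z ∈ ⁅L, L⁆) (hzc : ∀ g ∈ S, g * z = z * g) (hzp : z ^ p = 1) {r : ℕ} (hr : r.Prime) (hrp : r ≠ p) :
    ∀ (N : ℕ) (R : Subgroup H), Nat.card R ≤ N → IsPGroup r R → S ≤ normalizer (R : Set H) →
      ∀ x ∈ R, z * x * z⁻¹ = x := by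
  classical
  haveI := Fact.mk hr
  haveI := Fact.mk hp
  have hrk : (r : k) ≠ 0 := fun e =>
    hrp ((Nat.prime_dvd_prime_iff_eq hp hr).1 ((CharP.cast_eq_zero_iff k p r).1 e)).symm
  have hLS : L ≤ S := by
    rw [hL, Subgroup.closure_le]
    rintro _ ⟨g, hg, rfl⟩
    exact pow_mem hg _
  intro N
  induction N with
  | zero => exact fun R h => absurd h (Nat.not_le.2 Nat.card_pos)
  | succ N ih =>
  intro R hcard hR hSR
  by_contra hne
  push Not at hne
  obtain ⟨x₁, hx₁, hx₁t⟩ := hne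
  obtain ⟨t, ht⟩ : ∃ t, t = z := ⟨z, rfl⟩
  subst ht
  have hsub : ∀ S' : Subgroup H, S' ≤ R → S ≤ normalizer (S' : Set H) → S' ≠ R →
      ∀ x ∈ S', t * x * t⁻¹ = x := by
    intro S' hS' hnS hne'
    refine ih S' ?_ (hR.to_le hS') hnS
    have : Nat.card S' < Nat.card R := lt_of_not_ge fun h => hne' (eq_of_le_of_card_ge hS' h)
    omega
  have hRcard : ∀ {S' : Subgroup H}, S' ≤ R → (Nat.card S' : k) ≠ 0 := by
    intro S' hS'
    obtain ⟨e, he⟩ := IsPGroup.iff_card.1 (hR.to_le hS')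
    rw [he, Nat.cast_pow]
    exact pow_ne_zero _ hrk
  have hfreeN : ∀ (g : H), g ∈ S → ∀ {S' : Subgroup H}, g ^ p ^ n ∉ S' →
      ∀ i, i < p ^ (n + 1) → i ≠ 0 → g ^ i ∉ S' := by
    intro g hg S' htS i hi hi0 hmem
    obtain ⟨j, hj, hjm⟩ := exists_pow_prime_mem hp (hexp g hg) hi0 hmem
    have hjn : j ≤ n := by
      by_contra h
      have := (Nat.pow_le_pow_right hp.pos (show n + 1 ≤ j by omega)).trans
        (Nat.le_of_dvd (Nat.pos_of_ne_zero hi0) hj)
      omega
    refine htS ?_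
    rw [← Nat.add_sub_cancel' hjn, pow_add, pow_mul]
    exact pow_mem hjm _
  -- the socles cannot all centralize `R`
  have hexc : ∃ g ∈ S, ∃ m i, 1 ≤ i ∧ p ^ (m + 1) = r ^ i + 1 ∧ ∃ x ∈ R, ∃ y ∈ R, x * y ≠ y * x := by
    by_contra hc
    have hfix : L ≤ centralizer (R : Set H) := by
      rw [hL, Subgroup.closure_le]
      rintro _ ⟨g, hg, rfl⟩
      refine mem_centralizer_iff.2 fun x hx => ?_
      by_contra hxg
      obtain ⟨-, m, i, -, hi, hqi, -, hxy⟩ := bound ρ hr hp hrp g (hexp g hg) (hdeg g hg) R hR (hSR hg)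
        ⟨x, hx, fun e => hxg (mul_inv_eq_iff_eq_mul.1 (hinj e)).symm⟩
      exact hc ⟨g, hg, m, i, hi, hqi, hxy⟩
    exact hx₁t (mul_inv_eq_iff_eq_mul.2 (mem_centralizer_iff.1 (hfix (commutator_le_self L hzL)) x₁ hx₁).symm)
  obtain ⟨-, -, m₀, i₀, -, hqi₀, hnc⟩ := hexc
  obtain rfl := eq_two_of_eq_pow hp hp2 hr hqi₀
  obtain ⟨x₀, hx₀, y₀, hy₀, hne₀⟩ := hnc
  -- `R = [R, t]`
  set T := zpowers t with hT
  have htR : t ∈ normalizer (R : Set H) := hSR hzS
  have hTR : T ≤ normalizer (R : Set H) := zpowers_le.2 htR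
  have hTcard : (Nat.card T).Coprime (Nat.card R) := by
    obtain ⟨e, he⟩ := IsPGroup.iff_card.1 hR
    rw [hT, Nat.card_zpowers, he]
    exact Nat.Coprime.coprime_dvd_left (orderOf_dvd_of_pow_eq_one (hexp t hzS))
      ((((Nat.coprime_primes hp hr).2 hrp.symm).pow_left (n + 1)).pow_right e)
  have hRsol : Group.IsSolvable R := CfsgLib.Coprime.isSolvable_of_isNilpotent hR.isNilpotent
  have hRT : ⁅R, T⁆ = R := by
    have hle : ⁅R, T⁆ ≤ R := (le_normalizer_iff_commutator_le_left).1 hTR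
    by_contra h
    have hn : S ≤ normalizer ((⁅R, T⁆ : Subgroup H) : Set H) := by
      intro a ha
      rw [mem_normalizer_iff_map_conj_eq, map_commutator, mem_normalizer_iff_map_conj_eq.1 (hSR ha)]
      congr 1
      show (zpowers t).map (MulAut.conj a).toMonoidHom = T
      rw [MonoidHom.map_zpowers, show (MulAut.conj a).toMonoidHom t = t from ?_]
      show a * t * a⁻¹ = t
      rw [hzc a ha, mul_inv_cancel_right]
    have hc := hsub _ hle hn h
    have h2 : ⁅⁅R, T⁆, T⁆ = ⊥ := by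
      rw [commutator_eq_bot_iff_le_centralizer]
      intro y hy
      rw [hT, zpowers_eq_closure, centralizer_closure, mem_centralizer_singleton_iff]
      exact (mul_inv_eq_iff_eq_mul.1 (hc y hy)).symm
    rw [CfsgLib.Coprime.commutator_commutator_eq hTR hTcard (Or.inr hRsol),
      commutator_eq_bot_iff_le_centralizer] at h2
    have h3 := mem_centralizer_iff.1 (h2 hx₁) t (mem_zpowers t)
    exact hx₁t (by rw [h3, mul_inv_cancel_right])
  -- the Frattini subgroup
  set Z : Subgroup R := frattini R with hZ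
  set Y : Subgroup H := Z.map R.subtype with hY
  have hYR : Y ≤ R := map_subtype_le _
  have hR1 : R ≠ ⊥ := fun e => hx₁t (by
    rw [e, mem_bot] at hx₁
    rw [hx₁, mul_one, mul_inv_cancel])
  haveI : Nontrivial R := (nontrivial_iff_ne_bot R).2 hR1
  have hZtop : Z ≠ ⊤ := by
    intro e
    obtain ⟨M, hM, -⟩ := (eq_top_or_exists_le_coatom (⊥ : Subgroup R)).resolve_left bot_ne_top
    exact hM.1 (top_le_iff.1 (e.symm.le.trans (frattini_le_coatom hM)))
  have hYne : Y ≠ R := fun e => hZtop (map_injective R.subtype_injective (by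
    rw [← hY, e, ← MonoidHom.range_eq_map, range_subtype]))
  have hnY : normalizer (R : Set H) ≤ normalizer (Y : Set H) := by
    intro g hg
    refine mem_normalizer_fintype ?_
    rintro _ ⟨y, hy, rfl⟩
    exact ⟨R.normalizerMonoidHom ⟨g, hg⟩ y, characteristic_iff_map_le.1 inferInstance
      (R.normalizerMonoidHom ⟨g, hg⟩) (mem_map_of_mem _ hy), rfl⟩
  have hYt : ∀ y ∈ Y, t * y * t⁻¹ = y := hsub Y hYR (hSR.trans hnY) hYne
  have hRY : ⁅R, Y⁆ = ⊥ := by
    conv_lhs => rw [← hRT]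
    have hTY : ⁅Y, T⁆ = ⊥ := by
      rw [commutator_eq_bot_iff_le_centralizer]
      intro y hy
      rw [hT, zpowers_eq_closure, centralizer_closure, mem_centralizer_singleton_iff]
      exact (mul_inv_eq_iff_eq_mul.1 (hYt y hy)).symm
    refine Subgroup.commutator_commutator_eq_bot_of_rotate (H₁ := R) (H₂ := T) (H₃ := Y) ?_ ?_
    · rw [commutator_comm T Y, hTY, commutator_bot_left]
    · rw [eq_bot_iff, ← hTY]
      refine commutator_mono ?_ le_rfl
      exact le_normalizer_iff_commutator_le_left.1 (le_normalizer.trans hnY)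
  have hYc : ∀ x ∈ R, ∀ y ∈ Y, Commute x y := fun x hx y hy =>
    (mem_centralizer_iff.1 (commutator_eq_bot_iff_le_centralizer.1 hRY hx) y hy).symm
  -- the action on `R`
  let θ := R.normalizerMonoidHom
  have hθv : ∀ (a : H) (ha : a ∈ normalizer (R : Set H)) (x : R), ((θ ⟨a, ha⟩ x : R) : H) = a * x * a⁻¹ :=
    fun _ _ _ => rfl
  set τ : MulAut R := θ ⟨t, htR⟩ with hτ
  have hτv : ∀ x : R, ((τ x : R) : H) = t * x * t⁻¹ := fun x => rfl
  have hτZ : ∀ z ∈ Z, τ z = z := fun z hz => Subtype.ext (by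
    rw [hτv]; exact hYt _ (mem_map_of_mem _ hz))
  have hZc : ∀ (x : R), ∀ z ∈ Z, x * z = z * x := fun x z hz =>
    Subtype.ext (hYc x x.2 z (mem_map_of_mem _ hz)).eq
  have hZmap : ∀ (f : MulAut R), ∀ z ∈ Z, f z ∈ Z := fun f z hz =>
    characteristic_iff_map_le.1 inferInstance f (mem_map_of_mem _ hz)
  letI : CommGroup (R ⧸ Z) := { (inferInstance : Group (R ⧸ Z)) with
    mul_comm := fun u v => by
      obtain ⟨x, rfl⟩ := QuotientGroup.mk_surjective u
      obtain ⟨y, rfl⟩ := QuotientGroup.mk_surjective v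
      rw [← QuotientGroup.mk_mul, ← QuotientGroup.mk_mul, QuotientGroup.eq]
      have h1 := CfsgLib.Coprime.commutator_le_frattini hR
        (commutator_mem_commutator (mem_top (y⁻¹)) (mem_top (x⁻¹)))
      rwa [commutatorElement_def, inv_inv, inv_inv,
        show y⁻¹ * x⁻¹ * y * x = (x * y)⁻¹ * (y * x) by group] at h1 }
  let ι : MulAut R →* MulAut (R ⧸ Z) :=
    { toFun := fun f => QuotientGroup.congr Z Z f (eq_of_le_of_card_ge
        (characteristic_iff_map_le.1 inferInstance f) (card_map_of_injective f.injective).ge)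
      map_one' := MulEquiv.ext fun v => by
        induction v using QuotientGroup.induction_on with | _ x => rfl
      map_mul' := fun f g => MulEquiv.ext fun v => by
        induction v using QuotientGroup.induction_on with | _ x => rfl }
  have hι : ∀ (f : MulAut R) (x : R), ι f (x : R ⧸ Z) = ((f x : R) : R ⧸ Z) := fun f x => rfl
  have hτit : ∀ (i : ℕ) (x : R), (((τ ^ i) x : R) : H) = t ^ i * x * (t ^ i)⁻¹ := fun i x => by
    rw [hτ, ← map_pow]
    rfl
  let ψ : R ⧸ Z →* R ⧸ Z :=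
    MonoidHom.mk' (fun v => v⁻¹ * ι τ v) fun u v => by
      rw [map_mul, mul_inv, mul_mul_mul_comm]
  have hψ : ∀ x : R, ψ (x : R ⧸ Z) = ((x⁻¹ * τ x : R) : R ⧸ Z) := fun x => rfl
  have hψsurj : Function.Surjective ψ := by
    intro v
    obtain ⟨x, rfl⟩ := QuotientGroup.mk_surjective v
    have hrange : ∀ (i : ℕ) (u : R ⧸ Z), u⁻¹ * (ι τ ^ i) u ∈ ψ.range := by
      intro i u
      induction i with
      | zero => rw [pow_zero, MulAut.one_apply, inv_mul_cancel]; exact one_mem _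
      | succ i hi =>
        rw [show u⁻¹ * (ι τ ^ (i + 1)) u =
          (u⁻¹ * (ι τ ^ i) u) * (((ι τ ^ i) u)⁻¹ * ι τ ((ι τ ^ i) u)) by
            rw [pow_succ', MulAut.mul_apply]; group]
        exact mul_mem hi ⟨_, rfl⟩
    have h1 : ⁅R, T⁆ ≤ (ψ.range.comap (QuotientGroup.mk' Z)).map R.subtype := by
      rw [commutator_le]
      intro y hy z hz
      obtain ⟨i, hi⟩ := (Submonoid.mem_powers_iff _ _).1
        ((isOfFinOrder_of_finite t).mem_powers_iff_mem_zpowers.2 hz)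
      refine ⟨⟨y, hy⟩ * (τ ^ i) ⟨y, hy⟩⁻¹, ?_, ?_⟩
      · rw [SetLike.mem_coe, mem_comap, QuotientGroup.mk'_apply, QuotientGroup.mk_mul, ← hι, map_pow]
        have := hrange i ((⟨y, hy⟩⁻¹ : R) : R ⧸ Z)
        rwa [← QuotientGroup.mk_inv, inv_inv] at this
      · show y * (((τ ^ i) ⟨y, hy⟩⁻¹ : R) : H) = ⁅y, z⁆
        rw [hτit, hi, commutatorElement_def]
        show y * (z * y⁻¹ * z⁻¹) = _
        group
    rw [hRT] at h1
    obtain ⟨x', hx', e⟩ := h1 x.2
    exact (Subtype.ext e : x' = x) ▸ hx'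
  have hψinj : Function.Injective ψ := Finite.injective_iff_surjective.2 hψsurj
  have hτfix : ∀ x : R, x⁻¹ * τ x ∈ Z → x ∈ Z := fun x hx => by
    have h1 : ψ (x : R ⧸ Z) = ψ 1 := by rw [hψ, map_one, QuotientGroup.eq_one_iff]; exact hx
    exact (QuotientGroup.eq_one_iff x).1 (hψinj h1)
  have hcZ : ∀ x y : R, ⁅x, y⁆ ∈ Z := fun x y =>
    CfsgLib.Coprime.commutator_le_frattini hR (commutator_mem_commutator (mem_top x) (mem_top y))
  haveI := Fintype.ofFinite Y
  have hYk : (Fintype.card Y : k) ≠ 0 := by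
    rw [← Nat.card_eq_fintype_card]; exact hRcard hYR
  have hYi : ImgComm ρ Y := fun y hy z hz => by rw [(hYc y (hYR hy) z hz).eq]
  obtain ⟨χ, f, hf, hfne⟩ : ∃ (χ : Y →* kˣ) (f : W), IsEigen ρ Y χ f ∧
      (ρ ⁅x₀, y₀⁆ - 1) f ≠ 0 := by
    by_contra hc
    push Not at hc
    apply hne₀
    have hz : ⁅x₀, y₀⁆ ∈ Y := ⟨⁅(⟨x₀, hx₀⟩ : R), (⟨y₀, hy₀⟩ : R)⁆, hcZ _ _,
      by simp [commutatorElement_def]⟩
    refine commutatorElement_eq_one_iff_mul_comm.1 (hinj ?_)
    rw [map_one]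
    refine sub_eq_zero.1 (eq_zero_of_forall_eigen ρ hYi hYk _ (fun y hy w => ?_) hc)
    rw [LinearMap.sub_apply, LinearMap.sub_apply, map_sub, Module.End.one_apply, Module.End.one_apply,
      ← rep_mul_apply, ← rep_mul_apply, (hYc _ (hYR hz) y hy).eq]
  have hf0 : f ≠ 0 := fun e => hfne (by rw [e, map_zero])
  set Sχ := charStab Y χ with hSχ
  have hRS : R ≤ Sχ := fun x hx => commute_mem_charStab χ fun y => hYc x hx y y.2
  have hsoc : ∀ g ∈ S, g ^ p ^ n ∈ Sχ := by
    intro g hg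
    by_contra h
    exact sub_one_pow_free ρ hYk (hnY (hSR hg)) hf hf0 (hfreeN g hg h)
      (by rw [hdeg g hg, LinearMap.zero_apply])
  have hLχ : L ≤ Sχ := by
    rw [hL, Subgroup.closure_le]
    rintro _ ⟨g, hg, rfl⟩
    exact hsoc g hg
  have htS : t ∈ Sχ := hLχ (commutator_le_self L hzL)
  -- the representation on the eigenspace
  set U := eigSpace ρ Y χ with hU
  let σ := subRep ρ U Sχ (eigSpace_invariant ρ)
  have hσv : ∀ (g : Sχ) (v : U), ((σ g v : U) : W) = ρ (g : H) (v : W) := fun _ _ => rfl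
  haveI : Nontrivial U := Submodule.nontrivial_iff_ne_bot.2 fun e => hf0 (by
    have : f ∈ U := hf
    rwa [e, Submodule.mem_bot] at this)
  -- the stabilized part of each element
  have hblock : ∀ g ∈ S, ∃ (m : ℕ) (b : Sχ), (b : H) ∈ S ∧ (b : H) ^ p ^ m = g ^ p ^ n ∧
      b ^ p ^ (m + 1) = 1 ∧ (σ b - 1) ^ (p ^ (m + 1) - 1) = 0 := by
    intro g hg
    have hex : ∃ j, g ^ p ^ j ∈ Sχ := ⟨n, hsoc g hg⟩
    obtain ⟨j₀, hj₀⟩ : ∃ j₀, j₀ = Nat.find hex := ⟨_, rfl⟩
    have hj₀S : g ^ p ^ j₀ ∈ Sχ := hj₀ ▸ Nat.find_spec hex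
    obtain ⟨m, hm⟩ : ∃ m, n = j₀ + m := ⟨n - j₀, by have := Nat.find_min' hex (hsoc g hg); omega⟩
    have hfreej : ∀ i, i < p ^ j₀ → i ≠ 0 → g ^ i ∉ Sχ := by
      intro i hi hi0 hmem
      obtain ⟨j, hj, hjm⟩ := exists_pow_prime_mem hp (hexp g hg) hi0 hmem
      have h1 : j₀ ≤ j := hj₀ ▸ Nat.find_min' hex hjm
      have h2 := (Nat.pow_le_pow_right hp.pos h1).trans (Nat.le_of_dvd (Nat.pos_of_ne_zero hi0) hj)
      omega
    refine ⟨m, ⟨_, hj₀S⟩, pow_mem hg _, ?_, Subtype.ext ?_, ?_⟩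
    · show (g ^ p ^ j₀) ^ p ^ m = g ^ p ^ n
      rw [← pow_mul, ← pow_add, ← hm]
    · show (g ^ p ^ j₀) ^ p ^ (m + 1) = 1
      rw [← pow_mul, ← pow_add, ← add_assoc, ← hm, hexp g hg]
    have hpowb : ∀ (e : ℕ) (v : U), ((((σ ⟨_, hj₀S⟩ - 1) ^ e) v : U) : W) =
        ((ρ g - 1) ^ (p ^ j₀ * e)) (v : W) := by
      intro e
      induction e with
      | zero => intro v; rfl
      | succ e he =>
        intro v
        rw [pow_succ' (σ _ - 1), Module.End.mul_apply, LinearMap.sub_apply, Module.End.one_apply,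
          Submodule.coe_sub, hσv, he, Nat.mul_succ, add_comm, pow_add, Module.End.mul_apply,
          sub_one_pow_prime_pow (k := k) (ρ g) j₀, ← map_pow, LinearMap.sub_apply, Module.End.one_apply]
    by_contra he
    obtain ⟨v, hv⟩ : ∃ v, ((σ ⟨_, hj₀S⟩ - 1) ^ (p ^ (m + 1) - 1)) v ≠ 0 := by
      by_contra hc
      push Not at hc
      exact he (LinearMap.ext hc)
    refine sub_one_pow_free ρ hYk (hnY (hSR hg)) (((σ ⟨_, hj₀S⟩ - 1) ^ (p ^ (m + 1) - 1)) v).2
      (fun e0 => hv (Subtype.ext e0)) hfreej ?_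
    rw [hpowb, ← Module.End.mul_apply, ← pow_add]
    have e1 : p ^ j₀ - 1 + p ^ j₀ * (p ^ (m + 1) - 1) = p ^ (n + 1) - 1 := by
      have h1 := Nat.one_le_pow (m + 1) p hp.pos
      have h2 := Nat.one_le_pow j₀ p hp.pos
      have h3 : p ^ (n + 1) = p ^ j₀ * p ^ (m + 1) := by rw [← pow_add]; congr 1; omega
      have h4 : p ^ j₀ * p ^ (m + 1) = p ^ j₀ * (p ^ (m + 1) - 1) + p ^ j₀ := by
        conv_lhs => rw [← Nat.sub_add_cancel h1, Nat.mul_succ]
      omega
    rw [e1, hdeg g hg, LinearMap.zero_apply]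
  let ρR : R →* Module.End k U := σ.comp (inclusion hRS)
  have hρR : ∀ (x : R) (v : U), ((ρR x v : U) : W) = ρ (x : H) (v : W) := fun _ _ => rfl
  let χ' : Z →* kˣ := χ.comp (R.subtype.subgroupMap Z)
  have hχ' : ∀ z : Z, ρR (z : R) = (χ' z : k) • 1 := fun z => LinearMap.ext fun v => Subtype.ext (by
    rw [hρR]; exact v.2 ⟨_, mem_map_of_mem R.subtype z.2⟩)
  have hxy : ∀ x y : R, ρR (x * y) = (χ' ⟨⁅x, y⁆, hcZ x y⟩ : k) • ρR (y * x) := by
    intro x y
    rw [show x * y = ⁅x, y⁆ * (y * x) by rw [commutatorElement_def]; group, map_mul ρR ⁅x, y⁆,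
      hχ' ⟨_, hcZ x y⟩, smul_mul_assoc, one_mul]
  -- the radical
  let Rad : Subgroup R :=
    { carrier := {x | ∀ y, ρR (x * y) = ρR (y * x)}
      one_mem' := fun y => by rw [one_mul, mul_one]
      mul_mem' := fun {x x'} hx hx' y => by
        rw [mul_assoc, map_mul, hx' y, ← map_mul, ← mul_assoc, map_mul, hx y, ← map_mul, mul_assoc]
      inv_mem' := fun {x} hx y => by
        calc ρR (x⁻¹ * y) = ρR x⁻¹ * (ρR (y * x) * ρR x⁻¹) := by
              rw [← map_mul, mul_inv_cancel_right, ← map_mul]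
          _ = ρR x⁻¹ * (ρR (x * y) * ρR x⁻¹) := by rw [hx y]
          _ = ρR (y * x⁻¹) := by
              rw [← map_mul, ← map_mul]
              congr 1
              group }
  have hradc : ∀ x, x ∈ Rad ↔ ∀ y, χ' ⟨⁅x, y⁆, hcZ x y⟩ = 1 := by
    intro x
    refine forall_congr' fun y => ⟨fun h => ?_, fun h => ?_⟩
    · rw [hxy] at h
      have := smul_rep_inj ρR (c := (χ' ⟨⁅x, y⁆, hcZ x y⟩ : k)) (d := 1) (x := y * x) (by rw [one_smul]; exact h)
      exact Units.ext this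
    · rw [hxy, h, Units.val_one, one_smul]
  have hZRad : Z ≤ Rad := fun z hz y => by rw [hZc y z hz]
  have hRad0 : (⟨x₀, hx₀⟩ : R) ∉ Rad := by
    intro h
    apply hfne
    have h2 := (hradc _).1 h ⟨y₀, hy₀⟩
    have hz : ⁅x₀, y₀⁆ ∈ Y := ⟨⁅(⟨x₀, hx₀⟩ : R), (⟨y₀, hy₀⟩ : R)⁆, hcZ _ _,
      by simp [commutatorElement_def]⟩
    rw [LinearMap.sub_apply, Module.End.one_apply, sub_eq_zero, show ρ ⁅x₀, y₀⁆ f = _ from hf ⟨_, hz⟩,
      show χ ⟨_, hz⟩ = 1 from ?_, Units.val_one, one_smul]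
    rw [← h2]
    exact congrArg χ (Subtype.ext (map_commutatorElement R.subtype ⟨x₀, hx₀⟩ ⟨y₀, hy₀⟩).symm)
  -- elements of `S` in the stabilizer normalize the radical
  have hu : ∀ (b : Sχ) (hb : (b : H) ∈ S) (x : R), σ b * ρR x = ρR (θ ⟨b, hSR hb⟩ x) * σ b :=
    fun b hb x => LinearMap.ext fun v => Subtype.ext (by
      rw [Module.End.mul_apply, Module.End.mul_apply, hσv, hρR, hρR, hσv, hθv, ← rep_mul_apply,
        ← rep_mul_apply, inv_mul_cancel_right])
  have hRadE : ∀ (b : Sχ) (hb : (b : H) ∈ S), ∀ x ∈ Rad, θ ⟨b, hSR hb⟩ x ∈ Rad := by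
    intro b hb x hx y
    obtain ⟨y, rfl⟩ := (θ ⟨b, hSR hb⟩).surjective y
    have hcan : ∀ {X X' : Module.End k U}, X * σ b = X' * σ b → X = X' := fun {X X'} e => by
      have := congrArg (· * σ b⁻¹) e
      simpa [mul_assoc, ← map_mul] using this
    refine hcan ?_
    rw [← map_mul, ← map_mul, ← hu b hb, ← hu b hb, hx y]
  have hRadτ : ∀ x ∈ Rad, τ x ∈ Rad := hRadE ⟨t, htS⟩ hzS
  -- every element of the radical is a commutator with `t` modulo `Z`
  have hRadsurj : ∀ x ∈ Rad, ∃ y ∈ Rad, (y⁻¹ * τ y)⁻¹ * x ∈ Z := by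
    intro x hx
    let g : (Rad.map (QuotientGroup.mk' Z)) → (Rad.map (QuotientGroup.mk' Z)) := fun v => ⟨ψ v.1, by
      obtain ⟨y, hy, hyv⟩ := v.2
      exact ⟨y⁻¹ * τ y, mul_mem (inv_mem hy) (hRadτ y hy), by rw [← hyv]; rfl⟩⟩
    have hg : Function.Injective g := fun u v e => Subtype.ext (hψinj (congrArg Subtype.val e))
    obtain ⟨⟨_, y, hy, rfl⟩, e⟩ := Finite.injective_iff_surjective.1 hg ⟨_, mem_map_of_mem _ hx⟩
    exact ⟨y, hy, QuotientGroup.eq.1 (congrArg Subtype.val e)⟩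
  -- the radical acts by scalars
  have hRadscal : ∀ x ∈ Rad, x ∈ scalarSub ρR := by
    intro x hx
    obtain ⟨y, hy, hyz⟩ := hRadsurj x hx
    obtain ⟨z, hzdef⟩ : ∃ z : Z, z = ⟨_, hyz⟩ := ⟨_, rfl⟩
    refine ⟨χ' z, sub_eq_zero.1 ?_⟩
    let Rd : Subgroup Sχ := Rad.map (inclusion hRS)
    haveI := Fintype.ofFinite Rd
    have hRdk : (Fintype.card Rd : k) ≠ 0 := by
      rw [← Nat.card_eq_fintype_card, card_map_of_injective (inclusion_injective hRS),
        ← card_map_of_injective R.subtype_injective]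
      exact hRcard (map_subtype_le _)
    have hRdi : ImgComm σ Rd := by
      rintro _ ⟨u, hu, rfl⟩ _ ⟨v, hv, rfl⟩
      rw [← map_mul, ← map_mul]
      exact hu v
    refine eq_zero_of_forall_eigen σ hRdi hRdk _ ?_ ?_
    · rintro _ ⟨u, hu, rfl⟩ v
      show (ρR x - (χ' z : k) • 1 : Module.End k U) (ρR u v) = ρR u ((ρR x - (χ' z : k) • 1 : Module.End k U) v)
      rw [LinearMap.sub_apply, LinearMap.sub_apply, map_sub, LinearMap.smul_apply, LinearMap.smul_apply,
        Module.End.one_apply, Module.End.one_apply, map_smul, ← Module.End.mul_apply,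
        ← Module.End.mul_apply, ← map_mul, ← map_mul, hx u]
    intro μ g hg
    by_cases hg0 : g = 0
    · rw [hg0, map_zero]
    have htμ : (⟨t, htS⟩ : Sχ) ∈ charStab Rd μ := by
      have hle : L ≤ (charStab Rd μ).map Sχ.subtype := by
        rw [hL, Subgroup.closure_le]
        rintro _ ⟨h, hh, rfl⟩
        obtain ⟨m, b, hbS, hbm, hbN, hbdeg⟩ := hblock h hh
        have hbRd : b ∈ normalizer (Rd : Set Sχ) := by
          refine mem_normalizer_fintype ?_
          rintro _ ⟨u, hu, rfl⟩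
          exact ⟨θ ⟨b, hSR hbS⟩ u, hRadE b hbS u hu, Subtype.ext (hθv _ _ u)⟩
        refine ⟨b ^ p ^ m, ?_, by rw [map_pow]; exact hbm⟩
        by_contra hnot
        refine sub_one_pow_free σ hRdk hbRd hg hg0 (fun i hi hi0 hmem => ?_)
          (by rw [hbdeg, LinearMap.zero_apply])
        obtain ⟨j, hj, hjm⟩ := exists_pow_prime_mem hp hbN hi0 hmem
        have hjm' : j ≤ m := by
          by_contra h
          have := (Nat.pow_le_pow_right hp.pos (show m + 1 ≤ j by omega)).trans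
            (Nat.le_of_dvd (Nat.pos_of_ne_zero hi0) hj)
          omega
        refine hnot ?_
        rw [← Nat.add_sub_cancel' hjm', pow_add, pow_mul]
        exact pow_mem hjm _
      obtain ⟨s, hs, hst⟩ := hle (commutator_le_self L hzL)
      exact (Subtype.ext hst : s = ⟨t, htS⟩) ▸ hs
    obtain ⟨htn, htw⟩ := htμ
    have hyR : inclusion hRS y ∈ Rd := mem_map_of_mem _ hy
    have hτyR : inclusion hRS (τ y) ∈ Rd := mem_map_of_mem _ (hRadτ y hy)
    have hμ : μ ⟨_, hτyR⟩ = μ ⟨_, hyR⟩ := by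
      have e1 := DFunLike.congr_fun htw ⟨_, hτyR⟩
      rw [twist_apply] at e1
      rw [← e1]
      refine congrArg μ (Subtype.ext (Subtype.ext ?_))
      show t⁻¹ * ((τ y : R) : H) * t = (y : H)
      rw [hτv]
      group
    have e1 : σ (inclusion hRS (y⁻¹ * τ y)) g = g := by
      rw [show inclusion hRS (y⁻¹ * τ y) = ((⟨_, hyR⟩⁻¹ * ⟨_, hτyR⟩ : Rd) : Sχ) from by rw [map_mul, map_inv]; rfl,
        hg, map_mul, map_inv, hμ, inv_mul_cancel, Units.val_one, one_smul]
    have e2 : ρR x g = (χ' z : k) • g := by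
      rw [show x = (y⁻¹ * τ y) * (z : R) by rw [hzdef]; group, map_mul, hχ', Module.End.mul_apply,
        LinearMap.smul_apply, Module.End.one_apply, map_smul]
      exact congrArg _ e1
    rw [LinearMap.sub_apply, LinearMap.smul_apply, Module.End.one_apply, e2, sub_self]
  have hsc : scalarSub ρR = Rad := by
    refine le_antisymm (fun x hx y => ?_) hRadscal
    obtain ⟨c, hc⟩ := hx
    rw [map_mul, map_mul, hc, smul_mul_assoc, one_mul, mul_smul_comm, mul_one]
  have hE : ClassTwo ρR := fun x y => by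
    refine ⟨χ' ⟨⁅x, y⁆, hcZ x y⟩, ?_⟩
    rw [← hχ' ⟨⁅x, y⁆, hcZ x y⟩]
    rfl
  have hnd : Nondeg ρR := fun x hx => hRadscal x hx
  have hmk : (Nat.card (ScalarQuot ρR) : k) ≠ 0 := by
    obtain ⟨e, he⟩ := IsPGroup.iff_card.1 hR
    obtain ⟨i, -, hi⟩ := (Nat.dvd_prime_pow hr).1 (he ▸ (scalarSub ρR).card_quotient_dvd_card)
    rw [show Nat.card (ScalarQuot ρR) = 2 ^ i from hi, Nat.cast_pow]
    exact pow_ne_zero _ hrk
  -- the quotient by the radical
  have hsq : ∀ x : R, x * x ∈ scalarSub ρR := fun x => by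
    rw [hsc, ← pow_two]
    exact hZRad (CfsgLib.Coprime.pow_mem_frattini hR x)
  have hfp : ∀ x : R, x⁻¹ * τ x ∈ Rad → x ∈ Rad := fun x hx => by
    obtain ⟨y, hy, hyz⟩ := hRadsurj _ hx
    have h1 : ψ (x : R ⧸ Z) = ψ (y : R ⧸ Z) := by
      rw [hψ, hψ]; exact (QuotientGroup.eq.2 hyz).symm
    have h2 := QuotientGroup.eq.1 (hψinj h1)
    have h3 := mul_mem hy (inv_mem (hZRad h2))
    rwa [mul_inv_rev, inv_inv, mul_inv_cancel_left] at h3
  haveI hRadn : Rad.Normal := hsc ▸ scalarSub_normal ρR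
  letI : CommGroup (R ⧸ Rad) :=
    { QuotientGroup.Quotient.group Rad with
      mul_comm := fun a b => by
        obtain ⟨x, rfl⟩ := QuotientGroup.mk_surjective a
        obtain ⟨y, rfl⟩ := QuotientGroup.mk_surjective b
        refine (QuotientGroup.eq (s := Rad)).2 ?_
        rw [show (x * y)⁻¹ * (y * x) = ⁅y⁻¹, x⁻¹⁆ by rw [commutatorElement_def]; group]
        exact hZRad (hcZ _ _) }
  let A : Subgroup H := S ⊓ Sχ
  have hAS : ∀ a : A, (a : H) ∈ S := fun a => (Subgroup.mem_inf.1 a.2).1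
  have hAχ : ∀ a : A, (a : H) ∈ Sχ := fun a => (Subgroup.mem_inf.1 a.2).2
  let θA : A →* MulAut R := θ.comp (inclusion ((inf_le_left : A ≤ S).trans hSR))
  have hθA : ∀ a : A, Rad.map (θA a : R →* R) = Rad := fun a => eq_of_le_of_card_ge
    (map_le_iff_le_comap.2 (hRadE ⟨a, hAχ a⟩ (hAS a))) (card_map_of_injective (θA a).injective).ge
  let act : A →* MulAut (R ⧸ Rad) :=
    { toFun := fun a => QuotientGroup.congr Rad Rad (θA a) (hθA a)
      map_one' := MulEquiv.ext fun v => by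
        induction v using QuotientGroup.induction_on with | _ x =>
        show ((θA 1 x : R) : R ⧸ Rad) = _
        rw [map_one]; rfl
      map_mul' := fun a b => MulEquiv.ext fun v => by
        induction v using QuotientGroup.induction_on with | _ x =>
        show ((θA (a * b) x : R) : R ⧸ Rad) = _
        rw [map_mul]; rfl }
  have hact : ∀ (a : A) (x : R), act a (x : R ⧸ Rad) = ((θA a x : R) : R ⧸ Rad) := fun _ _ => rfl
  let zA : A := ⟨t, Subgroup.mem_inf.2 ⟨hzS, htS⟩⟩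
  have hτA : θA zA = τ := rfl
  have hMexp : ∀ v : R ⧸ Rad, v ^ 2 = 1 := fun v => by
    obtain ⟨x, rfl⟩ := QuotientGroup.mk_surjective v
    rw [pow_two]
    exact (QuotientGroup.eq_one_iff _).2 (hsc ▸ hsq x)
  have hzc' : ∀ h ∈ act.range, h * act zA = act zA * h := by
    rintro _ ⟨a, rfl⟩
    rw [← map_mul, ← map_mul]
    exact congrArg act (Subtype.ext (hzc a (hAS a)))
  -- the socles act quadratically
  have hquad : ∀ g (hg : g ∈ S), ∃ b : A, (b : H) = g ^ p ^ n ∧ (act b) ^ p = 1 ∧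
      ∃ a : ℕ, ∀ v, act b (v⁻¹ * act b v) = ((act zA) ^ a) (v⁻¹ * act b v) := by
    intro g hg
    obtain ⟨m, b, hbS, hbm, hbN, hbdeg⟩ := hblock g hg
    set bA : A := ⟨g ^ p ^ n, Subgroup.mem_inf.2 ⟨pow_mem hg _, hsoc g hg⟩⟩
    refine ⟨bA, rfl, by
      rw [← map_pow, show bA ^ p = 1 from Subtype.ext (by
        show (g ^ p ^ n) ^ p = 1
        rw [← pow_mul, ← pow_succ, hexp g hg]), map_one], ?_⟩
    let β : MulAut R := θ ⟨b, hSR hbS⟩
    have hβpow : ∀ i : ℕ, β ^ i = θ ⟨(b : H) ^ i, hSR (pow_mem hbS i)⟩ := fun i => by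
      rw [← map_pow]; exact congrArg θ (Subtype.ext (by simp))
    have hτeq : β ^ p ^ m = θA bA := by
      rw [hβpow]; exact congrArg θ (Subtype.ext hbm)
    obtain ⟨a, ha⟩ := exists_quadratic ρR hE hnd hR hsq hp2 β
      (MulEquiv.ext fun x => Subtype.ext (by
        rw [hβpow, hθv, show (b : H) ^ p ^ (m + 1) = 1 from by
          rw [← SubgroupClass.coe_pow, hbN, OneMemClass.coe_one], one_mul, inv_one, mul_one]
        rfl))
      (σ b) (by rw [← map_pow, hbN, map_one]) (fun x => hu b hbS x) hbdeg τ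
      (hsc ▸ hRadτ) (by
        rw [hτ, commute_iff_eq, ← map_mul, ← map_mul]
        exact congrArg θ (Subtype.ext (hzc b hbS).symm))
      (fun x => by
        rw [hsc, ← QuotientGroup.eq, ← hτA, ← map_pow, ← hact, map_pow]
        have hz : (act zA) ^ p = 1 := by
          rw [← map_pow, show zA ^ p = 1 from Subtype.ext hzp, map_one]
        rw [hz, MulAut.one_apply])
      (by rw [hsc]; exact hfp)
    refine ⟨a, fun v => ?_⟩
    obtain ⟨x, rfl⟩ := QuotientGroup.mk_surjective v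
    rw [hact, ← QuotientGroup.mk_inv, ← QuotientGroup.mk_mul, hact, ← map_pow, hact, map_pow, hτA, ← hτeq,
      eq_comm, QuotientGroup.eq, ← hsc]
    exact ha x
  -- the socles commute on the quotient, so `t` acts trivially
  let LA : Subgroup A := L.subgroupOf A
  let Sc : Set A := {b | ∃ g ∈ S, (b : H) = g ^ p ^ n}
  have hLA : LA ≤ closure Sc := by
    intro a ha
    have h1 : L ≤ (closure Sc).map A.subtype := by
      rw [hL, Subgroup.closure_le]
      rintro _ ⟨g, hg, rfl⟩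
      exact ⟨⟨g ^ p ^ n, Subgroup.mem_inf.2 ⟨pow_mem hg _, hsoc g hg⟩⟩, subset_closure ⟨g, hg, rfl⟩, rfl⟩
    obtain ⟨b, hb, hba⟩ := h1 ha
    exact (Subtype.ext hba : b = a) ▸ hb
  have hSA : IsPGroup p A := hS.to_le inf_le_left
  have hgen : ∀ b ∈ Sc, ∀ c ∈ Sc, act b * act c = act c * act b := by
    rintro b ⟨g, hg, hb⟩ c ⟨h, hh, hc⟩
    obtain ⟨b', hb', hbp, hbq⟩ := hquad g hg
    obtain ⟨c', hc', hcp, hcq⟩ := hquad h hh
    obtain rfl : b = b' := Subtype.ext (hb.trans hb'.symm)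
    obtain rfl : c = c' := Subtype.ext (hc.trans hc'.symm)
    exact commute_of_quadratic hMexp hp2 hrp act.range
      (hSA.of_surjective act.rangeRestrict act.rangeRestrict_surjective) ⟨zA, rfl⟩ hzc'
      ⟨b, rfl⟩ ⟨c, rfl⟩ hbp hcp hbq hcq
  have hcomm : ∀ b ∈ closure Sc, ∀ c ∈ closure Sc, act b * act c = act c * act b := by
    have h1 : ∀ c ∈ Sc, closure Sc ≤ (centralizer {act c}).comap act := fun c hc =>
      (Subgroup.closure_le _).2 fun b hb => mem_centralizer_singleton_iff.2 (hgen b hb c hc)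
    intro b hb c hc
    have h2 : closure Sc ≤ (centralizer {act b}).comap act := (Subgroup.closure_le _).2 fun c' hc' =>
      mem_centralizer_singleton_iff.2 (mem_centralizer_singleton_iff.1 (h1 c' hc' hb)).symm
    exact (mem_centralizer_singleton_iff.1 (h2 hc)).symm
  have hker : ⁅L, L⁆ ≤ act.ker.map A.subtype := by
    rw [commutator_le]
    intro a ha b hb
    have haA : a ∈ A := Subgroup.mem_inf.2 ⟨hLS ha, hLχ ha⟩
    have hbA : b ∈ A := Subgroup.mem_inf.2 ⟨hLS hb, hLχ hb⟩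
    refine ⟨⁅(⟨a, haA⟩ : A), (⟨b, hbA⟩ : A)⁆, ?_, rfl⟩
    rw [SetLike.mem_coe, MonoidHom.mem_ker, map_commutatorElement, commutatorElement_eq_one_iff_mul_comm]
    exact hcomm _ (hLA ha) _ (hLA hb)
  obtain ⟨a, ha, hat⟩ := hker hzL
  obtain rfl : a = zA := Subtype.ext hat
  refine hRad0 (hfp _ ?_)
  have h1 := DFunLike.congr_fun (MonoidHom.mem_ker.1 ha) ((⟨x₀, hx₀⟩ : R) : R ⧸ Rad)
  rw [hact, hτA, MulAut.one_apply] at h1
  exact QuotientGroup.eq.1 h1.symm

end CfsgLib.PGroup.ModularB
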