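import Mathlib.Algebra.Module.ZMod
import Mathlib.Algebra.Group.TransferInstance
import Cfsg.Agent.Lib.PGroup.ModularB.PLength
import Cfsg.Agent.Lib.Fusion.ThompsonComplement
import Cfsg.Agent.Lib.CFun.SectionInd

/-!
# An element with non-vanishing norm gives a section `C_p ≀ C_p`
-/

set_option autoImplicit false
set_option linter.style.haveILetI false

open Subgroup

namespace CfsgLib.PGroup.ModularB

universe u v

/-- The structure of `C_p ≀ C_p`. -/
def IsWreath (p : ℕ) (W : Type u) [Group W] : Prop :=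
  ∃ (B : Subgroup W) (t : W), B.Normal ∧ IsMulCommutative B ∧ (∀ b ∈ B, b ^ p = 1) ∧ Nat.card B = p ^ p ∧
    orderOf t = p ∧ t ∉ B ∧ Nat.card W = p ^ (p + 1) ∧
    Nat.card ↥(B ⊓ Subgroup.centralizer ({t} : Set W)) = p

theorem IsWreath.of_mulEquiv {p : ℕ} {W : Type u} [Group W] {W' : Type v} [Group W'] (e : W ≃* W')
    (h : IsWreath p W) : IsWreath p W' := by
  obtain ⟨B, t, hn, hc, hexp, hB, ht, htB, hW, hcent⟩ := h
  have hinj : Function.Injective e.toMonoidHom := e.injective
  refine ⟨B.map e.toMonoidHom, e t, hn.map _ e.surjective, ?_, ?_, ?_, ?_, ?_, ?_, ?_⟩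
  · refine isMulCommutative_iff.2 ?_
    rintro ⟨_, a, ha, rfl⟩ ⟨_, b, hb, rfl⟩
    refine Subtype.ext ?_
    show e a * e b = e b * e a
    rw [← map_mul, ← map_mul]
    exact congrArg e (congrArg Subtype.val (isMulCommutative_iff.1 hc ⟨a, ha⟩ ⟨b, hb⟩))
  · rintro _ ⟨b, hb, rfl⟩
    rw [← map_pow, hexp b hb, map_one]
  · rw [card_map_of_injective hinj, hB]
  · exact (orderOf_injective e.toMonoidHom hinj t).trans ht
  · rintro ⟨b, hb, hbt⟩
    exact htB (hinj hbt ▸ hb)
  · rw [← Nat.card_congr e.toEquiv, hW]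
  · rw [← hcent, ← card_map_of_injective hinj (K := B ⊓ centralizer {t})]
    congr 2
    ext y
    obtain ⟨y, rfl⟩ := e.surjective y
    simp only [Subgroup.mem_inf, Subgroup.mem_map, Subgroup.mem_centralizer_singleton_iff,
      MulEquiv.coe_toMonoidHom, e.injective.eq_iff, exists_eq_right, ← map_mul]

/-- No section of a `p`-subgroup of `G` is `C_p ≀ C_p`. -/
def NoWreath (p : ℕ) (G : Type u) [Group G] : Prop :=
  ∀ (W : Type) [Group W] [Finite W], IsWreath p W →
    ∀ T : Subgroup G, IsPGroup p T → ¬ Cfsg.Involves W T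

variable {G : Type u} [Group G] [Finite G] {p : ℕ} [hp : Fact p.Prime]

omit [Finite G] in
theorem noWreath_of_sylow [Finite (Sylow p G)] (P : Sylow p G)
    (h : ∀ (W : Type) [Group W] [Finite W], IsWreath p W → ¬ Cfsg.Involves W (P : Subgroup G)) :
    NoWreath p G := by
  intro W _ _ hW T hT hinv
  obtain ⟨S, hS⟩ := hT.exists_le_sylow
  exact h W hW (CfsgLib.Fusion.involves_of_injective (S.equiv P).toMonoidHom (S.equiv P).injective
    (CfsgLib.Fusion.involves_of_injective (Subgroup.inclusion hS) (Subgroup.inclusion_injective hS) hinv))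

theorem NoWreath.quotient (h : NoWreath p G) (N : Subgroup G) [N.Normal] : NoWreath p (G ⧸ N) := by
  intro W _ _ hW T hT hinv
  obtain ⟨T', hT'⟩ := hT.exists_le_sylow
  obtain ⟨S, hS⟩ := Sylow.mapSurjective_surjective (QuotientGroup.mk'_surjective N) p T'
  have hST : T ≤ (S : Subgroup G).map (QuotientGroup.mk' N) := by
    rw [← Sylow.coe_mapSurjective (QuotientGroup.mk'_surjective N) S, hS]; exact hT'
  refine h W hW S S.2 (CfsgLib.Fusion.involves_of_surjective
    ((QuotientGroup.mk' N).subgroupMap (S : Subgroup G)) (MonoidHom.subgroupMap_surjective _ _) ?_)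
  exact CfsgLib.Fusion.involves_of_injective (Subgroup.inclusion hST) (Subgroup.inclusion_injective hST) hinv

/-- A vector with non-vanishing norm generates a regular module. -/
theorem exists_regular {V : Type u} [CommGroup V] [Finite V] (hV : ∀ v : V, v ^ p = 1) (f : MulAut V)
    (hf : f ^ p = 1) (v : V) (hv : ∏ i ∈ Finset.range p, (f ^ i) v ≠ 1) :
    ∃ M : Subgroup V, Nat.card M = p ^ p ∧ (∀ m ∈ M, f m ∈ M) ∧ v ∈ M ∧
      (∏ i ∈ Finset.range p, (f ^ i) v) ∈ M ∧
      ∀ m ∈ M, f m = m → m ∈ zpowers (∏ i ∈ Finset.range p, (f ^ i) v) := by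
  classical
  have hp1 := hp.out.one_lt
  haveI : Module (ZMod p) (Additive V) := AddCommGroup.zmodModule fun u : Additive V => hV u.toMul
  let F : Module.End (ZMod p) (Additive V) := (MonoidHom.toAdditive (f : V →* V)).toZModLinearMap p
  have hF : ∀ w : V, F (Additive.ofMul w) = Additive.ofMul (f w) := fun w => rfl
  have hFi : ∀ (i : ℕ) (w : V), (F ^ i) (Additive.ofMul w) = Additive.ofMul ((f ^ i) w) := by
    intro i
    induction i with
    | zero => intro w; rfl
    | succ i ih => intro w; rw [pow_succ', pow_succ', Module.End.mul_apply, ih, hF]; rfl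
  let N := F - 1
  set x : Additive V := Additive.ofMul v with hx
  set u : Additive V := (N ^ (p - 1)) x with hu
  have hu' : u = Additive.ofMul (∏ i ∈ Finset.range p, (f ^ i) v) := by
    have e := sub_one_pow_geom (k := ZMod p) (p := p) F 1
    rw [pow_one] at e
    rw [hu, e, LinearMap.sum_apply, ofMul_prod]
    exact Finset.sum_congr rfl fun i _ => hFi i v
  have hu0 : u ≠ 0 := fun h0 => hv (Additive.ofMul.injective (hu'.symm.trans h0))
  have hNp : N ^ p = 0 := by
    have e := sub_one_pow_prime_pow (k := ZMod p) (p := p) F 1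
    rw [pow_one] at e
    rw [e, sub_eq_zero]
    refine LinearMap.ext fun w => ?_
    rw [← ofMul_toMul w, hFi, hf]
    rfl
  let L : (Fin p → ZMod p) →ₗ[ZMod p] Additive V :=
    { toFun := fun c => ∑ i, c i • (N ^ (i : ℕ)) x
      map_add' := fun c d => by simp only [Pi.add_apply, add_smul, Finset.sum_add_distrib]
      map_smul' := fun a c => by simp only [Pi.smul_apply, smul_eq_mul, mul_smul, RingHom.id_apply, Finset.smul_sum] }
  have hLdef : ∀ c, L c = ∑ i, c i • (N ^ (i : ℕ)) x := fun c => rfl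
  have hzero : ∀ j, p ≤ j → (N ^ j) x = 0 := fun j hj => by
    rw [pow_eq_zero_of_le hj hNp, LinearMap.zero_apply]
  have hkey : ∀ (s : ℕ) (c : Fin p → ZMod p), (N ^ s) (L c) = 0 → ∀ i : Fin p, (i : ℕ) + s < p → c i = 0 := by
    intro s c hc
    by_contra hne
    push Not at hne
    obtain ⟨i, hi, hci⟩ := hne
    obtain ⟨i₀, hi₀, hmin⟩ := Finset.exists_min_image (Finset.univ.filter fun i : Fin p => (i : ℕ) + s < p ∧ c i ≠ 0)
      (fun i => (i : ℕ)) ⟨i, by simp [hi, hci]⟩
    simp only [Finset.mem_filter, Finset.mem_univ, true_and] at hi₀ hmin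
    have h1 := congrArg (N ^ (p - 1 - ((i₀ : ℕ) + s))) hc
    rw [map_zero, ← Module.End.mul_apply, ← pow_add, hLdef, map_sum, Finset.sum_eq_single i₀] at h1
    · rw [map_smul, ← Module.End.mul_apply, ← pow_add,
        show p - 1 - ((i₀ : ℕ) + s) + s + (i₀ : ℕ) = p - 1 by omega, ← hu] at h1
      exact hi₀.2 ((smul_eq_zero.1 h1).resolve_right hu0)
    · intro j _ hj
      rw [map_smul, ← Module.End.mul_apply, ← pow_add]
      by_cases hjc : c j = 0
      · rw [hjc, zero_smul]
      rw [hzero _ ?_, smul_zero]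
      by_cases hjs : (j : ℕ) + s < p
      · have := hmin j ⟨hjs, hjc⟩
        have hne : (i₀ : ℕ) ≠ j := fun e => hj (Fin.ext e).symm
        omega
      · omega
    · exact fun h => absurd (Finset.mem_univ _) h
  have hLinj : Function.Injective L := (injective_iff_map_eq_zero L).2 fun c hc =>
    funext fun i => hkey 0 c (by rw [pow_zero]; exact hc) i (by omega)
  have hmem : ∀ j, (N ^ j) x ∈ LinearMap.range L := by
    intro j
    by_cases hj : j < p
    · refine ⟨Pi.single ⟨j, hj⟩ 1, ?_⟩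
      rw [hLdef, Finset.sum_eq_single (⟨j, hj⟩ : Fin p)]
      · rw [Pi.single_eq_same, one_smul]
      · intro i _ hi; rw [Pi.single_eq_of_ne hi, zero_smul]
      · exact fun h => absurd (Finset.mem_univ _) h
    · rw [hzero j (by omega)]; exact zero_mem _
  let M : Subgroup V := AddSubgroup.toSubgroup' (LinearMap.range L).toAddSubgroup
  refine ⟨M, ?_, ?_, ?_, ?_, ?_⟩
  · calc Nat.card M = Nat.card (LinearMap.range L) := Nat.card_congr
          (Equiv.subtypeEquiv Additive.ofMul fun _ => Iff.rfl)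
      _ = p ^ p := by
        rw [← Nat.card_congr (LinearEquiv.ofInjective L hLinj).toEquiv, Nat.card_fun, Nat.card_zmod,
          Nat.card_fin]
  · intro m hm
    obtain ⟨c, hc⟩ := hm
    change L c = Additive.ofMul m at hc
    show Additive.ofMul (f m) ∈ LinearMap.range L
    rw [← hF, ← hc, show F = N + 1 by simp [N], LinearMap.add_apply, Module.End.one_apply, hLdef, map_sum]
    refine add_mem (Submodule.sum_mem _ fun i _ => ?_) (hLdef c ▸ LinearMap.mem_range_self L c)
    rw [map_smul, ← Module.End.mul_apply, ← pow_succ']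
    exact Submodule.smul_mem _ _ (hmem _)
  · show x ∈ LinearMap.range L
    simpa using hmem 0
  · show Additive.ofMul (∏ i ∈ Finset.range p, (f ^ i) v) ∈ LinearMap.range L
    rw [← hu']
    exact hmem _
  · intro m ⟨c, hc⟩ hfix
    change L c = Additive.ofMul m at hc
    have h1 : N (L c) = 0 := by
      rw [hc, LinearMap.sub_apply, Module.End.one_apply, hF, hfix, sub_self]
    have hc0 : ∀ i : Fin p, (i : ℕ) + 1 < p → c i = 0 := hkey 1 c (by rw [pow_one]; exact h1)
    set i₁ : Fin p := ⟨p - 1, by omega⟩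
    rw [hLdef, Finset.sum_eq_single i₁] at hc
    · refine ⟨((c i₁).val : ℤ), ?_⟩
      simp only [zpow_natCast]
      apply Additive.ofMul.injective
      rw [ofMul_pow, ← hu', ← hc, ← Nat.cast_smul_eq_nsmul (ZMod p), ZMod.natCast_zmod_val]
    · intro i _ hi
      rw [hc0 i (by have := i.2; have : (i : ℕ) ≠ p - 1 := fun e => hi (Fin.ext e); omega), zero_smul]
    · exact fun h => absurd (Finset.mem_univ _) h

/-- **The section.** -/
theorem involves_wreath (V : Subgroup G) [V.Normal] (hV : Cfsg.IsElementaryAbelian p V) {x : G}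
    (hxV : x ∉ V) (hxp : x ^ p ∈ V) (hnorm : ∃ v ∈ V, (v * x) ^ p ≠ x ^ p) :
    ∃ (W : Type) (_ : Group W) (_ : Finite W) (T : Subgroup G),
      IsWreath p W ∧ IsPGroup p T ∧ Cfsg.Involves W T := by
  classical
  have hpp := hp.out
  haveI : IsMulCommutative V := hV.1
  letI : CommGroup V :=
    { (inferInstance : Group V) with mul_comm := fun a b => isMulCommutative_iff.1 hV.1 a b }
  let c : G →* MulAut V := MulAut.conjNormal
  obtain ⟨v₀, hv₀, hv₀x⟩ := hnorm
  have hexpand : ∀ w : V, ((w : G) * x) ^ p = (∏ i ∈ Finset.range p, ((c x) ^ i) w : V) * x ^ p := by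
    intro w
    have h := CfsgLib.PGroup.PLengthExponent.mul_pow_eq_prod V.subtype c (fun h w => MulAut.conjNormal_apply h w) w x p
    simpa only [Subgroup.coe_subtype, map_pow] using h
  have hcV : ∀ g ∈ V, c g = 1 := fun g hg => MulEquiv.ext fun w => Subtype.ext (by
    rw [MulAut.conjNormal_apply, MulAut.one_apply, mul_inv_eq_iff_eq_mul]
    exact congrArg Subtype.val (isMulCommutative_iff.1 hV.1 ⟨g, hg⟩ w))
  have hVpow : ∀ w : V, w ^ p = 1 := fun w => Subtype.ext (by simpa using hV.2 w w.2)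
  set nm : V := ∏ i ∈ Finset.range p, ((c x) ^ i) ⟨v₀, hv₀⟩ with hnm
  have hnm1 : nm ≠ 1 := fun e => hv₀x (by rw [hexpand ⟨v₀, hv₀⟩, ← hnm, e, OneMemClass.coe_one, one_mul])
  obtain ⟨M, hMcard, hMinv, hv₀M, hnmM, hMfix⟩ := exists_regular hVpow (c x)
    (by rw [← map_pow]; exact hcV _ hxp) ⟨v₀, hv₀⟩ hnm1
  set Mg : Subgroup G := M.map V.subtype with hMg
  have hMgV : Mg ≤ V := map_subtype_le M
  have hcomm : ∀ a ∈ V, ∀ b ∈ V, a * b = b * a := fun a ha b hb =>
    congrArg Subtype.val (isMulCommutative_iff.1 hV.1 ⟨a, ha⟩ ⟨b, hb⟩)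
  -- the adjusted element
  obtain ⟨y, hyc, hyV, hyp, hyM⟩ : ∃ y, c y = c x ∧ y ∉ V ∧ y ^ p ∈ V ∧ Mg ⊓ zpowers (y ^ p) = ⊥ := by
    by_cases hxM : (⟨x ^ p, hxp⟩ : V) ∈ M
    · have hfix : c x ⟨x ^ p, hxp⟩ = ⟨x ^ p, hxp⟩ := Subtype.ext (by
        rw [MulAut.conjNormal_apply]
        show x * x ^ p * x⁻¹ = x ^ p
        rw [← pow_succ', pow_succ, mul_inv_cancel_right])
      obtain ⟨j, hj⟩ := hMfix _ hxM hfix
      refine ⟨((⟨v₀, hv₀⟩ : V) ^ (-j) : V) * x, ?_, ?_, ?_, ?_⟩
      · rw [map_mul, hcV _ (SetLike.coe_mem _), one_mul]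
      · exact fun h => hxV (by simpa using mul_mem (inv_mem (SetLike.coe_mem ((⟨v₀, hv₀⟩ : V) ^ (-j)))) h)
      all_goals
        have h0 : (((⟨v₀, hv₀⟩ : V) ^ (-j) : V) * x : G) ^ p = 1 := by
          rw [hexpand]
          have e1 : ∏ i ∈ Finset.range p, ((c x) ^ i) ((⟨v₀, hv₀⟩ : V) ^ (-j)) = nm ^ (-j) := by
            rw [hnm, ← Finset.prod_zpow]
            exact Finset.prod_congr rfl fun i _ => map_zpow _ _ _
          rw [e1, show x ^ p = ((nm ^ j : V) : G) from (congrArg Subtype.val hj).symm, ← Subgroup.coe_mul,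
            ← zpow_add, neg_add_cancel, zpow_zero, OneMemClass.coe_one]
      · rw [h0]; exact one_mem V
      · rw [h0, zpowers_one_eq_bot, inf_bot_eq]
    · refine ⟨x, rfl, hxV, hxp, ?_⟩
      rw [eq_bot_iff]
      intro z hz
      obtain ⟨hzM, j, rfl⟩ := hz
      by_contra hne
      apply hxM
      have hop : orderOf (x ^ p) = p := by
        refine orderOf_eq_prime (hV.2 _ hxp) fun e => hne ?_
        simp [e]
      have hnd : ¬ (p : ℤ) ∣ j := fun ⟨r, hr⟩ => hne (by
        rw [mem_bot]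
        show (x ^ p) ^ j = 1
        rw [hr, zpow_mul, zpow_natCast, hV.2 _ hxp, one_zpow])
      have hmem : x ^ p ∈ zpowers ((x ^ p) ^ j) := by
        have hco : IsCoprime j (p : ℤ) := ((Nat.prime_iff_prime_int.1 hpp).coprime_iff_not_dvd.2 hnd).symm
        obtain ⟨a, b, hab⟩ := hco
        refine ⟨a, ?_⟩
        calc ((x ^ p) ^ j) ^ a = (x ^ p) ^ (a * j + b * (p : ℤ)) := by
              rw [zpow_add, mul_comm b, zpow_mul _ (p : ℤ), zpow_natCast, hV.2 _ hxp, one_zpow, mul_one,
                ← zpow_mul, mul_comm]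
          _ = x ^ p := by rw [hab, zpow_one]
      obtain ⟨w, hw, hwx⟩ := (zpowers_le.2 hzM : zpowers ((x ^ p) ^ j) ≤ Mg) hmem
      rwa [show (⟨x ^ p, hxp⟩ : V) = w from Subtype.ext hwx.symm]
  -- the section
  set R : Subgroup G := zpowers (y ^ p) with hR
  set H : Subgroup G := Mg ⊔ zpowers y with hH
  have hHcent : H ≤ centralizer ({y ^ p} : Set G) := by
    refine sup_le ?_ (zpowers_le.2 (mem_centralizer_singleton_iff.2 ((Commute.refl y).pow_right p).eq))
    intro m hm
    exact mem_centralizer_singleton_iff.2 (hcomm m (hMgV hm) _ hyp)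
  haveI hRn : (R.subgroupOf H).Normal := by
    refine ⟨fun r hr g => ?_⟩
    rw [mem_subgroupOf] at hr ⊢
    have hc1 : (g : G) * r = r * g := by
      obtain ⟨j, hj⟩ := hr
      have h1 : (g : G) * (y ^ p) = (y ^ p) * g := mem_centralizer_singleton_iff.1 (hHcent g.2)
      rw [← hj]
      exact (show Commute (g : G) (y ^ p) from h1).zpow_right j
    rwa [Subgroup.coe_mul, Subgroup.coe_mul, hc1, InvMemClass.coe_inv, mul_inv_cancel_right]
  let π := QuotientGroup.mk' (R.subgroupOf H)
  have hπ : ∀ a b : H, π a = π b ↔ (a : G)⁻¹ * b ∈ R := fun a b => by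
    rw [QuotientGroup.mk'_apply, QuotientGroup.mk'_apply, QuotientGroup.eq, mem_subgroupOf]
    rfl
  have hMH : Mg ≤ H := le_sup_left
  let B : Subgroup (H ⧸ R.subgroupOf H) := (Mg.subgroupOf H).map π
  set t := π ⟨y, mem_sup_right (mem_zpowers y)⟩ with htdef
  have hconjM : ∀ m ∈ Mg, y * m * y⁻¹ ∈ Mg := by
    rintro _ ⟨w, hw, rfl⟩
    exact ⟨c x w, hMinv w hw, by rw [← hyc]; exact MulAut.conjNormal_apply y w⟩
  have hyN : y ∈ normalizer (Mg : Set G) := Subgroup.mem_normalizer_fintype hconjM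
  haveI hBn : B.Normal := by
    haveI : (Mg.subgroupOf H).Normal := normal_subgroupOf_iff_le_normalizer hMH |>.2
      (sup_le le_normalizer (zpowers_le.2 hyN))
    exact ‹(Mg.subgroupOf H).Normal›.map _ (QuotientGroup.mk'_surjective _)
  have hRV : R ≤ V := zpowers_le.2 hyp
  have hMinj : ∀ a b : H, (a : G) ∈ Mg → (b : G) ∈ Mg → π a = π b → a = b := by
    intro a b ha hb e
    have h1 : (a : G)⁻¹ * b ∈ Mg ⊓ R := Subgroup.mem_inf.2 ⟨mul_mem (inv_mem ha) hb, (hπ a b).1 e⟩
    rw [hyM, mem_bot, inv_mul_eq_one] at h1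
    exact Subtype.ext h1
  have hBcard : Nat.card B = p ^ p := by
    rw [← hMcard, ← card_map_of_injective (f := V.subtype) V.subtype_injective (K := M), ← hMg,
      ← Nat.card_congr (subgroupOfEquivOfLe hMH).toEquiv]
    exact (Nat.card_congr (Equiv.ofBijective
      (fun a : Mg.subgroupOf H => (⟨π a, mem_map_of_mem π a.2⟩ : B))
      ⟨fun a b e => Subtype.ext (hMinj a b a.2 b.2 (congrArg Subtype.val e)),
        fun ⟨_, a, ha, e⟩ => ⟨⟨a, ha⟩, Subtype.ext e⟩⟩)).symm
  have htp : t ^ p = 1 := by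
    rw [htdef, ← map_pow, ← map_one π, hπ]
    simp [hR]
  have htB : t ∉ B := by
    rintro ⟨a, ha, e⟩
    apply hyV
    have h1 := (hπ a _).1 e
    simpa using mul_mem (hMgV ha) (hRV h1)
  have hord : orderOf t = p := orderOf_eq_prime htp fun e => htB (e ▸ one_mem B)
  have htop : B ⊔ zpowers t = ⊤ := by
    rw [← map_top_of_surjective π (QuotientGroup.mk'_surjective _),
      show (⊤ : Subgroup H) = Mg.subgroupOf H ⊔ (zpowers y).subgroupOf H by
        rw [← Subgroup.subgroupOf_sup hMH le_sup_right, subgroupOf_self],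
      Subgroup.map_sup]
    refine congrArg (B ⊔ ·) ?_
    ext z
    simp only [Subgroup.mem_map, mem_subgroupOf]
    constructor
    · rintro ⟨j, rfl⟩
      exact ⟨⟨y, mem_sup_right (mem_zpowers y)⟩ ^ j, ⟨j, by simp⟩, map_zpow _ _ _⟩
    · rintro ⟨a, ⟨j, hj⟩, rfl⟩
      exact ⟨j, by
        show t ^ j = _
        rw [htdef, ← map_zpow]
        exact congrArg π (Subtype.ext (by simpa using hj))⟩
  have hWcard : Nat.card (H ⧸ R.subgroupOf H) = p ^ (p + 1) := by
    rw [← B.card_mul_index, hBcard, pow_succ, index_eq_card]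
    refine congrArg _ ?_
    have h1 : zpowers (QuotientGroup.mk' B t) = ⊤ := by
      rw [← MonoidHom.map_zpowers, ← map_top_of_surjective _ (QuotientGroup.mk'_surjective B), ← htop,
        Subgroup.map_sup, QuotientGroup.map_mk'_self, bot_sup_eq]
    rw [← Subgroup.card_top (G := (H ⧸ R.subgroupOf H) ⧸ B), ← h1, Nat.card_zpowers]
    exact orderOf_eq_prime (by rw [← map_pow, htp, map_one])
      fun e => htB ((QuotientGroup.eq_one_iff t).1 e)
  have hcent : B ⊓ centralizer ({t} : Set (H ⧸ R.subgroupOf H)) =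
      zpowers (π ⟨(nm : G), hMH (mem_map_of_mem _ hnmM)⟩) := by
    refine le_antisymm ?_ (zpowers_le.2 ?_)
    · rintro _ ⟨⟨a, ha, rfl⟩, hct⟩
      obtain ⟨w, hw, hwa⟩ := ha
      have hct' : π a ∈ centralizer ({t} : Set (H ⧸ R.subgroupOf H)) := hct
      clear hct
      have hct := mem_centralizer_singleton_iff.1 hct'
      rw [htdef, ← map_mul, ← map_mul, hπ] at hct
      have hfix : c x w = w := by
        have hwa' : (w : G) = (a : G) := hwa
        have haM : (a : G) ∈ Mg := ⟨w, hw, hwa'⟩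
        have h2 : (a : G)⁻¹ * (y * a * y⁻¹) ∈ Mg ⊓ R := by
          refine Subgroup.mem_inf.2 ⟨mul_mem (inv_mem haM) (hconjM _ haM), ?_⟩
          simp only [Subgroup.coe_mul, mul_inv_rev] at hct
          obtain ⟨j, hj⟩ := hct
          have hh : Commute y ((y ^ p) ^ j) := ((Commute.refl y).pow_right p).zpow_right j
          have e3 : (a : G)⁻¹ * (y * a * y⁻¹) = y * (y⁻¹ * (a : G)⁻¹ * (y * a)) * y⁻¹ := by group
          refine ⟨j, ?_⟩
          show (y ^ p) ^ j = _
          rw [e3, ← show (y ^ p) ^ j = y⁻¹ * (a : G)⁻¹ * (y * a) from hj, hh.eq, mul_inv_cancel_right]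
        rw [hyM, mem_bot, inv_mul_eq_one] at h2
        refine Subtype.ext ?_
        rw [← hyc, MulAut.conjNormal_apply, hwa']
        exact h2.symm
      obtain ⟨j, hj⟩ := hMfix w hw hfix
      exact ⟨j, by
        show _ ^ j = π a
        rw [← map_zpow]
        exact congrArg π (Subtype.ext (by rw [SubgroupClass.coe_zpow, show (a : G) = (w : G) from hwa.symm, ← hj]; simp [hnm]))⟩
    · refine ⟨mem_map_of_mem π (show (nm : G) ∈ Mg from mem_map_of_mem _ hnmM), ?_⟩
      refine mem_centralizer_singleton_iff.2 ?_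
      rw [htdef, ← map_mul, ← map_mul]
      refine congrArg π (Subtype.ext ?_)
      have hfix : c x nm = nm := by
        rw [hnm, map_prod]
        have e := Finset.prod_range_succ' (fun i => ((c x) ^ i) (⟨v₀, hv₀⟩ : V)) p
        rw [Finset.prod_range_succ, show ((c x) ^ p) = 1 by rw [← map_pow]; exact hcV _ hxp] at e
        simp only [pow_zero] at e
        exact (Finset.prod_congr rfl fun i _ => by rw [pow_succ', MulAut.mul_apply]).trans
          (mul_right_cancel e).symm
      have := congrArg Subtype.val hfix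
      rw [← hyc, MulAut.conjNormal_apply] at this
      exact (mul_inv_eq_iff_eq_mul.1 this).symm
  have hcard : Nat.card ↥(B ⊓ centralizer ({t} : Set (H ⧸ R.subgroupOf H))) = p := by
    rw [hcent, Nat.card_zpowers]
    refine orderOf_eq_prime ?_ fun e => hnm1 ?_
    · rw [← map_pow, ← map_one π]
      exact congrArg π (Subtype.ext (by simpa using congrArg Subtype.val (hVpow nm)))
    · exact Subtype.ext ((congrArg Subtype.val (hMinj _ 1 (mem_map_of_mem V.subtype hnmM) (one_mem Mg)
        (e.trans (map_one π).symm)) : _))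
  have hBc : IsMulCommutative B := by
    refine isMulCommutative_iff.2 ?_
    rintro ⟨_, a, ha, rfl⟩ ⟨_, b, hb, rfl⟩
    refine Subtype.ext ?_
    show π a * π b = π b * π a
    rw [← map_mul, ← map_mul]
    exact congrArg π (Subtype.ext (hcomm a (hMgV ha) b (hMgV hb)))
  have hBexp : ∀ b ∈ B, b ^ p = 1 := by
    rintro _ ⟨a, ha, rfl⟩
    rw [← map_pow, ← map_one π]
    exact congrArg π (Subtype.ext (by simpa using hV.2 a (hMgV ha)))
  have hHp : IsPGroup p H := by
    have hVp : IsPGroup p V := fun w => ⟨1, by simpa using hVpow w⟩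
    refine IsPGroup.to_le (IsPGroup.to_sup_of_normal_right (H := zpowers y) ?_ hVp)
      (sup_le (hMgV.trans le_sup_right) le_sup_left)
    intro g
    refine ⟨2, ?_⟩
    obtain ⟨j, hj⟩ := g.2
    refine Subtype.ext ?_
    rw [SubgroupClass.coe_pow, ← hj, OneMemClass.coe_one, pow_two, pow_mul, ← zpow_natCast (y ^ j) p,
      ← zpow_mul, mul_comm j, zpow_mul, zpow_natCast, ← zpow_natCast ((y ^ p) ^ j) p, ← zpow_mul,
      mul_comm j, zpow_mul, zpow_natCast, hV.2 _ hyp, one_zpow]
  let W := {_i : Fin (Nat.card (H ⧸ R.subgroupOf H)) // True}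
  let e : (H ⧸ R.subgroupOf H) ≃ W :=
    (Finite.equivFin _).trans (Equiv.subtypeUnivEquiv fun _ => trivial).symm
  letI : Group W := e.symm.group
  let me : (H ⧸ R.subgroupOf H) ≃* W := (Equiv.mulEquiv e.symm).symm
  refine ⟨_, inferInstance, inferInstance, H,
    IsWreath.of_mulEquiv me ⟨B, t, hBn, hBc, hBexp, hBcard, hord, htB, hWcard, hcard⟩, hHp, ?_⟩
  let ψ : H →* W := me.toMonoidHom.comp π
  refine CfsgLib.Fusion.involves_of_surjective ψ (me.surjective.comp (QuotientGroup.mk'_surjective _)) ?_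
  exact CfsgLib.CFun.involves_self _

end CfsgLib.PGroup.ModularB
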